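import Cfsg.Agent.Lib.SmallSimple.Basic

/-!
Recognition of alternating groups: groups acting faithfully on few points, subgroups of index `n`
of `A_n`, and the simple group of order 60.
-/

set_option autoImplicit false

namespace Cfsg.Agent.SmallSimple

open Subgroup Equiv

variable {G : Type*} [Group G] [Finite G]

/-- An injective homomorphism to `Perm α` with image of order `|α|!/2` gives `≃* A_m`. -/
theorem mulEquiv_alternating_of_injective {α : Type*} [Finite α] {m : ℕ} (hm : 2 ≤ m)
    (hα : Nat.card α = m) (f : G →* Perm α) (hf : Function.Injective f)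
    (hG : 2 * Nat.card G = m.factorial) : Nonempty (G ≃* alternatingGroup (Fin m)) := by
  classical
  haveI := Fintype.ofFinite α
  obtain ⟨e⟩ : Nonempty (α ≃ Fin m) :=
    ⟨(Fintype.equivFin α).trans (finCongr (by rw [← Nat.card_eq_fintype_card, hα]))⟩
  let g : G →* Perm (Fin m) := e.permCongrHom.toMonoidHom.comp f
  have hg : Function.Injective g := e.permCongrHom.injective.comp hf
  have hcard : Nat.card g.range = Nat.card G :=
    Nat.card_congr (MonoidHom.ofInjective hg).toEquiv.symm
  have hidx : g.range.index = 2 := by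
    have := g.range.card_mul_index
    rw [hcard, Nat.card_perm, Nat.card_fin, ← hG, mul_comm 2] at this
    exact Nat.eq_of_mul_eq_mul_left Nat.card_pos this
  haveI : Nontrivial (Fin m) := Fin.nontrivial_iff_two_le.2 hm
  exact ⟨(MonoidHom.ofInjective hg).trans
    (MulEquiv.subgroupCongr (Equiv.Perm.eq_alternatingGroup_of_index_eq_two hidx))⟩

/-- A simple non-abelian group embeds in the alternating group on the cosets of a proper subgroup. -/
theorem exists_hom_alternating [IsSimpleGroup G] (hG : ¬ IsMulCommutative G) {H : Subgroup G}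
    (hH : H ≠ ⊤) :
    ∃ f : G →* alternatingGroup (Fin H.index), Function.Injective f := by
  classical
  haveI := Fintype.ofFinite (G ⧸ H)
  obtain ⟨e⟩ : Nonempty ((G ⧸ H) ≃ Fin H.index) :=
    ⟨(Fintype.equivFin _).trans (finCongr (by rw [← Nat.card_eq_fintype_card]; rfl))⟩
  let g : G →* Perm (Fin H.index) :=
    e.permCongrHom.toMonoidHom.comp (MulAction.toPermHom G (G ⧸ H))
  have hg : Function.Injective g := e.permCongrHom.injective.comp (toPermHom_injective hH)
  have hmem : ∀ x, g x ∈ alternatingGroup (Fin H.index) := by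
    intro x
    rw [Equiv.Perm.mem_alternatingGroup]
    rcases (MonoidHom.normal_ker (Equiv.Perm.sign.comp g)).eq_bot_or_eq_top with h | h
    · exfalso
      exact hG ⟨⟨fun a b => (MonoidHom.ker_eq_bot_iff _).1 h (by rw [map_mul, map_mul, mul_comm])⟩⟩
    · exact (h ▸ mem_top x : x ∈ (Equiv.Perm.sign.comp g).ker)
  exact ⟨g.codRestrict _ hmem, fun a b h => hg (congrArg Subtype.val h)⟩

theorem card_alternating_fin {m : ℕ} (hm : 2 ≤ m) :
    2 * Nat.card (alternatingGroup (Fin m)) = m.factorial := by
  haveI : Nontrivial (Fin m) := Fin.nontrivial_iff_two_le.2 hm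
  rw [two_mul_nat_card_alternatingGroup, Nat.card_perm, Nat.card_fin]

/-- A subgroup of index `m+1` in `A_{m+1}` (`m ≥ 4`) is isomorphic to `A_m`. -/
theorem mulEquiv_of_index_eq {m : ℕ} (hm : 4 ≤ m) (H : Subgroup (alternatingGroup (Fin (m + 1))))
    (hH : H.index = m + 1) : Nonempty (H ≃* alternatingGroup (Fin m)) := by
  classical
  haveI : IsSimpleGroup (alternatingGroup (Fin (m + 1))) := alternatingGroup.isSimpleGroup (by rw [Nat.card_fin]; omega)
  have htop : H ≠ ⊤ := fun h => by rw [h, index_top] at hH; omega
  let o : (alternatingGroup (Fin (m + 1))) ⧸ H := QuotientGroup.mk 1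
  have hfix : ∀ h : H, (h : (alternatingGroup (Fin (m + 1)))) • o = o := fun h => by
    show QuotientGroup.mk ((h : (alternatingGroup (Fin (m + 1)))) * 1) = o
    rw [QuotientGroup.eq, mul_one, mul_one]
    exact inv_mem h.2
  let act : H →* Perm {x : (alternatingGroup (Fin (m + 1))) ⧸ H // x ≠ o} :=
    { toFun := fun h => (MulAction.toPerm (h : (alternatingGroup (Fin (m + 1))))).subtypePerm (fun x => by
        show (h : (alternatingGroup (Fin (m + 1)))) • x ≠ o ↔ x ≠ o
        rw [not_iff_not]
        constructor
        · intro hx; exact smul_left_cancel (h : (alternatingGroup (Fin (m + 1)))) (hx.trans (hfix h).symm)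
        · rintro rfl; exact hfix h)
      map_one' := by ext x; simp
      map_mul' := fun a b => Equiv.ext fun x => Subtype.ext (mul_smul (a : (alternatingGroup (Fin (m + 1)))) (b : (alternatingGroup (Fin (m + 1)))) x.1) }
  have hinj : Function.Injective act := by
    rw [injective_iff_map_eq_one]
    intro h hh
    refine Subtype.ext (toPermHom_injective htop (Equiv.ext fun x => ?_))
    by_cases hx : x = o
    · subst hx
      simpa using hfix h
    · have := congrArg Subtype.val (Equiv.ext_iff.1 hh ⟨x, hx⟩)
      simpa [act] using this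
  have hcard : Nat.card {x : (alternatingGroup (Fin (m + 1))) ⧸ H // x ≠ o} = m := by
    haveI := Fintype.ofFinite ((alternatingGroup (Fin (m + 1))) ⧸ H)
    rw [Nat.card_eq_fintype_card, Fintype.card_subtype_compl, Fintype.card_subtype_eq,
      ← Nat.card_eq_fintype_card, ← Subgroup.index, hH]
    omega
  refine mulEquiv_alternating_of_injective (by omega) hcard act hinj ?_
  have h1 := card_mul_index H
  have h2 : 2 * Nat.card (alternatingGroup (Fin (m + 1))) = (m + 1).factorial := card_alternating_fin (by omega)
  rw [← h1, hH, Nat.factorial_succ] at h2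
  exact Nat.eq_of_mul_eq_mul_left (show 0 < m + 1 by omega) (by linarith)

/-- The simple group of order 60. -/
theorem mulEquiv_alternating_five [IsSimpleGroup G] (h : Nat.card G = 60) :
    Nonempty (G ≃* alternatingGroup (Fin 5)) := by
  haveI : Fact (Nat.Prime 5) := ⟨by norm_num⟩
  have hnc : ¬ IsMulCommutative G := not_isMulCommutative (by rw [h]; norm_num)
  have h5 : Nat.card (Sylow 5 G) = 6 := by
    obtain ⟨P⟩ : Nonempty (Sylow 5 G) := inferInstance
    have hd : Nat.card (Sylow 5 G) ∣ 60 := by
      have := card_sylow_mul P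
      rw [h] at this
      exact Dvd.intro _ this
    have hm : Nat.card (Sylow 5 G) % 5 = 1 := card_sylow_modEq_one 5 G
    have key : ∀ n ∈ (60 : ℕ).divisors, n % 5 = 1 → n = 1 ∨ n = 6 := by decide
    rcases key _ (Nat.mem_divisors.2 ⟨hd, by norm_num⟩) hm with h1 | h1
    · exact absurd h1 (card_sylow_ne_one hnc (by rw [h]; norm_num))
    · exact h1
  obtain ⟨P⟩ : Nonempty (Sylow 5 G) := inferInstance
  have hidx : (normalizer ((P : Subgroup G) : Set G)).index = 6 :=
    P.card_eq_index_normalizer.symm.trans h5
  have hx := exists_hom_alternating hnc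
    (normalizer_sylow_ne_top hnc (by rw [h]; norm_num) P)
  rw [hidx] at hx
  obtain ⟨f, hf⟩ := hx
  have hr : f.range.index = 5 + 1 := by
    have := f.range.card_mul_index
    rw [Nat.card_congr (MonoidHom.ofInjective hf).toEquiv.symm, h] at this
    have h6 := card_alternating_fin (m := 6) (by norm_num)
    rw [show (6 : ℕ).factorial = 720 by rfl] at h6
    omega
  obtain ⟨e⟩ := mulEquiv_of_index_eq (m := 5) (by norm_num) f.range hr
  exact ⟨(MonoidHom.ofInjective hf).trans e⟩

end Cfsg.Agent.SmallSimple
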