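import Mathlib

/-!
Toolkit for arguments about simple groups of a given order: Sylow numbers, Burnside transfer,
index bounds.
-/

set_option autoImplicit false

namespace Cfsg.Agent.SmallSimple

open Subgroup

variable {G : Type*} [Group G] [Finite G]

theorem not_isMulCommutative [IsSimpleGroup G] (h : ¬ (Nat.card G).Prime) :
    ¬ IsMulCommutative G := by
  intro hc
  letI : CommGroup G := { (inferInstance : Group G) with mul_comm := hc.is_comm.comm }
  exact h IsSimpleGroup.prime_card

theorem center_eq_bot [IsSimpleGroup G] (hG : ¬ IsMulCommutative G) : center G = ⊥ := by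
  rcases (inferInstance : (center G).Normal).eq_bot_or_eq_top with h | h
  · exact h
  · exact absurd ⟨⟨fun a b => (mem_center_iff.1 (h ▸ mem_top b) a)⟩⟩ hG

theorem not_isPGroup [IsSimpleGroup G] (hG : ¬ IsMulCommutative G) (p : ℕ) [Fact p.Prime] :
    ¬ IsPGroup p G := by
  intro h
  have := h.bot_lt_center
  rw [center_eq_bot hG] at this
  exact lt_irrefl _ this

theorem centralizer_singleton_ne_top [IsSimpleGroup G] (hG : ¬ IsMulCommutative G) {t : G}
    (ht : t ≠ 1) : centralizer ({t} : Set G) ≠ ⊤ := by
  intro h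
  have : t ∈ center G := mem_center_iff.2 fun g => by
    have hg : g ∈ centralizer ({t} : Set G) := h ▸ mem_top g
    exact mem_centralizer_singleton_iff.1 hg
  rw [center_eq_bot hG, mem_bot] at this
  exact ht this

/-- A proper subgroup of a simple group gives a faithful action on its cosets. -/
theorem toPermHom_injective [IsSimpleGroup G] {H : Subgroup G} (hH : H ≠ ⊤) :
    Function.Injective (MulAction.toPermHom G (G ⧸ H)) := by
  rw [← MonoidHom.ker_eq_bot_iff, ← normalCore_eq_ker]
  rcases H.normalCore_normal.eq_bot_or_eq_top with h | h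
  · exact h
  · exact absurd (top_le_iff.1 (h ▸ H.normalCore_le)) hH

theorem card_dvd_factorial_index [IsSimpleGroup G] {H : Subgroup G} (hH : H ≠ ⊤) :
    Nat.card G ∣ H.index.factorial := by
  rw [Subgroup.index, ← Nat.card_perm]
  exact Subgroup.card_dvd_of_injective _ (toPermHom_injective hH)

variable {p : ℕ} [Fact p.Prime]

theorem card_sylow_mul (P : Sylow p G) :
    Nat.card (Sylow p G) * Nat.card (normalizer ((P : Subgroup G) : Set G)) = Nat.card G := by
  rw [P.card_eq_index_normalizer]
  exact index_mul_card _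

theorem card_sylow_of_eq {k m : ℕ} (P : Sylow p G) (h : Nat.card G = p ^ k * m) (hm : ¬ p ∣ m) :
    Nat.card P = p ^ k := by
  have hm0 : m ≠ 0 := fun h0 => hm (h0 ▸ dvd_zero p)
  rw [P.card_eq_multiplicity, h, Nat.factorization_mul (pow_ne_zero _ (Fact.out : p.Prime).ne_zero) hm0]
  simp [Nat.Prime.factorization_self (Fact.out : p.Prime),
    Nat.factorization_eq_zero_of_not_dvd hm, Nat.factorization_pow]

theorem sylow_ne_top [IsSimpleGroup G] (hG : ¬ IsMulCommutative G) (P : Sylow p G) :
    (P : Subgroup G) ≠ ⊤ := by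
  intro h
  exact not_isPGroup hG p (fun g => by
    obtain ⟨k, hk⟩ := P.2 ⟨g, h ▸ mem_top g⟩
    exact ⟨k, by simpa using congrArg Subtype.val hk⟩)

theorem sylow_not_normal [IsSimpleGroup G] (hG : ¬ IsMulCommutative G) (hp : p ∣ Nat.card G)
    (P : Sylow p G) : ¬ (P : Subgroup G).Normal := by
  intro h
  rcases h.eq_bot_or_eq_top with h | h
  · exact P.ne_bot_of_dvd_card hp h
  · exact sylow_ne_top hG P h

theorem normalizer_sylow_ne_top [IsSimpleGroup G] (hG : ¬ IsMulCommutative G)
    (hp : p ∣ Nat.card G) (P : Sylow p G) : normalizer ((P : Subgroup G) : Set G) ≠ ⊤ :=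
  fun h => sylow_not_normal hG hp P (normalizer_eq_top_iff.1 h)

theorem card_sylow_ne_one [IsSimpleGroup G] (hG : ¬ IsMulCommutative G) (hp : p ∣ Nat.card G) :
    Nat.card (Sylow p G) ≠ 1 := by
  intro h
  obtain ⟨P⟩ : Nonempty (Sylow p G) := inferInstance
  exact normalizer_sylow_ne_top hG hp P (index_eq_one.1 (P.card_eq_index_normalizer.symm.trans h))

/-- `|G|` divides `n_p !` in a simple non-abelian group. -/
theorem card_dvd_factorial_sylow [IsSimpleGroup G] (hG : ¬ IsMulCommutative G)
    (hp : p ∣ Nat.card G) : Nat.card G ∣ (Nat.card (Sylow p G)).factorial := by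
  obtain ⟨P⟩ : Nonempty (Sylow p G) := inferInstance
  rw [P.card_eq_index_normalizer]
  exact card_dvd_factorial_index (normalizer_sylow_ne_top hG hp P)

/-- Burnside transfer: in a simple non-abelian group `N(P) ≠ C(P)`. -/
theorem not_normalizer_le_centralizer [IsSimpleGroup G] (hG : ¬ IsMulCommutative G)
    (hp : p ∣ Nat.card G) (P : Sylow p G) :
    ¬ normalizer ((P : Subgroup G) : Set G) ≤ centralizer ((P : Subgroup G) : Set G) := by
  intro h
  have hc := MonoidHom.ker_transferSylow_isComplement' P h
  rcases (MonoidHom.normal_ker (MonoidHom.transferSylow P h)).eq_bot_or_eq_top with hk | hk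
  · rw [hk] at hc
    exact sylow_ne_top hG P (isComplement'_bot_left.1 hc)
  · rw [hk] at hc
    exact P.ne_bot_of_dvd_card hp (isComplement'_top_left.1 hc)

theorem centralizer_le_normalizer (H : Subgroup G) :
    centralizer (H : Set G) ≤ normalizer (H : Set G) := by
  intro g hg
  rw [mem_normalizer_iff]
  intro h
  rw [mem_centralizer_iff] at hg
  constructor
  · intro hh
    rw [← hg h hh, mul_inv_cancel_right]; exact hh
  · intro hh
    have h1 := hg _ hh
    have h2 : h * g = g * h := mul_left_cancel (a := g) (by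
      calc g * (h * g) = (g * h * g⁻¹) * g * g := by group
        _ = g * (g * h * g⁻¹) * g := by rw [h1]
        _ = g * (g * h) := by group)
    rw [← h2, mul_inv_cancel_right] at hh
    exact hh

theorem card_normalizer_eq (H : Subgroup G) :
    (centralizer (H : Set G)).relIndex (normalizer (H : Set G)) *
      Nat.card (centralizer (H : Set G)) = Nat.card (normalizer (H : Set G)) :=
  by rw [← relIndex_bot_left, ← relIndex_bot_left, mul_comm,
    relIndex_mul_relIndex _ _ _ bot_le (centralizer_le_normalizer H)]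

/-- `N(H)/C(H)` embeds in `Aut H`. -/
theorem relIndex_dvd_card_mulAut (H : Subgroup G) :
    (centralizer (H : Set G)).relIndex (normalizer (H : Set G)) ∣ Nat.card (MulAut H) := by
  have key := card_dvd_of_injective _ (QuotientGroup.kerLift_injective H.normalizerMonoidHom)
  rwa [normalizerMonoidHom_ker, ← index, ← relIndex] at key

theorem relIndex_dvd_of_card_prime (H : Subgroup G) (hH : Nat.card H = p) :
    (centralizer (H : Set G)).relIndex (normalizer (H : Set G)) ∣ p - 1 := by
  haveI : IsCyclic H := isCyclic_of_prime_card hH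
  have := relIndex_dvd_card_mulAut H
  rwa [IsCyclic.card_mulAut, hH, Nat.totient_prime (Fact.out : p.Prime)] at this

/-- The index of `C(P)` in `N(P)` for `P` of order `p` in a simple non-abelian group. -/
theorem sylow_relIndex [IsSimpleGroup G] (hG : ¬ IsMulCommutative G) (P : Sylow p G)
    (hP : Nat.card P = p) :
    ∃ e : ℕ, e ∣ p - 1 ∧ e ≠ 1 ∧
      e * Nat.card (centralizer ((P : Subgroup G) : Set G)) =
        Nat.card (normalizer ((P : Subgroup G) : Set G)) := by
  refine ⟨_, relIndex_dvd_of_card_prime _ hP, ?_, card_normalizer_eq _⟩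
  intro h
  refine not_normalizer_le_centralizer hG ?_ P (relIndex_eq_one.1 h)
  have := card_subgroup_dvd_card (P : Subgroup G)
  rwa [hP] at this

/-- An element normalising a group of prime order `q`, of order prime to `q - 1`, centralises it. -/
theorem mem_centralizer_of_mem_normalizer {q : ℕ} [Fact q.Prime] (Q : Subgroup G)
    (hQ : Nat.card Q = q) {g : G} (hg : g ∈ normalizer (Q : Set G))
    (hc : (orderOf g).Coprime (q - 1)) : g ∈ centralizer (Q : Set G) := by
  haveI : IsCyclic Q := isCyclic_of_prime_card hQ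
  let f := Q.normalizerMonoidHom
  have h1 : orderOf (f ⟨g, hg⟩) ∣ orderOf g := by
    have := orderOf_map_dvd f (⟨g, hg⟩ : normalizer (Q : Set G))
    rwa [← orderOf_coe] at this
  have h2 : orderOf (f ⟨g, hg⟩) ∣ q - 1 := by
    refine (_root_.orderOf_dvd_natCard _).trans ?_
    rw [IsCyclic.card_mulAut, hQ, Nat.totient_prime (Fact.out : q.Prime)]
  have h3 : orderOf (f ⟨g, hg⟩) = 1 := Nat.eq_one_of_dvd_coprimes hc h1 h2
  rw [orderOf_eq_one_iff] at h3
  have : (⟨g, hg⟩ : normalizer (Q : Set G)) ∈ f.ker := h3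
  rw [normalizerMonoidHom_ker, mem_subgroupOf] at this
  exact this

/-- Sylow number of a subgroup containing a Sylow subgroup. -/
theorem card_sylow_subgroup_mul (P : Sylow p G) (M : Subgroup G) (h : (P : Subgroup G) ≤ M) :
    Nat.card (Sylow p M) *
      Nat.card ↥(normalizer ((P : Subgroup G) : Set G) ⊓ M) = Nat.card M := by
  have h1 := card_sylow_mul (P.subtype h)
  rw [Sylow.coe_subtype, ← subgroupOf_normalizer_eq h] at h1
  convert h1 using 2
  rw [inf_comm]
  exact (Nat.card_congr (subgroupOfEquivOfLe (inf_le_left : M ⊓ normalizer ((P : Subgroup G) : Set G) ≤ M)).toEquiv).symm.trans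
    (by rw [inf_subgroupOf_left])

omit [Fact p.Prime] in
theorem exists_factor_of_dvd_mul {n a b : ℕ} (ha : a ≠ 0) (hb : b ≠ 0) (h : n ∣ a * b) :
    ∃ x ∈ a.divisors, ∃ y ∈ b.divisors, n = x * y := by
  obtain ⟨x, y, hx, hy, rfl⟩ := Nat.dvd_mul.1 h
  exact ⟨x, Nat.mem_divisors.2 ⟨hx, ha⟩, y, Nat.mem_divisors.2 ⟨hy, hb⟩, rfl⟩

end Cfsg.Agent.SmallSimple
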