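import Cfsg.Agent.Lib.SmallSimple.Basic

/-!
No finite group has exactly 21 Sylow 5-subgroups: properties of a minimal counterexample,
namely a primitive action of degree 21, and the case of Sylow subgroups of order at least 25.
-/

set_option autoImplicit false
set_option linter.style.haveILetI false
set_option linter.unusedSectionVars false

namespace Cfsg.Agent.SylowFive

open Subgroup SmallSimple MulAction

instance fact_prime_five : Fact (Nat.Prime 5) := ⟨by norm_num⟩

universe u

section General

variable {G : Type u} [Group G] [Finite G] {p : ℕ} [Fact p.Prime]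

theorem card_sylow_of_normal (P : Sylow p G) (M : Subgroup G) [M.Normal]
    (h : (P : Subgroup G) ≤ M) : Nat.card (Sylow p M) = Nat.card (Sylow p G) := by
  have hM := card_sylow_subgroup_mul P M h
  have hG := card_sylow_mul P
  set N := normalizer ((P : Subgroup G) : Set G) with hN
  have htop : N ⊔ M = ⊤ := Sylow.normalizer_sup_eq_top' P h
  have h1 : M.relIndex N = M.index := by
    rw [← relIndex_top_right M, ← htop, relIndex_sup_right]
  have h2 : Nat.card ↥(N ⊓ M) * M.index = Nat.card N := by
    have := relIndex_mul_relIndex ⊥ (N ⊓ M) N bot_le inf_le_left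
    rwa [relIndex_bot_left, relIndex_bot_left, inf_relIndex_left, h1] at this
  have h3 := card_mul_index M
  rw [← hG, ← h2, ← hM] at h3
  have hpos : 0 < Nat.card ↥(N ⊓ M) * M.index :=
    Nat.mul_pos Nat.card_pos (Nat.pos_of_ne_zero index_ne_zero_of_finite)
  apply Nat.eq_of_mul_eq_mul_right hpos
  rw [← h3, mul_assoc]

theorem exists_conj_of_sylow_le (P Q : Sylow p G) (K : Subgroup G) (hP : (P : Subgroup G) ≤ K)
    (hQ : (Q : Subgroup G) ≤ K) : ∃ k ∈ K, k • P = Q := by
  obtain ⟨k, hk⟩ := exists_smul_eq K (P.subtype hP) (Q.subtype hQ)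
  refine ⟨(k : G), k.2, Sylow.subtype_injective (hP := Sylow.smul_le hP k) (hQ := hQ) ?_⟩
  exact (Sylow.smul_subtype hP k).symm.trans hk

theorem smul_sylow_eq (R : Sylow p G) {g : G} :
    g • R = R ↔ g ∈ normalizer ((R : Subgroup G) : Set G) := Sylow.smul_eq_iff_mem_normalizer

/-- A `p`-subgroup fixing a Sylow subgroup lies in it. -/
theorem le_of_fixes {D : Subgroup G} (hD : IsPGroup p D) (R : Sylow p G)
    (h : ∀ d ∈ D, d • R = R) : D ≤ (R : Subgroup G) := by
  have hle : D ≤ normalizer ((R : Subgroup G) : Set G) := fun d hd => (smul_sylow_eq R).1 (h d hd)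
  have : D ⊓ normalizer ((R : Subgroup G) : Set G) = D ⊓ R := hD.inf_normalizer_sylow R
  rw [inf_eq_left.2 hle] at this
  exact this.le.trans inf_le_right

theorem smul_eq_of_mem (R : Sylow p G) {g : G} (hg : g ∈ (R : Subgroup G)) : g • R = R :=
  (smul_sylow_eq R).2 (le_normalizer hg)

theorem eq_of_fixes (P R : Sylow p G) (h : ∀ d ∈ (P : Subgroup G), d • R = R) : P = R :=
  Sylow.ext (P.3 R.2 (le_of_fixes P.2 R h)).symm

theorem sylow_le_of_mem_normalizer (P : Sylow p G) {g : G}
    (hg : g ∈ normalizer ((P : Subgroup G) : Set G)) (k : ℕ) (hk : g ^ p ^ k = 1) :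
    g ∈ (P : Subgroup G) := by
  have hp : IsPGroup p (zpowers g) := by
    apply IsPGroup.of_card_dvd_pow (n := k)
    rw [Nat.card_zpowers]
    exact orderOf_dvd_of_pow_eq_one hk
  refine le_of_fixes hp P (fun d hd => ?_) (mem_zpowers g)
  exact (smul_sylow_eq P).2 ((zpowers_le.2 hg) hd)

end General

/-- Properties of a minimal counterexample. -/
structure Setup (G : Type u) [Group G] : Prop where
  card : Nat.card (Sylow 5 G) = 21
  simple : IsSimpleGroup G
  notComm : ¬ IsMulCommutative G
  coatom : ∀ P : Sylow 5 G, IsCoatom (normalizer ((P : Subgroup G) : Set G))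

variable {G : Type u} [Group G] [Finite G]

theorem coatom_of_card (h : Nat.card (Sylow 5 G) = 21)
    (IH : ∀ (K : Type u) [Group K] [Finite K], Nat.card K < Nat.card G →
      Nat.card (Sylow 5 K) ≠ 21) (P : Sylow 5 G) :
    IsCoatom (normalizer ((P : Subgroup G) : Set G)) := by
  constructor
  · intro ht
    have : Nat.card (Sylow 5 G) = (normalizer ((P : Subgroup G) : Set G)).index :=
      P.card_eq_index_normalizer
    rw [h, ht, index_top] at this
    omega
  · intro M hM
    by_contra hne
    have hPM : (P : Subgroup G) ≤ M := le_normalizer.trans hM.le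
    have h1 := card_sylow_subgroup_mul P M hPM
    rw [inf_eq_left.2 hM.le] at h1
    have h2 := card_sylow_mul P
    rw [h] at h2
    have h3 : Nat.card M ∣ Nat.card G := card_subgroup_dvd_card M
    rw [← h1, ← h2] at h3
    have h4 : Nat.card (Sylow 5 M) ∣ 21 := Nat.dvd_of_mul_dvd_mul_right Nat.card_pos h3
    have h5 : Nat.card (Sylow 5 M) % 5 = 1 := card_sylow_modEq_one 5 M
    have key : ∀ n ∈ (21 : ℕ).divisors, n % 5 = 1 → n = 1 ∨ n = 21 := by decide
    rcases key _ (Nat.mem_divisors.2 ⟨h4, by norm_num⟩) h5 with hn | hn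
    · rw [hn, one_mul] at h1
      exact hM.ne (eq_of_le_of_card_ge hM.le h1.ge)
    · refine IH M ?_ hn
      refine lt_of_le_of_ne (Nat.le_of_dvd Nat.card_pos (card_subgroup_dvd_card M)) fun he => ?_
      exact hne (eq_top_of_card_eq M he)

theorem sup_normalizer_eq_top (h : Nat.card (Sylow 5 G) = 21)
    (IH : ∀ (K : Type u) [Group K] [Finite K], Nat.card K < Nat.card G →
      Nat.card (Sylow 5 K) ≠ 21) (P : Sylow 5 G) (N : Subgroup G) [N.Normal]
    (hN : ¬ N ≤ normalizer ((P : Subgroup G) : Set G)) :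
    normalizer ((P : Subgroup G) : Set G) ⊔ N = ⊤ :=
  (coatom_of_card h IH P).2 _ (lt_of_le_of_ne le_sup_left fun he => hN (he.symm ▸ le_sup_right))

theorem normal_sup_eq_top (h : Nat.card (Sylow 5 G) = 21)
    (IH : ∀ (K : Type u) [Group K] [Finite K], Nat.card K < Nat.card G →
      Nat.card (Sylow 5 K) ≠ 21) (P : Sylow 5 G) (N : Subgroup G) [N.Normal] (hN : N ≠ ⊥) :
    (P : Subgroup G) ⊔ N = ⊤ := by
  have hlt : Nat.card (G ⧸ N) < Nat.card G := by
    rw [card_eq_card_quotient_mul_card_subgroup N]
    exact lt_mul_of_one_lt_right Nat.card_pos ((one_lt_card_iff_ne_bot N).2 hN)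
  let Q : Sylow 5 (G ⧸ N) := P.mapSurjective (QuotientGroup.mk'_surjective N)
  set K := (normalizer ((Q : Subgroup (G ⧸ N)) : Set (G ⧸ N))).comap (QuotientGroup.mk' N) with hK
  have hHK : normalizer ((P : Subgroup G) : Set G) ≤ K := by
    intro g hg
    rw [hK, mem_comap]
    exact le_normalizer_map (QuotientGroup.mk' N) ⟨g, hg, rfl⟩
  have hidx : Nat.card (Sylow 5 (G ⧸ N)) = K.index := by
    rw [hK, index_comap_of_surjective _ (QuotientGroup.mk'_surjective N)]
    exact Q.card_eq_index_normalizer
  rcases (coatom_of_card h IH P).le_iff.1 hHK with hKt | hKH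
  · -- the image of `P` is normal
    have hQn : (Q : Subgroup (G ⧸ N)).Normal := by
      rw [← normalizer_eq_top_iff]
      apply comap_injective (QuotientGroup.mk'_surjective N)
      rw [comap_top]
      exact hKt
    set M := (Q : Subgroup (G ⧸ N)).comap (QuotientGroup.mk' N) with hMd
    haveI : M.Normal := hQn.comap _
    have hM : M = (P : Subgroup G) ⊔ N := by
      rw [hMd, Sylow.coe_mapSurjective, comap_map_eq, QuotientGroup.ker_mk']
    rw [← hM]
    by_contra hne
    refine IH M ?_ ((card_sylow_of_normal P M (hM ▸ le_sup_left)).trans h)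
    exact lt_of_le_of_ne (Nat.le_of_dvd Nat.card_pos (card_subgroup_dvd_card M))
      fun he => hne (eq_top_of_card_eq M he)
  · exfalso
    refine IH (G ⧸ N) hlt ?_
    rw [hidx, hKH]
    exact P.card_eq_index_normalizer.symm.trans h

theorem eq_bot_of_le_normalizer (h : Nat.card (Sylow 5 G) = 21)
    (IH : ∀ (K : Type u) [Group K] [Finite K], Nat.card K < Nat.card G →
      Nat.card (Sylow 5 K) ≠ 21) (P : Sylow 5 G) (N : Subgroup G) [N.Normal]
    (hN : N ≤ normalizer ((P : Subgroup G) : Set G)) : N = ⊥ := by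
  by_contra hne
  have := normal_sup_eq_top h IH P N hne
  exact (coatom_of_card h IH P).1 (top_le_iff.1 (this ▸ sup_le le_normalizer hN))

theorem eq_one_of_fixes_all (h : Nat.card (Sylow 5 G) = 21)
    (IH : ∀ (K : Type u) [Group K] [Finite K], Nat.card K < Nat.card G →
      Nat.card (Sylow 5 K) ≠ 21) :
    Function.Injective (toPermHom G (Sylow 5 G)) := by
  obtain ⟨P⟩ : Nonempty (Sylow 5 G) := inferInstance
  rw [← MonoidHom.ker_eq_bot_iff]
  refine eq_bot_of_le_normalizer h IH P _ fun g hg => ?_
  exact (smul_sylow_eq P).1 (congrArg (fun σ : Equiv.Perm (Sylow 5 G) => σ P) hg)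

/-- A minimal counterexample is simple. -/
theorem setup_of_minimal (h : Nat.card (Sylow 5 G) = 21)
    (IH : ∀ (K : Type u) [Group K] [Finite K], Nat.card K < Nat.card G →
      Nat.card (Sylow 5 K) ≠ 21) : Setup G := by
  haveI : Fact (Nat.Prime 7) := ⟨by norm_num⟩
  obtain ⟨P⟩ : Nonempty (Sylow 5 G) := inferInstance
  have hnt : Nontrivial G := by
    by_contra hc
    rw [not_nontrivial_iff_subsingleton] at hc
    have h1 : Nat.card (Sylow 5 G) ≤ 1 := by
      rw [Finite.card_le_one_iff_subsingleton]
      exact ⟨fun a b => Sylow.ext (Subsingleton.elim _ _)⟩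
    omega
  have hsimple : IsSimpleGroup G := by
    constructor
    intro N hNn
    by_contra hc
    simp only [not_or] at hc
    obtain ⟨hbot, htop⟩ := hc
    haveI := hNn
    have hnotle : ¬ N ≤ normalizer ((P : Subgroup G) : Set G) :=
      fun hle => hbot (eq_bot_of_le_normalizer h IH P N hle)
    have hsup : ∀ R : Sylow 5 G, (R : Subgroup G) ⊔ N = ⊤ :=
      fun R => normal_sup_eq_top h IH R N hbot
    have hHidx : ∀ R : Sylow 5 G,
        (normalizer ((R : Subgroup G) : Set G)).relIndex N = 21 := by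
      intro R
      have hR : ¬ N ≤ normalizer ((R : Subgroup G) : Set G) :=
        fun hle => hbot (eq_bot_of_le_normalizer h IH R N hle)
      set H := normalizer ((R : Subgroup G) : Set G) with hH
      have e1 : N.relIndex H = N.index := by
        rw [← relIndex_top_right N, ← sup_normalizer_eq_top h IH R N hR, ← hH, relIndex_sup_right]
      have e2 := relIndex_mul_relIndex ⊥ (H ⊓ N) H bot_le inf_le_left
      rw [relIndex_bot_left, relIndex_bot_left, inf_relIndex_left, e1] at e2
      have e3 := relIndex_mul_relIndex ⊥ (H ⊓ N) N bot_le inf_le_right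
      rw [relIndex_bot_left, relIndex_bot_left, inf_relIndex_right] at e3
      have e4 := card_sylow_mul R
      rw [h, ← hH, ← e2] at e4
      have e5 := card_mul_index N
      rw [← e4, ← e3] at e5
      have hpos : 0 < Nat.card ↥(H ⊓ N) * N.index :=
        Nat.mul_pos Nat.card_pos (Nat.pos_of_ne_zero index_ne_zero_of_finite)
      apply Nat.eq_of_mul_eq_mul_right hpos
      linarith
    set D := (P : Subgroup G) ⊓ N with hD
    have hnd : normalizer ((P : Subgroup G) : Set G) ≤ normalizer (D : Set G) := by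
      intro g hg
      rw [mem_normalizer_iff]
      intro x
      refine and_congr (mem_normalizer_iff.1 hg x) ⟨fun hx => hNn.conj_mem x hx g, fun hx => ?_⟩
      simpa [mul_assoc] using hNn.conj_mem _ hx g⁻¹
    have hidxN : (P : Subgroup G).relIndex N = (P : Subgroup G).index := by
      have e2 := relIndex_mul_relIndex ⊥ D (P : Subgroup G) bot_le inf_le_left
      rw [relIndex_bot_left, relIndex_bot_left, hD, inf_relIndex_left] at e2
      have e1 : N.relIndex (P : Subgroup G) = N.index := by
        rw [← relIndex_top_right N, ← hsup P, relIndex_sup_right]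
      rw [e1] at e2
      have e3 := relIndex_mul_relIndex ⊥ D N bot_le inf_le_right
      rw [relIndex_bot_left, relIndex_bot_left, hD, inf_relIndex_right] at e3
      have e5 := card_mul_index N
      rw [← e3, ← card_mul_index (P : Subgroup G), ← e2] at e5
      have hpos : 0 < Nat.card ↥((P : Subgroup G) ⊓ N) * N.index :=
        Nat.mul_pos Nat.card_pos (Nat.pos_of_ne_zero index_ne_zero_of_finite)
      apply Nat.eq_of_mul_eq_mul_left hpos
      linarith
    rcases (coatom_of_card h IH P).le_iff.1 hnd with hDt | hDH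
    · -- `N` has order prime to 5
      haveI : D.Normal := normalizer_eq_top_iff.1 hDt
      have hDbot : D = ⊥ := eq_bot_of_le_normalizer h IH P D (inf_le_left.trans le_normalizer)
      have hN5 : ¬ 5 ∣ Nat.card N := by
        have hrel : (P : Subgroup G).relIndex N = Nat.card N := by
          rw [← relIndex_bot_left, ← hDbot, hD, inf_relIndex_right]
        rw [← hrel, hidxN]
        exact P.not_dvd_index
      obtain ⟨R⟩ : Nonempty (Sylow 7 N) := inferInstance
      let R' : Subgroup G := (R : Subgroup N).map N.subtype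
      have hK : normalizer (R' : Set G) ⊔ N = ⊤ := Sylow.normalizer_sup_eq_top R
      have hK5 : ¬ 5 ∣ (normalizer (R' : Set G)).index := by
        intro h5
        apply hN5
        set K := normalizer (R' : Set G) with hKd
        have e1 : N.relIndex K = N.index := by
          rw [← relIndex_top_right N, ← hK, relIndex_sup_right]
        have e2 := relIndex_mul_relIndex ⊥ (K ⊓ N) K bot_le inf_le_left
        rw [relIndex_bot_left, relIndex_bot_left, inf_relIndex_left, e1] at e2
        have e3 := card_mul_index K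
        rw [← e2, ← card_mul_index N] at e3
        have e4 : Nat.card ↥(K ⊓ N) * K.index = Nat.card N := by
          have hpos : 0 < N.index := Nat.pos_of_ne_zero index_ne_zero_of_finite
          apply Nat.eq_of_mul_eq_mul_right hpos
          linarith
        exact h5.trans (Dvd.intro_left _ e4)
      obtain ⟨S₀⟩ : Nonempty (Sylow 5 (normalizer (R' : Set G))) := inferInstance
      obtain ⟨S, hS⟩ := (S₀.2.map (normalizer (R' : Set G)).subtype).exists_le_sylow
      have hSK : (S : Subgroup G) ≤ normalizer (R' : Set G) := by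
        have hc1 : Nat.card S₀ = Nat.card S := by
          rw [S₀.card_eq_multiplicity, S.card_eq_multiplicity]
          congr 1
          rw [← card_mul_index (normalizer (R' : Set G)),
            Nat.factorization_mul (Nat.card_pos).ne' index_ne_zero_of_finite]
          simp [Nat.factorization_eq_zero_of_not_dvd hK5]
        have := eq_of_le_of_card_ge hS
          (by rw [card_map_of_injective (subtype_injective _), hc1])
        rw [← this]
        exact map_subtype_le _
      -- `S` centralises `R'`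
      obtain ⟨a, ha⟩ := (IsPGroup.iff_card (p := 7)).1 (R.2.map N.subtype : IsPGroup 7 R')
      have ha3 : a ≤ 3 := by
        have hd : Nat.card G ∣ (21 : ℕ).factorial := by
          rw [← h, ← Nat.card_perm]
          exact card_dvd_of_injective _ (eq_one_of_fixes_all h IH)
        have hd2 : 7 ^ a ∣ (21 : ℕ).factorial := by
          rw [← ha]
          exact (card_subgroup_dvd_card R').trans hd
        by_contra hlt
        have h4 : 7 ^ 4 ∣ (21 : ℕ).factorial := (pow_dvd_pow 7 (by omega)).trans hd2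
        norm_num [Nat.factorial] at h4
      have hcent : ∀ x ∈ (S : Subgroup G), ∀ r ∈ R', x * r = r * x := by
        letI : MulAction (S : Subgroup G) R' :=
          { smul := fun s r => ⟨(s : G) * r * (s : G)⁻¹,
              (mem_normalizer_iff.1 (hSK s.2) r).1 r.2⟩
            one_smul := fun r => Subtype.ext (show ((1 : (S : Subgroup G)) : G) * r *
              ((1 : (S : Subgroup G)) : G)⁻¹ = r by simp)
            mul_smul := fun s t r => Subtype.ext (show ((s * t : (S : Subgroup G)) : G) * r *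
              ((s * t : (S : Subgroup G)) : G)⁻¹ = (s : G) * ((t : G) * r * (t : G)⁻¹) * (s : G)⁻¹ by
                push_cast; group) }
        let C : Subgroup G := R' ⊓ centralizer ((S : Subgroup G) : Set G)
        have hfp : Nat.card (fixedPoints (S : Subgroup G) R') = Nat.card C := by
          refine Nat.card_congr
            { toFun := fun r => ⟨r.1.1, r.1.2, mem_centralizer_iff.2 fun x hx => ?_⟩
              invFun := fun c => ⟨⟨c.1, c.2.1⟩, fun s => Subtype.ext ?_⟩
              left_inv := fun r => rfl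
              right_inv := fun c => rfl }
          · have := congrArg Subtype.val (r.2 ⟨x, hx⟩)
            exact mul_inv_eq_iff_eq_mul.1 this
          · show (s : G) * c.1 * (s : G)⁻¹ = c.1
            rw [mem_centralizer_iff.1 c.2.2 s s.2, mul_inv_cancel_right]
        have hmod := (S.2).card_modEq_card_fixedPoints R'
        rw [hfp, ha] at hmod
        obtain ⟨b, hb, hbe⟩ := (Nat.dvd_prime_pow (by norm_num : Nat.Prime 7)).1
          (ha ▸ card_dvd_of_le (inf_le_left : C ≤ R'))
        have hba : b = a := by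
          rw [hbe] at hmod
          have key : ∀ a ≤ 3, ∀ b ≤ a, 7 ^ a % 5 = 7 ^ b % 5 → b = a := by decide
          exact key a ha3 b hb hmod
        intro x hx r hr
        have hCR : C = R' := eq_of_le_of_card_ge inf_le_left (by rw [hbe, hba, ha])
        exact mem_centralizer_iff.1 ((hCR ▸ hr : r ∈ C).2) x hx
      have hR'N : R' ≤ N := map_subtype_le _
      have hR'H : R' ≤ normalizer ((S : Subgroup G) : Set G) := fun r hr =>
        SmallSimple.centralizer_le_normalizer _ (mem_centralizer_iff.2 fun x hx => hcent x hx r hr)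
      have hle : (R : Subgroup N) ≤ (normalizer ((S : Subgroup G) : Set G)).subgroupOf N :=
        fun r hr => hR'H ⟨r, hr, rfl⟩
      have hd := index_dvd_of_le hle
      rw [← relIndex, hHidx S] at hd
      exact R.not_dvd_index ((by norm_num : 7 ∣ 21).trans hd)
    · -- `N` has 21 Sylow 5-subgroups
      have hDN : IsPGroup 5 (D.subgroupOf N) := (P.2.to_le inf_le_left).comap_subtype
      have hidxD : ¬ 5 ∣ (D.subgroupOf N).index := by
        rw [← relIndex, hD, inf_relIndex_right, hidxN]
        exact P.not_dvd_index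
      let D' : Sylow 5 N := hDN.toSylow hidxD
      refine IH N (lt_of_le_of_ne (Nat.le_of_dvd Nat.card_pos (card_subgroup_dvd_card N))
        fun he => htop (eq_top_of_card_eq N he)) ?_
      refine D'.card_eq_index_normalizer.trans ?_
      show (normalizer ((D.subgroupOf N : Subgroup N) : Set N)).index = 21
      rw [← subgroupOf_normalizer_eq (inf_le_right : D ≤ N), ← relIndex, hDH, hHidx P]
  haveI := hsimple
  refine ⟨h, hsimple, fun hc => ?_, coatom_of_card h IH⟩
  have hn : (P : Subgroup G).Normal := ⟨fun x hx g => by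
    rw [hc.is_comm.comm g x, mul_inv_cancel_right]; exact hx⟩
  exact (coatom_of_card h IH P).1 (normalizer_eq_top_iff.2 hn)

variable (hs : Setup G)
include hs

theorem faithful : Function.Injective (toPermHom G (Sylow 5 G)) := by
  haveI := hs.simple
  obtain ⟨P⟩ : Nonempty (Sylow 5 G) := inferInstance
  rw [← MonoidHom.ker_eq_bot_iff]
  rcases (MonoidHom.normal_ker (toPermHom G (Sylow 5 G))).eq_bot_or_eq_top with h | h
  · exact h
  · exfalso
    refine (hs.coatom P).1 (eq_top_iff.2 fun g _ => (smul_sylow_eq P).1 ?_)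
    exact congrArg (fun σ : Equiv.Perm (Sylow 5 G) => σ P) (h ▸ mem_top g :
      g ∈ (toPermHom G (Sylow 5 G)).ker)

theorem eq_one_of_fixes {g : G} (h : ∀ R : Sylow 5 G, g • R = R) : g = 1 :=
  faithful hs (Equiv.ext fun R => by simpa using h R)

theorem preprimitive : IsPreprimitive G (Sylow 5 G) := by
  obtain ⟨P⟩ : Nonempty (Sylow 5 G) := inferInstance
  haveI : Nontrivial (Sylow 5 G) := Finite.one_lt_card_iff_nontrivial.1 (by rw [hs.card]; norm_num)
  refine (isCoatom_stabilizer_iff_preprimitive G P).1 ?_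
  rw [Sylow.stabilizer_eq_normalizer]
  exact hs.coatom P

theorem five_dvd : 5 ∣ Nat.card G := by
  by_contra h
  obtain ⟨P⟩ : Nonempty (Sylow 5 G) := inferInstance
  have hP : (P : Subgroup G) = ⊥ := by
    rcases P.2.card_eq_or_dvd with h1 | h1
    · exact card_eq_one.1 h1
    · exact absurd (h1.trans (card_subgroup_dvd_card _)) h
  exact (hs.coatom P).1 (normalizer_eq_top_iff.2 (by rw [hP]; infer_instance))

/-- Orbits of a Sylow 5-subgroup on the others have length 5. -/
theorem orbit_five (P b : Sylow 5 G) (hb : b ≠ P) :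
    Nat.card (orbit (P : Subgroup G) b) = 5 := by
  obtain ⟨k, hk⟩ := P.2.card_orbit b
  have hle : Nat.card (orbit (P : Subgroup G) b) ≤ 21 := by
    rw [← hs.card]; exact Nat.card_le_card_of_injective _ Subtype.val_injective
  rcases k with _ | _ | k
  · exfalso
    refine hb (eq_of_fixes P b fun d hd => ?_).symm
    have hsub : Subsingleton (orbit (P : Subgroup G) b) :=
      (Nat.card_eq_one_iff_unique.1 (by simpa using hk)).1
    exact congrArg Subtype.val
      (hsub.elim ⟨(⟨d, hd⟩ : (P : Subgroup G)) • b, mem_orbit _ _⟩ ⟨b, mem_orbit_self b⟩)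
  · simpa using hk
  · have : 25 ≤ 5 ^ (k + 1 + 1) := le_trans (by norm_num) (Nat.pow_le_pow_right (by norm_num)
      (show 2 ≤ k + 1 + 1 by omega))
    omega

theorem stabilizer_index (P b : Sylow 5 G) (hb : b ≠ P) :
    (stabilizer (P : Subgroup G) b).index = 5 := by
  rw [index_stabilizer, ← Nat.card_coe_set_eq]
  exact orbit_five hs P b hb

theorem stabilizer_normal (P b : Sylow 5 G) (hb : b ≠ P) :
    (stabilizer (P : Subgroup G) b).Normal := by
  apply normal_of_index_eq_minFac_card
  rw [stabilizer_index hs P b hb]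
  obtain ⟨n, hn⟩ := IsPGroup.iff_card.1 P.2
  have hn0 : n ≠ 0 := by
    rintro rfl
    exact P.ne_bot_of_dvd_card (five_dvd hs) (card_eq_one.1 (by simpa using hn))
  rw [hn, Nat.pow_minFac hn0, Nat.Prime.minFac_eq (by norm_num)]

theorem comm_of_mem (P : Sylow 5 G) {x y : G} (hx : x ∈ (P : Subgroup G))
    (hy : y ∈ (P : Subgroup G)) : x * y = y * x := by
  refine (mul_inv_eq_one.1 (eq_one_of_fixes hs fun R => ?_))
  by_cases hR : R = P
  · subst hR
    exact smul_eq_of_mem R (mul_mem (mul_mem hx hy) (inv_mem (mul_mem hy hx)))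
  haveI := stabilizer_normal hs P R hR
  let q := QuotientGroup.mk' (stabilizer (P : Subgroup G) R)
  have hcard : Nat.card ((P : Subgroup G) ⧸ stabilizer (P : Subgroup G) R) = 5 := by
    rw [← index_eq_card]; exact stabilizer_index hs P R hR
  haveI := isCyclic_of_prime_card hcard
  have hq : q (⟨x, hx⟩ * ⟨y, hy⟩ * (⟨y, hy⟩ * ⟨x, hx⟩)⁻¹) = 1 := by
    rw [map_mul, map_mul, map_inv, map_mul,
      (IsCyclic.isMulCommutative).is_comm.comm (q ⟨y, hy⟩) (q ⟨x, hx⟩), mul_inv_cancel]
  rw [← MonoidHom.mem_ker, QuotientGroup.ker_mk', mem_stabilizer_iff] at hq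
  exact hq

theorem pow_five_of_mem (P : Sylow 5 G) {x : G} (hx : x ∈ (P : Subgroup G)) : x ^ 5 = 1 := by
  refine eq_one_of_fixes hs fun R => ?_
  by_cases hR : R = P
  · subst hR
    exact smul_eq_of_mem R (pow_mem hx 5)
  haveI := stabilizer_normal hs P R hR
  let q := QuotientGroup.mk' (stabilizer (P : Subgroup G) R)
  have hcard : Nat.card ((P : Subgroup G) ⧸ stabilizer (P : Subgroup G) R) = 5 := by
    rw [← index_eq_card]; exact stabilizer_index hs P R hR
  have hq : q (⟨x, hx⟩ ^ 5) = 1 := by
    have h5 := pow_card_eq_one' (x := q ⟨x, hx⟩)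
    rw [hcard] at h5
    rw [map_pow, h5]
  rw [← MonoidHom.mem_ker, QuotientGroup.ker_mk', mem_stabilizer_iff] at hq
  exact hq

/-- No element moves exactly a prime number `q` of points and has order `q`. -/
theorem no_prime_support {q : ℕ} (hq : q.Prime) {g : G} (hg : g ^ q = 1)
    (hmoved : Set.ncard {R : Sylow 5 G | g • R ≠ R} = q) : False := by
  haveI := Fact.mk hq
  haveI := preprimitive hs
  set M := {R : Sylow 5 G | g • R ≠ R} with hM
  have hsum := Set.ncard_add_ncard_compl M
  rw [hmoved, hs.card] at hsum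
  have hq2 := hq.two_le
  -- the moved points are not all of the set, as 21 is not prime
  obtain ⟨n, hn⟩ : ∃ n, Mᶜ.ncard = n + 1 := by
    refine Nat.exists_eq_add_one.2 (Nat.pos_of_ne_zero fun h0 => ?_)
    rw [h0, add_zero] at hsum
    subst hsum
    norm_num at hq
  have hgfix : g ∈ fixingSubgroup G Mᶜ := by
    rw [mem_fixingSubgroup_iff]
    intro R hR
    simpa [hM] using hR
  have hcardM : Nat.card (SubMulAction.ofFixingSubgroup G Mᶜ) = q := by
    rw [← hmoved, ← Nat.card_coe_set_eq]
    exact Nat.card_congr (Equiv.subtypeEquivRight fun R => by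
      simp [SubMulAction.mem_ofFixingSubgroup_iff])
  have htrans : IsPretransitive (fixingSubgroup G Mᶜ) (SubMulAction.ofFixingSubgroup G Mᶜ) := by
    constructor
    intro a b
    let z : fixingSubgroup G Mᶜ := ⟨g, hgfix⟩
    have hp : IsPGroup q (zpowers z) := by
      apply IsPGroup.of_card_dvd_pow (n := 1)
      rw [Nat.card_zpowers, pow_one]
      exact orderOf_dvd_of_pow_eq_one (Subtype.ext hg)
    obtain ⟨k, hk⟩ := hp.card_orbit a
    have hle : Nat.card (orbit (zpowers z) a) ≤ q := by
      rw [← hcardM]; exact Nat.card_le_card_of_injective _ Subtype.val_injective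
    have hk0 : k ≠ 0 := by
      rintro rfl
      have hsub : Subsingleton (orbit (zpowers z) a) :=
        (Nat.card_eq_one_iff_unique.1 (by simpa using hk)).1
      have := congrArg Subtype.val (hsub.elim
        ⟨(⟨z, mem_zpowers z⟩ : zpowers z) • a, mem_orbit _ _⟩ ⟨a, mem_orbit_self a⟩)
      have h1 : g • (a : Sylow 5 G) = a := congrArg Subtype.val this
      exact a.2 (by simpa [hM] using h1)
    have hall : Nat.card (orbit (zpowers z) a) = q := le_antisymm hle (by
      rw [hk]; exact Nat.le_self_pow hk0 q)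
    have : b ∈ orbit (zpowers z) a := by
      have heq : orbit (zpowers z) a = Set.univ := by
        apply Set.eq_of_subset_of_ncard_le (Set.subset_univ _)
        rw [Set.ncard_univ, ← Nat.card_coe_set_eq, hall, hcardM]
      rw [heq]; trivial
    obtain ⟨w, hw⟩ := this
    exact ⟨w, hw⟩
  have hprim : IsPreprimitive (fixingSubgroup G Mᶜ) (SubMulAction.ofFixingSubgroup G Mᶜ) :=
    IsPreprimitive.of_prime_card (by rw [hcardM]; exact hq)
  have h2 := (preprimitive hs).is_two_preprimitive hn (by rw [hs.card]; omega) hprim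
  obtain ⟨P⟩ : Nonempty (Sylow 5 G) := inferInstance
  have hp2 : IsPreprimitive (stabilizer G P) (SubMulAction.ofStabilizer G P) := by
    rw [← is_one_preprimitive_iff, ← isMultiplyPreprimitive_succ_iff_ofStabilizer G (Sylow 5 G)
      le_rfl (a := P)]
    exact h2
  let A : Subgroup (stabilizer G P) := (P : Subgroup G).subgroupOf (stabilizer G P)
  haveI hA : A.Normal := by
    apply normal_subgroupOf_of_le_normalizer
    rw [Sylow.stabilizer_eq_normalizer]
    exact le_rfl
  obtain ⟨b, hb⟩ : ∃ b : Sylow 5 G, b ≠ P := by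
    haveI : Nontrivial (Sylow 5 G) :=
      Finite.one_lt_card_iff_nontrivial.1 (by rw [hs.card]; norm_num)
    exact exists_ne P
  let b' : SubMulAction.ofStabilizer G P := ⟨b, hb⟩
  have hPs : (P : Subgroup G) ≤ stabilizer G P := fun x hx => smul_eq_of_mem P hx
  have hAfix : fixedPoints A (SubMulAction.ofStabilizer G P) ≠ Set.univ := by
    intro hall
    have hmem : b' ∈ fixedPoints A (SubMulAction.ofStabilizer G P) := by rw [hall]; trivial
    refine hb (eq_of_fixes P b fun d hd => ?_).symm
    exact congrArg Subtype.val (hmem ⟨⟨d, hPs hd⟩, hd⟩)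
  haveI := hp2
  have hAt : IsPretransitive A (SubMulAction.ofStabilizer G P) :=
    IsQuasiPreprimitive.isPretransitive_of_normal hAfix
  have h20 : Nat.card (SubMulAction.ofStabilizer G P) = 20 := by
    have := SubMulAction.nat_card_ofStabilizer_add_one_eq G P
    rw [hs.card] at this
    omega
  have hsub : Set.range (Subtype.val : SubMulAction.ofStabilizer G P → Sylow 5 G) ⊆
      orbit (P : Subgroup G) b := by
    rintro _ ⟨c, rfl⟩
    obtain ⟨w, hw⟩ := hAt.exists_smul_eq b' c
    exact ⟨⟨_, w.2⟩, congrArg Subtype.val hw⟩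
  have hcle := Set.ncard_le_ncard hsub
  rw [← Nat.card_coe_set_eq, ← Nat.card_coe_set_eq, orbit_five hs P b hb,
    Nat.card_range_of_injective Subtype.val_injective, h20] at hcle
  omega

omit hs in
/-- The fixed set of a 5-subgroup. -/
def fixSet (D : Subgroup G) : Set (Sylow 5 G) := {R | ∀ d ∈ D, d • R = R}

theorem fixSet_ncard_mod (D : Subgroup G) (hD : IsPGroup 5 D) : (fixSet D).ncard % 5 = 1 := by
  have h := hD.card_modEq_card_fixedPoints (Sylow 5 G)
  rw [hs.card] at h
  have he : fixedPoints D (Sylow 5 G) = fixSet D := by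
    ext R
    exact ⟨fun hR d hd => hR ⟨d, hd⟩, fun hR d => hR d.1 d.2⟩
  rw [he, Nat.card_coe_set_eq] at h
  exact h.symm

/-- If a 5-subgroup `D ≤ P` moves `R`, its orbit on `R` is that of any Sylow subgroup containing it. -/
theorem exists_mem_smul_eq (S : Sylow 5 G) (D : Subgroup G) (hD : D ≤ (S : Subgroup G))
    {R : Sylow 5 G} (hR : R ∉ fixSet D) {s : G} (hsS : s ∈ (S : Subgroup G)) :
    ∃ d ∈ D, d • R = s • R := by
  have hne : R ≠ S := by
    rintro rfl
    exact hR fun d hd => smul_eq_of_mem R (hD hd)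
  have hsub : orbit D R ⊆ orbit (S : Subgroup G) R := by
    rintro _ ⟨d, rfl⟩
    exact ⟨⟨d.1, hD d.2⟩, rfl⟩
  obtain ⟨k, hk⟩ := (S.2.to_le hD).card_orbit R
  have hle := Set.ncard_le_ncard hsub
  rw [← Nat.card_coe_set_eq, ← Nat.card_coe_set_eq, orbit_five hs S R hne, hk] at hle
  have hk0 : k ≠ 0 := by
    rintro rfl
    have hs1 : Subsingleton (orbit D R) := (Nat.card_eq_one_iff_unique.1 (by simpa using hk)).1
    exact hR fun d hd => congrArg Subtype.val
      (hs1.elim ⟨(⟨d, hd⟩ : D) • R, mem_orbit _ _⟩ ⟨R, mem_orbit_self R⟩)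
  have heq : orbit D R = orbit (S : Subgroup G) R := by
    apply Set.eq_of_subset_of_ncard_le hsub
    rw [← Nat.card_coe_set_eq, ← Nat.card_coe_set_eq, orbit_five hs S R hne, hk]
    exact Nat.le_self_pow hk0 5
  have : s • R ∈ orbit D R := heq ▸ ⟨⟨s, hsS⟩, rfl⟩
  obtain ⟨d, hd⟩ := this
  exact ⟨d.1, d.2, hd⟩

/-- The stabiliser in `P` of a point, as a subgroup of `G`. -/
theorem stab_exists (P b : Sylow 5 G) (hb : b ≠ P) :
    ∃ D : Subgroup G, D ≤ (P : Subgroup G) ∧ 5 * Nat.card D = Nat.card P ∧
      (∀ x ∈ (P : Subgroup G), x • b = b ↔ x ∈ D) := by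
  refine ⟨(stabilizer (P : Subgroup G) b).map (P : Subgroup G).subtype, map_subtype_le _, ?_,
    fun x hx => ⟨fun h => ⟨⟨x, hx⟩, h, rfl⟩, ?_⟩⟩
  · have h := card_mul_index (stabilizer (P : Subgroup G) b)
    rw [stabilizer_index hs P b hb] at h
    rw [card_map_of_injective (subtype_injective _), mul_comm, h]
  · rintro ⟨z, hz, rfl⟩
    exact hz

theorem card_le_five (P : Sylow 5 G) : Nat.card P ≤ 5 := by
  by_contra hlt
  simp only [not_le] at hlt
  obtain ⟨b₁, hb₁⟩ : ∃ b : Sylow 5 G, b ≠ P := by
    haveI : Nontrivial (Sylow 5 G) :=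
      Finite.one_lt_card_iff_nontrivial.1 (by rw [hs.card]; norm_num)
    exact exists_ne P
  -- facts about any point stabiliser
  have hfacts : ∀ b : Sylow 5 G, b ≠ P → ∀ D : Subgroup G, D ≤ (P : Subgroup G) →
      5 * Nat.card D = Nat.card P → (∀ x ∈ (P : Subgroup G), x • b = b ↔ x ∈ D) →
      P ∈ fixSet D ∧ b ∈ fixSet D ∧
      ((fixSet D).ncard = 6 ∨ (fixSet D).ncard = 16) ∧
      (∀ R ∈ fixSet D, ∃ c ∈ centralizer (D : Set G), c • P = R) ∧ D ≠ ⊥ := by
    intro b hb D hDP hDc hDb
    have hP : P ∈ fixSet D := fun d hd => smul_eq_of_mem P (hDP hd)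
    have hbF : b ∈ fixSet D := fun d hd => (hDb d (hDP hd)).2 hd
    have hne : D ≠ ⊥ := by
      rintro rfl
      rw [card_bot] at hDc
      omega
    have hDcomm : ∀ S : Sylow 5 G, D ≤ (S : Subgroup G) → (S : Subgroup G) ≤ centralizer (D : Set G) :=
      fun S hS x hx => mem_centralizer_iff.2 fun d hd => comm_of_mem hs S (hS hd) hx
    have htr : ∀ R ∈ fixSet D, ∃ c ∈ centralizer (D : Set G), c • P = R := by
      intro R hR
      exact exists_conj_of_sylow_le P R _ (hDcomm P hDP)
        (hDcomm R (le_of_fixes (P.2.to_le hDP) R hR))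
    refine ⟨hP, hbF, ?_, htr, hne⟩
    have hmod := fixSet_ncard_mod hs D (P.2.to_le hDP)
    have hle : (fixSet D).ncard ≤ 21 := by
      rw [← hs.card]; exact Set.ncard_le_card _
    have h2 : 1 < (fixSet D).ncard :=
      (Set.one_lt_ncard_iff (Set.toFinite _)).2 ⟨P, b, hP, hbF, hb.symm⟩
    have h21 : (fixSet D).ncard ≠ 21 := by
      intro h21
      apply hne
      rw [eq_bot_iff]
      intro d hd
      rw [mem_bot]
      refine eq_one_of_fixes hs fun R => ?_
      have : fixSet D = Set.univ := Set.eq_of_subset_of_ncard_le (Set.subset_univ _)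
        (by rw [Set.ncard_univ, hs.card, h21])
      exact (this ▸ Set.mem_univ R : R ∈ fixSet D) d hd
    have h11 : (fixSet D).ncard ≠ 11 := by
      intro h11
      haveI : Fact (Nat.Prime 11) := ⟨by norm_num⟩
      have horb : orbit (centralizer (D : Set G)) P = fixSet D := by
        ext R
        constructor
        · rintro ⟨c, rfl⟩ d hd
          show d • (c : G) • P = (c : G) • P
          rw [← mul_smul, mem_centralizer_iff.1 c.2 d hd, mul_smul, hP d hd]
        · intro hR
          obtain ⟨c, hc, hcR⟩ := htr R hR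
          exact ⟨⟨c, hc⟩, hcR⟩
      have hd : 11 ∣ Nat.card (centralizer (D : Set G)) := by
        rw [← h11, ← horb, ← index_stabilizer]
        exact index_dvd_card _
      obtain ⟨z, hz⟩ := exists_prime_orderOf_dvd_card' 11 hd
      have hzg : orderOf (z : G) = 11 := by rw [orderOf_coe]; exact hz
      refine no_prime_support hs (q := 11) (g := (z : G)) (by norm_num)
        (hzg ▸ pow_orderOf_eq_one _) ?_
      have hmodz := (IsPGroup.of_card (p := 11) (n := 1)
        (by rw [Nat.card_zpowers, hzg, pow_one] :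
          Nat.card (zpowers (z : G)) = 11 ^ 1)).card_modEq_card_fixedPoints (Sylow 5 G)
      have hfx : fixedPoints (zpowers (z : G)) (Sylow 5 G) =
          {R : Sylow 5 G | (z : G) • R ≠ R}ᶜ := by
        ext R
        simp only [mem_fixedPoints, Set.mem_compl_iff, Set.mem_setOf_eq, not_not]
        constructor
        · exact fun h => h ⟨_, mem_zpowers _⟩
        · rintro h ⟨_, k, rfl⟩
          show (z : G) ^ k • R = R
          exact mem_stabilizer_iff.1 (zpow_mem (mem_stabilizer_iff.2 h) k)
      rw [hfx, hs.card, Nat.card_coe_set_eq] at hmodz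
      have hsum := Set.ncard_add_ncard_compl {R : Sylow 5 G | (z : G) • R ≠ R}
      rw [hs.card] at hsum
      have hne0 : {R : Sylow 5 G | (z : G) • R ≠ R}.ncard ≠ 0 := by
        rw [Ne, Set.ncard_eq_zero (Set.toFinite _), Set.eq_empty_iff_forall_notMem]
        intro hall
        have : (z : G) = 1 := eq_one_of_fixes hs fun R => by simpa using hall R
        rw [this, orderOf_one] at hzg
        omega
      unfold Nat.ModEq at hmodz
      omega
    omega
  -- a stabiliser fixing exactly six points
  obtain ⟨b, hb, D, hDP, hDc, hDb, h6⟩ : ∃ b : Sylow 5 G, b ≠ P ∧ ∃ D : Subgroup G,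
      D ≤ (P : Subgroup G) ∧ 5 * Nat.card D = Nat.card P ∧
      (∀ x ∈ (P : Subgroup G), x • b = b ↔ x ∈ D) ∧ (fixSet D).ncard = 6 := by
    obtain ⟨D₁, h1, h2, h3⟩ := stab_exists hs P b₁ hb₁
    obtain ⟨hP1, hb1, hc1, -, hne1⟩ := hfacts b₁ hb₁ D₁ h1 h2 h3
    rcases hc1 with hc1 | hc1
    · exact ⟨b₁, hb₁, D₁, h1, h2, h3, hc1⟩
    obtain ⟨b₂, hb₂⟩ : ∃ b₂ : Sylow 5 G, b₂ ∉ fixSet D₁ := by
      by_contra hall
      simp only [not_exists, not_not] at hall
      have : fixSet D₁ = Set.univ := Set.eq_univ_of_forall hall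
      rw [this, Set.ncard_univ, hs.card] at hc1
      omega
    have hb₂P : b₂ ≠ P := fun h => hb₂ (h ▸ hP1)
    obtain ⟨D₂, g1, g2, g3⟩ := stab_exists hs P b₂ hb₂P
    obtain ⟨hP2, hb2, hc2, -, -⟩ := hfacts b₂ hb₂P D₂ g1 g2 g3
    rcases hc2 with hc2 | hc2
    · exact ⟨b₂, hb₂P, D₂, g1, g2, g3, hc2⟩
    exfalso
    have hinter : fixSet D₁ ∩ fixSet D₂ ⊆ {P} := by
      rintro R ⟨hR1, hR2⟩
      by_contra hRP
      obtain ⟨E, e1, e2, e3⟩ := stab_exists hs P R hRP
      have E1 : D₁ = E := eq_of_le_of_card_ge (fun d hd => (e3 d (h1 hd)).1 (hR1 d hd)) (by omega)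
      have E2 : D₂ = E := eq_of_le_of_card_ge (fun d hd => (e3 d (g1 hd)).1 (hR2 d hd)) (by omega)
      exact hb₂ (E1.trans E2.symm ▸ hb2)
    have hle := Set.ncard_le_ncard hinter (Set.toFinite _)
    rw [Set.ncard_singleton] at hle
    have hu := Set.ncard_union_add_ncard_inter (fixSet D₁) (fixSet D₂)
    have hu2 : (fixSet D₁ ∪ fixSet D₂).ncard ≤ 21 := by
      rw [← hs.card]; exact Set.ncard_le_card _
    omega
  obtain ⟨hPF, hbF, -, htr, hDne⟩ := hfacts b hb D hDP hDc hDb
  -- `L` fixes the complement of the six points pointwise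
  set C := centralizer (D : Set G) with hC
  have hDF : ∀ c ∈ C, ∀ R, c • R ∈ fixSet D ↔ R ∈ fixSet D := by
    intro c hc R
    constructor <;> intro h d hd
    · have h' := h d hd
      rw [← mul_smul, mem_centralizer_iff.1 hc d hd, mul_smul] at h'
      exact smul_left_cancel c h'
    · rw [← mul_smul, mem_centralizer_iff.1 hc d hd, mul_smul, h d hd]
  have hDcommD : ∀ d ∈ D, ∀ e ∈ D, d * e = e * d :=
    fun d hd e he => comm_of_mem hs P (hDP hd) (hDP he)
  let K : Subgroup G :=
    { carrier := {g | g ∈ C ∧ ∀ R ∉ fixSet D, ∃ d ∈ D, d • R = g • R}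
      one_mem' := ⟨one_mem _, fun R _ => ⟨1, one_mem _, rfl⟩⟩
      mul_mem' := by
        rintro g h ⟨hg, hg'⟩ ⟨hh, hh'⟩
        refine ⟨mul_mem hg hh, fun R hR => ?_⟩
        obtain ⟨e, he, her⟩ := hh' R hR
        obtain ⟨d, hd, hdr⟩ := hg' R hR
        refine ⟨e * d, mul_mem he hd, ?_⟩
        rw [mul_smul, hdr, mul_smul, ← her, ← mul_smul, ← mul_smul,
          mem_centralizer_iff.1 hg e he]
      inv_mem' := by
        rintro g ⟨hg, hg'⟩
        refine ⟨inv_mem hg, fun R hR => ?_⟩
        obtain ⟨d, hd, hdr⟩ := hg' R hR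
        refine ⟨d⁻¹, inv_mem hd, ?_⟩
        apply smul_left_cancel g
        rw [← mul_smul, ← mul_smul, mul_inv_cancel, one_smul,
          ← mem_centralizer_iff.1 hg d⁻¹ (inv_mem hd), mul_smul, ← hdr, ← mul_smul,
          inv_mul_cancel, one_smul] }
  have hSK : ∀ S : Sylow 5 G, D ≤ (S : Subgroup G) → (S : Subgroup G) ≤ K := fun S hS s hsS =>
    ⟨mem_centralizer_iff.2 fun d hd => comm_of_mem hs S (hS hd) hsS,
      fun R hR => exists_mem_smul_eq hs S D hS hR hsS⟩
  let L : Subgroup K :=
    { carrier := {k | ∀ R ∉ fixSet D, (k : G) • R = R}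
      one_mem' := fun R _ => one_smul _ _
      mul_mem' := fun {a b} ha hb R hR => by
        show ((a : G) * b) • R = R
        rw [mul_smul, hb R hR, ha R hR]
      inv_mem' := fun {a} ha R hR => by
        show (a : G)⁻¹ • R = R
        rw [inv_smul_eq_iff, ha R hR] }
  haveI : L.Normal := ⟨fun l hl k R hR => by
    show ((k : G) * l * (k : G)⁻¹) • R = R
    rw [mul_smul, mul_smul, hl _ (fun h => hR ((hDF _ (inv_mem k.2.1) R).1 h)), smul_inv_smul]⟩
  have hk5 : ∀ k : K, k ^ 5 ∈ L := by
    intro k R hR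
    obtain ⟨d, hd, hdr⟩ := k.2.2 R hR
    have hstep : ∀ n : ℕ, (k : G) ^ n • R = d ^ n • R := by
      intro n
      induction n with
      | zero => simp
      | succ n ih =>
        rw [pow_succ' (k : G), mul_smul, ih, ← mul_smul,
          ← mem_centralizer_iff.1 k.2.1 _ (pow_mem hd n), mul_smul, ← hdr, ← mul_smul,
          ← pow_succ]
    show ((k ^ 5 : K) : G) • R = R
    push_cast
    rw [hstep 5, pow_five_of_mem hs P (hDP hd), one_smul]
  have hq : IsPGroup 5 (K ⧸ L) := by
    intro x
    obtain ⟨k, rfl⟩ := QuotientGroup.mk_surjective x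
    exact ⟨1, by rw [pow_one, ← QuotientGroup.mk_pow, QuotientGroup.eq_one_iff]; exact hk5 k⟩
  have hPK := hSK P hDP
  have hfac : ∀ k : K, ∃ p ∈ (P : Subgroup G), ∃ l ∈ L, (k : G) = (l : G) * p := by
    intro k
    let P' := (P.subtype hPK).mapSurjective (QuotientGroup.mk'_surjective L)
    have htop : (P' : Subgroup (K ⧸ L)) = ⊤ :=
      (P'.3 (Q := ⊤) (hq.to_subgroup _) le_top).symm
    obtain ⟨p, hp, hpe⟩ : (QuotientGroup.mk' L k) ∈ (P' : Subgroup (K ⧸ L)) := by
      rw [htop]; exact mem_top _
    refine ⟨p, hp, k * p⁻¹, ?_, by push_cast; group⟩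
    rw [← QuotientGroup.eq_one_iff, QuotientGroup.mk_mul, QuotientGroup.mk_inv]
    exact mul_inv_eq_one.2 hpe.symm
  have horb : orbit L P = fixSet D := by
    ext R
    constructor
    · rintro ⟨l, rfl⟩
      exact (hDF _ (l : K).2.1 P).2 hPF
    · intro hR
      obtain ⟨k, hk, hkR⟩ := exists_conj_of_sylow_le P R K hPK
        (hSK R (le_of_fixes (P.2.to_le hDP) R hR))
      obtain ⟨p, hp, l, hl, hke⟩ := hfac ⟨k, hk⟩
      refine ⟨⟨l, hl⟩, ?_⟩
      show ((l : K) : G) • P = R
      rw [← hkR, show k = ((l : K) : G) * p from hke, mul_smul, smul_eq_of_mem P hp]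
  -- an element of `P` moving `b`
  obtain ⟨x, hx, hxb⟩ : ∃ x ∈ (P : Subgroup G), x • b ≠ b := by
    by_contra hall
    simp only [not_exists, not_and, not_not] at hall
    exact hb (eq_of_fixes P b hall).symm
  have hx5 : x ^ 5 = 1 := pow_five_of_mem hs P hx
  have horbb : fixSet D = insert P (orbit (P : Subgroup G) b) := by
    refine (Set.eq_of_subset_of_ncard_le ?_ ?_ (Set.toFinite _)).symm
    · rintro R (rfl | ⟨p, rfl⟩)
      · exact hPF
      · exact (hDF _ (hPK p.2).1 b).2 hbF
    · rw [h6, Set.ncard_insert_of_notMem, ← Nat.card_coe_set_eq, orbit_five hs P b hb]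
      rintro ⟨p, hp⟩
      apply hb
      have : (p : G) • b = (p : G) • P := hp.trans (smul_eq_of_mem P p.2).symm
      exact smul_left_cancel _ this
  have hxorb : orbit (zpowers x) b = orbit (P : Subgroup G) b := by
    have hsub : orbit (zpowers x) b ⊆ orbit (P : Subgroup G) b := by
      rintro _ ⟨z, rfl⟩
      exact ⟨⟨z.1, zpowers_le.2 hx z.2⟩, rfl⟩
    apply Set.eq_of_subset_of_ncard_le hsub
    obtain ⟨k, hk⟩ := (P.2.to_le (zpowers_le.2 hx)).card_orbit b
    rw [← Nat.card_coe_set_eq, ← Nat.card_coe_set_eq, orbit_five hs P b hb, hk]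
    refine Nat.le_self_pow ?_ 5
    rintro rfl
    have hs1 : Subsingleton (orbit (zpowers x) b) :=
      (Nat.card_eq_one_iff_unique.1 (by simpa using hk)).1
    exact hxb (congrArg Subtype.val
      (hs1.elim ⟨(⟨x, mem_zpowers x⟩ : zpowers x) • b, mem_orbit _ _⟩ ⟨b, mem_orbit_self b⟩))
  have hPL : ∀ l : K, l ∈ L → (l : G) ∈ (P : Subgroup G) → l = 1 := by
    intro l hl hlP
    by_contra hne
    have hlG : (l : G) ≠ 1 := fun h => hne (Subtype.ext h)
    refine no_prime_support hs (q := 5) (g := (l : G)) (by norm_num)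
      (pow_five_of_mem hs P hlP) ?_
    obtain ⟨R, hR⟩ : ∃ R : Sylow 5 G, (l : G) • R ≠ R := by
      by_contra hall
      simp only [not_exists, not_not] at hall
      exact hlG (eq_one_of_fixes hs hall)
    have hRb : R ∈ orbit (P : Subgroup G) b := by
      have hRF : R ∈ fixSet D := by_contra fun h => hR (hl R h)
      rw [horbb] at hRF
      rcases hRF with rfl | h
      · exact absurd (smul_eq_of_mem R hlP) hR
      · exact h
    obtain ⟨p, hp⟩ := hRb
    have hlb : (l : G) • b ≠ b := by
      intro h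
      apply hR
      rw [← hp]
      show (l : G) • (p : G) • b = (p : G) • b
      rw [← mul_smul, comm_of_mem hs P hlP p.2, mul_smul, h]
    have : {R : Sylow 5 G | (l : G) • R ≠ R} = orbit (P : Subgroup G) b := by
      apply Set.eq_of_subset_of_subset
      · intro R' hR'
        have hRF : R' ∈ fixSet D := by_contra fun h => hR' (hl R' h)
        rw [horbb] at hRF
        rcases hRF with rfl | h
        · exact absurd (smul_eq_of_mem R' hlP) hR'
        · exact h
      · rintro _ ⟨p', rfl⟩ h
        apply hlb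
        apply smul_left_cancel (p' : G)
        rw [← mul_smul, ← comm_of_mem hs P hlP p'.2, mul_smul]
        exact h
    rw [this, ← Nat.card_coe_set_eq, orbit_five hs P b hb]
  have hstab : stabilizer L P = ⊥ := by
    rw [eq_bot_iff]
    rintro ⟨l, hl⟩ hlP
    have hlN : (l : G) ∈ normalizer ((P : Subgroup G) : Set G) := (smul_sylow_eq P).1 hlP
    have hcomm : ∀ p ∈ (P : Subgroup G), (l : G) * p = p * l := by
      intro p hp
      have hmem : l * ⟨p, hPK hp⟩ * l⁻¹ * (⟨p, hPK hp⟩ : K)⁻¹ ∈ L := by
        rw [mul_assoc l, mul_assoc]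
        refine mul_mem hl ?_
        simpa [mul_assoc] using (‹L.Normal›.conj_mem l⁻¹ (inv_mem hl) ⟨p, hPK hp⟩)
      have h1 := congrArg Subtype.val (hPL _ hmem (by
        push_cast
        exact mul_mem ((mem_normalizer_iff.1 hlN p).1 hp) (inv_mem hp)))
      push_cast at h1
      rw [mul_inv_eq_one, mul_inv_eq_iff_eq_mul] at h1
      exact h1
    have hbmem : (l : G) • b ∈ orbit (zpowers x) b := by
      rw [hxorb]
      have hF : (l : G) • b ∈ fixSet D := (hDF _ l.2.1 b).2 hbF
      rw [horbb] at hF
      rcases hF with h | h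
      · exact absurd (smul_left_cancel (l : G) (h.trans (show P = (l : G) • P from hlP.symm))) hb
      · exact h
    obtain ⟨⟨_, k, rfl⟩, hk⟩ := hbmem
    have hlb : ∀ n : ℕ, (l : G) ^ n • b = (x ^ k) ^ n • b := by
      intro n
      induction n with
      | zero => simp
      | succ n ih =>
        rw [pow_succ' (l : G), mul_smul, ih, ← mul_smul,
          hcomm _ (pow_mem (zpow_mem hx k) n), mul_smul, ← hk, pow_succ]
        exact (mul_smul _ _ b).symm
    have hl5 : (l : G) ^ 5 = 1 := by
      refine eq_one_of_fixes hs fun R => ?_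
      by_cases hR : R ∈ fixSet D
      · rw [horbb] at hR
        rcases hR with rfl | ⟨p, rfl⟩
        · exact (smul_sylow_eq R).2 (pow_mem hlN 5)
        · show (l : G) ^ 5 • (p : G) • b = (p : G) • b
          rw [← mul_smul, (Commute.pow_left (hcomm p p.2) 5).eq, mul_smul, hlb 5,
            pow_five_of_mem hs P (zpow_mem hx k), one_smul]
      · exact (pow_mem hl 5) R hR
    have hl1 := hPL l hl (sylow_le_of_mem_normalizer P hlN 1 (by rw [pow_one]; exact hl5))
    exact Subtype.ext hl1
  have hL6 : Nat.card L = 6 := by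
    have := index_mul_card (stabilizer L P)
    rw [hstab, card_bot, mul_one, index_bot] at this
    have h2 := index_stabilizer L P
    rw [horb, h6, hstab, index_bot] at h2
    exact h2
  haveI : Fact (Nat.Prime 3) := ⟨by norm_num⟩
  obtain ⟨t, ht⟩ := exists_prime_orderOf_dvd_card' (G := L) 3 (by rw [hL6]; norm_num)
  have hT : (zpowers t).index = 2 := by
    have := card_mul_index (zpowers t)
    rw [Nat.card_zpowers, ht, hL6] at this
    omega
  let xK : K := ⟨x, hPK hx⟩
  let σ : L → L := fun l => ⟨xK * l * xK⁻¹, ‹L.Normal›.conj_mem _ l.2 xK⟩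
  have hσmul : ∀ a c, σ (a * c) = σ a * σ c := fun a c => Subtype.ext (by
    show xK * ((a : K) * c) * xK⁻¹ = xK * a * xK⁻¹ * (xK * c * xK⁻¹); group)
  let σh : L →* L := MonoidHom.mk' σ hσmul
  have hσt : σh t ∈ zpowers t := by
    have h3 : (σh t) ^ 3 = 1 := by rw [← map_pow, ← ht, pow_orderOf_eq_one, map_one]
    have h2 := sq_mem_of_index_two hT (σh t)
    have : σh t = ((σh t) ^ 2) ^ 2 := by
      rw [← pow_mul, show 2 * 2 = 3 + 1 from rfl, pow_succ, h3, one_mul]
    rw [this]
    exact pow_mem h2 2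
  have hσiter : ∀ n : ℕ, ((σh^[n] t : L) : K) = xK ^ n * (t : K) * (xK ^ n)⁻¹ := by
    intro n
    induction n with
    | zero => simp
    | succ n ih =>
      rw [Function.iterate_succ_apply']
      show xK * ((σh^[n] t : L) : K) * xK⁻¹ = _
      rw [ih, pow_succ']
      group
  have hσ5 : σh^[5] t = t := Subtype.ext (by
    rw [hσiter]
    have : xK ^ 5 = 1 := Subtype.ext (by simpa using hx5)
    simp [this])
  have hσfix : σh t = t := by
    obtain ⟨k, hk⟩ := mem_zpowers_iff.1 hσt
    rw [← zpow_mod_orderOf, ht] at hk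
    have hk3 : k % 3 = 0 ∨ k % 3 = 1 ∨ k % 3 = 2 := by omega
    rcases hk3 with h | h | h
    · simp only [Nat.cast_ofNat, h, zpow_zero] at hk
      exfalso
      have : σh^[5] t = 1 := by
        simp only [Function.iterate_succ, Function.comp_apply, Function.iterate_zero, id, ← hk, map_one]
      rw [hσ5] at this
      rw [this, orderOf_one] at ht
      omega
    · simp only [Nat.cast_ofNat, h, zpow_one] at hk
      exact hk.symm
    · simp only [Nat.cast_ofNat, h, zpow_ofNat] at hk
      exfalso
      have : σh^[5] t = t ^ 32 := by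
        simp only [Function.iterate_succ, Function.comp_apply, Function.iterate_zero, id, ← hk,
          map_pow, ← pow_mul]
      rw [hσ5] at this
      have h31 : t ^ 31 = 1 := mul_left_cancel (a := t) (by rw [mul_one, ← pow_succ']; exact this.symm)
      have := orderOf_dvd_of_pow_eq_one h31
      rw [ht] at this
      omega
  have hcomm : x * ((t : K) : G) = ((t : K) : G) * x := by
    have := congrArg (fun l : L => ((l : K) : G)) hσfix
    exact mul_inv_eq_iff_eq_mul.1 this
  set c := ((t : K) : G) • P with hc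
  have hcP : c ≠ P := by
    intro h
    have : t ∈ stabilizer L P := h
    rw [hstab, mem_bot] at this
    rw [this, orderOf_one] at ht
    omega
  have hxc : x • c = c := by rw [hc, ← mul_smul, hcomm, mul_smul, smul_eq_of_mem P hx]
  have hcb : c ∈ orbit (P : Subgroup G) b := by
    have : c ∈ fixSet D := (hDF _ (t : K).2.1 P).2 hPF
    rw [horbb] at this
    exact this.resolve_left hcP
  obtain ⟨p, hp⟩ := hcb
  apply hxb
  apply smul_left_cancel (p : G)
  rw [← mul_smul, ← comm_of_mem hs P hx p.2, mul_smul]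
  show x • (p : G) • b = (p : G) • b
  rw [show (p : G) • b = c from hp, hxc]

theorem card_sylow_five (P : Sylow 5 G) : Nat.card P = 5 := by
  obtain ⟨n, hn⟩ := IsPGroup.iff_card.1 P.2
  have h1 := card_le_five hs P
  rw [hn] at h1 ⊢
  match n with
  | 0 => exact absurd (card_eq_one.1 hn) (P.ne_bot_of_dvd_card (five_dvd hs))
  | 1 => rfl
  | k + 2 =>
    have : 5 ^ 2 ≤ 5 ^ (k + 2) := Nat.pow_le_pow_right (by norm_num) (by omega)
    omega

end Cfsg.Agent.SylowFive
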