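import Mathlib
import Cfsg.Agent.Lib.SmallSimple.Basic
import Cfsg.Agent.Lib.SmallSimple.SylowFive

/-!
Sylow subgroups of prime order acting on the cosets of their normalisers.
-/

set_option autoImplicit false

namespace Cfsg.Agent.SmallSimple

open Subgroup
open scoped Pointwise

variable {G : Type*} [Group G] [Finite G] {p : ℕ} [Fact p.Prime]

theorem zpowers_eq_of_prime {H : Subgroup G} (hH : Nat.card H = p) {w : G} (hw : w ∈ H)
    (hw1 : w ≠ 1) : zpowers w = H := by
  refine eq_of_le_of_card_ge (zpowers_le.2 hw) ?_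
  have h := Subgroup.orderOf_dvd_natCard H hw
  rw [hH] at h
  rw [hH, Nat.card_zpowers, ((Nat.dvd_prime (Fact.out : p.Prime)).1 h).resolve_left
    (fun h1 => hw1 (orderOf_eq_one_iff.1 h1))]

/-- An element of order `p` fixing the coset of `g` generates the conjugate of `P` by `g`. -/
theorem fixed_coset_iff (P : Sylow p G) (hP : Nat.card ↥(P : Subgroup G) = p) {y : G}
    (hy : orderOf y = p) (g : G) :
    y • (g : G ⧸ normalizer ((P : Subgroup G) : Set G)) = g ↔ g⁻¹ * y * g ∈ (P : Subgroup G) := by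
  rw [MulAction.Quotient.smul_coe, QuotientGroup.eq, smul_eq_mul]
  constructor
  · intro h
    refine SylowFive.sylow_le_of_mem_normalizer P ?_ 1 ?_
    · have := inv_mem h
      simpa [mul_assoc] using this
    · rw [pow_one]
      have e := conj_pow (i := p) (a := g⁻¹) (b := y)
      rw [inv_inv] at e
      rw [e, ← hy, pow_orderOf_eq_one, mul_one, inv_mul_cancel]
  · intro h
    have h' := inv_mem (le_normalizer h)
    simpa [mul_assoc] using h'

theorem card_fixedBy_of_orderOf_eq (P : Sylow p G) (hP : Nat.card ↥(P : Subgroup G) = p) {y : G}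
    (hy : orderOf y = p) :
    Nat.card (MulAction.fixedBy (G ⧸ normalizer ((P : Subgroup G) : Set G)) y) = 1 := by
  have hy1 : y ≠ 1 := fun h => (Fact.out : p.Prime).one_lt.ne (by rw [← hy, h, orderOf_one])
  obtain ⟨R, hR⟩ := (IsPGroup.of_card (p := p) (n := 1) (G := zpowers y)
    (by rw [Nat.card_zpowers, hy, pow_one])).exists_le_sylow
  obtain ⟨g, hg⟩ := MulAction.exists_smul_eq G P R
  have hyR : g⁻¹ * y * g ∈ (P : Subgroup G) := by
    have h2 : y ∈ (MulAut.conj g • (P : Subgroup G) : Subgroup G) := by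
      have h3 := hR (mem_zpowers y)
      rw [← hg] at h3
      exact h3
    rw [mem_pointwise_smul_iff_inv_smul_mem] at h2
    simpa [MulAut.smul_def] using h2
  rw [Nat.card_eq_one_iff_unique]
  refine ⟨⟨?_⟩, ⟨⟨g, (fixed_coset_iff P hP hy g).2 hyR⟩⟩⟩
  rintro ⟨a, ha⟩ ⟨b, hb⟩
  induction a using QuotientGroup.induction_on with | H a =>
  induction b using QuotientGroup.induction_on with | H b =>
  refine Subtype.ext (QuotientGroup.eq.2 ?_)
  have ha' := (fixed_coset_iff P hP hy a).1 ha
  have hb' := (fixed_coset_iff P hP hy b).1 hb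
  have hne : ∀ c : G, c⁻¹ * y * c ≠ 1 := fun c h => hy1 (by
    have := congrArg (fun x => c * x * c⁻¹) h
    simpa [mul_assoc] using this)
  have hz : ∀ c : G, c⁻¹ * y * c ∈ (P : Subgroup G) →
      (zpowers y).map (MulAut.conj c⁻¹).toMonoidHom = (P : Subgroup G) := by
    intro c hc
    rw [MonoidHom.map_zpowers]
    refine zpowers_eq_of_prime hP ?_ ?_ <;> simp [hne, hc]
  refine mem_normalizer_iff.2 fun x => ?_
  have key : ∀ z, z ∈ (P : Subgroup G) ↔ a * z * a⁻¹ ∈ zpowers y := fun z => by
    rw [← hz a ha', mem_map_equiv]; simp [mul_assoc]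
  have key' : ∀ z, z ∈ (P : Subgroup G) ↔ b * z * b⁻¹ ∈ zpowers y := fun z => by
    rw [← hz b hb', mem_map_equiv]; simp [mul_assoc]
  rw [key', key]
  group

theorem eq_one_or_eq_of_fixed (P : Sylow p G) (hP : Nat.card ↥(P : Subgroup G) = p) {x : G}
    (hx : x ∈ normalizer ((P : Subgroup G) : Set G))
    (hxc : x ∉ centralizer ((P : Subgroup G) : Set G)) {α : Type*} [MulAction G α] {a : α}
    (ha : x • a = a) {u : G} (hu : u ∈ (P : Subgroup G)) (hua : x • u • a = u • a) :
    u • a = a := by
  have hw : u⁻¹ * (x * u * x⁻¹) ∈ (P : Subgroup G) :=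
    mul_mem (inv_mem hu) ((mem_normalizer_iff.1 hx u).1 hu)
  have hwa : (u⁻¹ * (x * u * x⁻¹)) • a = a := by
    rw [mul_smul, mul_smul, mul_smul, inv_smul_eq_iff]
    rw [show x⁻¹ • a = a by rw [inv_smul_eq_iff, ha]]
    exact hua
  by_cases hw1 : u⁻¹ * (x * u * x⁻¹) = 1
  · by_cases hu1 : u = 1
    · rw [hu1, one_smul]
    · refine absurd (mem_centralizer_iff.2 fun h hh => ?_) hxc
      have hcomm : Commute x u := by
        have h1 := inv_mul_eq_one.1 hw1
        exact (eq_mul_inv_iff_mul_eq.1 h1).symm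
      obtain ⟨k, rfl⟩ : h ∈ zpowers u := (zpowers_eq_of_prime hP hu hu1).symm ▸ hh
      exact ((hcomm.zpow_right k).eq).symm
  · obtain ⟨k, hk⟩ : u ∈ zpowers (u⁻¹ * (x * u * x⁻¹)) :=
      (zpowers_eq_of_prime hP hw hw1).symm ▸ hu
    rw [← hk]
    exact (zpow_mem (show _ ∈ MulAction.stabilizer G a from hwa) k :)

theorem card_fixedBy_le_orbits (P : Sylow p G) (hP : Nat.card ↥(P : Subgroup G) = p) {x : G}
    (hx : x ∈ normalizer ((P : Subgroup G) : Set G))
    (hxc : x ∉ centralizer ((P : Subgroup G) : Set G)) {α : Type*} [MulAction G α] [Finite α] :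
    Nat.card (MulAction.fixedBy α x) ≤
      Nat.card (MulAction.orbitRel.Quotient ↥(P : Subgroup G) α) := by
  refine Nat.card_le_card_of_injective
    (fun a => (Quotient.mk'' a.1 : MulAction.orbitRel.Quotient ↥(P : Subgroup G) α)) ?_
  rintro ⟨a, ha⟩ ⟨b, hb⟩ h
  rw [Quotient.eq''] at h
  obtain ⟨⟨u, hu⟩, hub⟩ := h
  simp only [Subgroup.mk_smul] at hub
  subst hub
  exact Subtype.ext (eq_one_or_eq_of_fixed P hP hx hxc hb hu ha)

/-- When `n_p = p + 1`, a Sylow subgroup of order `p` has at most two orbits on the cosets. -/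
theorem card_orbits_le_two (P : Sylow p G) (hP : Nat.card ↥(P : Subgroup G) = p)
    (hn : Nat.card (Sylow p G) = p + 1) :
    Nat.card (MulAction.orbitRel.Quotient ↥(P : Subgroup G)
      (G ⧸ normalizer ((P : Subgroup G) : Set G))) ≤ 2 := by
  classical
  set N := normalizer ((P : Subgroup G) : Set G)
  haveI := Fintype.ofFinite (G ⧸ N)
  have hcard : Fintype.card (G ⧸ N) = p + 1 := by
    rw [← Nat.card_eq_fintype_card, ← hn, P.card_eq_index_normalizer]
    rfl
  -- orbits of `P`: the fixed coset, and the other `p` cosets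
  obtain ⟨y, hy, hy1⟩ := (P : Subgroup G).bot_or_exists_ne_one.resolve_left (fun h => by
    rw [h, Subgroup.card_bot] at hP
    exact (Fact.out : p.Prime).one_lt.ne hP)
  have hyo : orderOf y = p := by
    rw [← Nat.card_zpowers, zpowers_eq_of_prime hP hy hy1, hP]
  obtain ⟨a, ha⟩ : ∃ a, a ∉ MulAction.fixedBy (G ⧸ N) y := by
    by_contra hc
    simp only [not_exists, not_not] at hc
    have := card_fixedBy_of_orderOf_eq P hP hyo
    rw [Nat.card_congr (Equiv.subtypeUnivEquiv hc), Nat.card_eq_fintype_card, hcard] at this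
    have := (Fact.out : p.Prime).two_le
    omega
  have hfree : Function.Injective (fun u : ↥(P : Subgroup G) => u • a) := by
    intro u v huv
    by_contra hne
    have hw : (v⁻¹ * u : ↥(P : Subgroup G)) • a = a := by
      rw [mul_smul, inv_smul_eq_iff]; exact huv
    have hw1 : ((v⁻¹ * u : ↥(P : Subgroup G)) : G) ≠ 1 := fun h => hne
      (inv_mul_eq_one.1 (Subtype.ext h)).symm
    obtain ⟨k, hk⟩ : y ∈ zpowers ((v⁻¹ * u : ↥(P : Subgroup G)) : G) :=
      (zpowers_eq_of_prime hP (v⁻¹ * u).2 hw1).symm ▸ hy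
    exact ha (hk ▸ (zpow_mem (show _ ∈ MulAction.stabilizer G a from hw) k :))
  have h1 : Nat.card {b : G ⧸ N // b ∉ Set.range (fun u : ↥(P : Subgroup G) => u • a)} = 1 := by
    rw [Nat.card_eq_fintype_card, Fintype.card_subtype_compl, hcard,
      show Fintype.card {b : G ⧸ N // b ∈ Set.range (fun u : ↥(P : Subgroup G) => u • a)} = p by
        rw [← Nat.card_eq_fintype_card]
        exact ((Nat.card_congr (Equiv.ofInjective _ hfree)).symm).trans hP]
    omega
  have hsurj : Function.Surjective (fun o : Option {b : G ⧸ N //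
      b ∉ Set.range (fun u : ↥(P : Subgroup G) => u • a)} =>
      (Quotient.mk'' (o.elim a Subtype.val) :
        MulAction.orbitRel.Quotient ↥(P : Subgroup G) (G ⧸ N))) := by
    intro q
    induction q using Quotient.inductionOn' with | _ b =>
    by_cases hb : b ∈ Set.range (fun u : ↥(P : Subgroup G) => u • a)
    · obtain ⟨u, rfl⟩ := hb
      exact ⟨none, Quotient.sound' ⟨u⁻¹, inv_smul_smul _ _⟩⟩
    · exact ⟨some ⟨b, hb⟩, rfl⟩
  refine (Nat.card_le_card_of_surjective _ hsurj).trans ?_
  rw [Finite.card_option, h1]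

/-- Every element of a non-abelian simple group is an even permutation in any action. -/
theorem sign_toPerm_eq_one [IsSimpleGroup G] (hG : ¬ IsMulCommutative G) {α : Type*}
    [MulAction G α] [Fintype α] [DecidableEq α] (g : G) :
    Equiv.Perm.sign (MulAction.toPerm g : Equiv.Perm α) = 1 := by
  let s : G →* ℤˣ := Equiv.Perm.sign.comp (MulAction.toPermHom G α)
  rcases (MonoidHom.normal_ker s).eq_bot_or_eq_top with h | h
  · refine absurd ⟨⟨fun a b => (MonoidHom.ker_eq_bot_iff s).1 h ?_⟩⟩ hG
    rw [map_mul, map_mul, mul_comm]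
  · exact (MonoidHom.mem_ker (f := s)).1 (h ▸ mem_top g)

/-- The sign of an involutory permutation. -/
theorem sign_of_involutive {α : Type*} [Fintype α] [DecidableEq α] (f : Equiv.Perm α)
    (h : f * f = 1) : Equiv.Perm.sign f = (-1) ^ (f.support.card / 2) := by
  have h2 : ∀ n ∈ f.cycleType, n = 2 := fun n hn => by
    have hd := Equiv.Perm.dvd_of_mem_cycleType hn
    have ho : orderOf f ∣ 2 := orderOf_dvd_of_pow_eq_one (by rw [pow_two, h])
    have := Nat.le_of_dvd (by norm_num) (hd.trans ho)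
    have := Equiv.Perm.two_le_of_mem_cycleType hn
    omega
  have hrep := Multiset.eq_replicate_card.2 h2
  have hsum := Equiv.Perm.sum_cycleType f
  rw [hrep, Multiset.sum_replicate, smul_eq_mul] at hsum
  rw [Equiv.Perm.sign_of_cycleType, hrep, Multiset.sum_replicate, Multiset.card_replicate,
    smul_eq_mul, ← hsum, Nat.mul_div_cancel _ two_pos, pow_add, mul_comm _ 2, pow_mul]
  simp

/-- No involution inverts a Sylow subgroup of order `p ≡ 3 (mod 4)` when `n_p = p + 1`. -/
theorem no_involution_of_card_sylow_succ [IsSimpleGroup G] (hG : ¬ IsMulCommutative G)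
    (P : Sylow p G) (hP : Nat.card ↥(P : Subgroup G) = p) (hn : Nat.card (Sylow p G) = p + 1)
    (hp : p % 4 = 3) {t : G} (ht : t * t = 1)
    (htN : t ∈ normalizer ((P : Subgroup G) : Set G)) :
    t ∈ centralizer ((P : Subgroup G) : Set G) := by
  classical
  by_contra htC
  set N := normalizer ((P : Subgroup G) : Set G)
  haveI := Fintype.ofFinite (G ⧸ N)
  set f : Equiv.Perm (G ⧸ N) := MulAction.toPerm t
  have hcard : Fintype.card (G ⧸ N) = p + 1 := by
    rw [← Nat.card_eq_fintype_card, ← hn, P.card_eq_index_normalizer]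
    rfl
  have horb := card_orbits_le_two P hP hn
  have hfix := (card_fixedBy_le_orbits P hP htN htC (α := G ⧸ N)).trans horb
  have hsupp : f.support.card + Nat.card (MulAction.fixedBy (G ⧸ N) t) = p + 1 := by
    have h : Nat.card (MulAction.fixedBy (G ⧸ N) t) = Nat.card ↥(f.supportᶜ) :=
      Nat.card_congr (Equiv.subtypeEquivRight fun b => by simp [f, MulAction.mem_fixedBy])
    rw [h, Nat.card_eq_finsetCard, Finset.card_add_card_compl, hcard]
  have hone : f * f = 1 := by
    ext b
    simp [f, ← mul_smul, ht]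
  have hpos : 0 < Nat.card (MulAction.fixedBy (G ⧸ N) t) := by
    haveI : Nonempty (MulAction.fixedBy (G ⧸ N) t) := ⟨⟨((1 : G) : G ⧸ N), by
      show t • ((1 : G) : G ⧸ N) = _
      rw [MulAction.Quotient.smul_coe, QuotientGroup.eq, smul_eq_mul]
      simpa using inv_mem htN⟩⟩
    exact Nat.card_pos
  have heven : 2 ∣ f.support.card := by
    have h2 : ∀ n ∈ f.cycleType, 2 ∣ n := fun n hn => by
      have hd := Equiv.Perm.dvd_of_mem_cycleType hn
      have ho : orderOf f ∣ 2 := orderOf_dvd_of_pow_eq_one (by rw [pow_two, hone])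
      have := Nat.le_of_dvd (by norm_num) (hd.trans ho)
      have := Equiv.Perm.two_le_of_mem_cycleType hn
      omega
    rw [← Equiv.Perm.sum_cycleType]
    exact Multiset.dvd_sum h2
  have hs := sign_of_involutive f hone
  rw [sign_toPerm_eq_one hG] at hs
  have hodd : Odd (f.support.card / 2) := by
    rw [Nat.odd_iff]
    omega
  rw [hodd.neg_one_pow] at hs
  exact absurd hs (by decide)

end Cfsg.Agent.SmallSimple
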