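import Mathlib
import Cfsg.Agent.Lib.LinearGroups.P1
import Cfsg.Agent.Lib.LinearGroups.Basic
import Cfsg.Agent.Lib.SmallSimple.Basic

/-!
Recognition of `PSL_2(q)` from a doubly transitive action on `q + 1` points whose point
stabiliser is affine.
-/

set_option autoImplicit false

namespace Cfsg.Agent.RecognizePSL

open Matrix MulAction
open scoped LinearAlgebra.Projectivization MatrixGroups

section Points

variable {F : Type*} [Field F]

theorem point_ne (z : F) : (![z, 1] : Fin 2 → F) ≠ 0 := LinGrp.diag_ne z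

/-- The projective line as `F ∪ {∞}`. -/
noncomputable def pointEquiv (F : Type*) [Field F] : Option F ≃ ℙ F (Fin 2 → F) :=
  Equiv.ofBijective
    (fun z => z.elim (Projectivization.mk F ![1, 0] LinGrp.e1_ne)
      (fun z => Projectivization.mk F ![z, 1] (point_ne z)))
    ⟨by
      rintro (_ | z) (_ | z') h
      · rfl
      · simp [LinGrp.mk_eq_mk_iff_crossTerm, LinGrp.crossTerm] at h
      · simp [LinGrp.mk_eq_mk_iff_crossTerm, LinGrp.crossTerm] at h
      · simp [LinGrp.mk_eq_mk_iff_crossTerm, LinGrp.crossTerm, sub_eq_zero] at h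
        exact congrArg some h,
    fun x => by
      induction x using Projectivization.ind with | _ v hv =>
      by_cases h1 : v 1 = 0
      · exact ⟨none, by simp [LinGrp.mk_eq_mk_iff_crossTerm, LinGrp.crossTerm, h1]⟩
      · refine ⟨some (v 0 / v 1), ?_⟩
        simp [LinGrp.mk_eq_mk_iff_crossTerm, LinGrp.crossTerm, h1]⟩

theorem pointEquiv_none :
    pointEquiv F none = Projectivization.mk F ![1, 0] LinGrp.e1_ne := rfl

theorem pointEquiv_some (z : F) :
    pointEquiv F (some z) = Projectivization.mk F ![z, 1] (point_ne z) := rfl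

/-- `z ↦ s z + t` on `F ∪ {∞}`. -/
def affMap (s t : F) : Option F → Option F := Option.map (fun z => s * z + t)

/-- `z ↦ c / z` on `F ∪ {∞}`. -/
def invMap [DecidableEq F] (c : F) : Option F → Option F :=
  fun z => z.elim (some 0) (fun z => if z = 0 then none else some (c / z))

theorem exists_pgl_affMap (s : Fˣ) (t : F) :
    ∃ h : Matrix.ProjGenLinGroup (Fin 2) F, ∀ z,
      h • pointEquiv F z = pointEquiv F (affMap (s : F) t z) := by
  refine ⟨.mk (GeneralLinearGroup.mkOfDetNeZero !![(s : F), t; 0, 1] (by simp [det_fin_two])), ?_⟩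
  rintro (_ | z) <;>
    simp [pointEquiv_none, pointEquiv_some, affMap, LinGrp.mk_eq_mk_iff_crossTerm, LinGrp.crossTerm, LinGrp.GL_smul_vec,
      GeneralLinearGroup.mkOfDetNeZero]

theorem exists_pgl_invMap [DecidableEq F] (c : F) (hc : c ≠ 0) :
    ∃ h : Matrix.ProjGenLinGroup (Fin 2) F, ∀ z,
      h • pointEquiv F z = pointEquiv F (invMap c z) := by
  refine ⟨.mk (GeneralLinearGroup.mkOfDetNeZero !![0, c; 1, 0] (by simp [det_fin_two, hc])), ?_⟩
  rintro (_ | z)
  · simp [pointEquiv_none, pointEquiv_some, invMap, LinGrp.mk_eq_mk_iff_crossTerm, LinGrp.crossTerm, LinGrp.GL_smul_vec,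
      GeneralLinearGroup.mkOfDetNeZero]
  · by_cases h : z = 0 <;>
      simp [pointEquiv_none, pointEquiv_some, invMap, h, LinGrp.mk_eq_mk_iff_crossTerm, LinGrp.crossTerm,
        LinGrp.GL_smul_vec, GeneralLinearGroup.mkOfDetNeZero, mul_div_cancel₀]

theorem pgl_eq_of_eq {g h : Matrix.ProjGenLinGroup (Fin 2) F}
    (hgh : ∀ z : Option F, g • pointEquiv F z = h • pointEquiv F z) : g = h := by
  have h1 : ∀ x : ℙ F (Fin 2 → F), (h⁻¹ * g) • x = x := fun x => by
    obtain ⟨z, rfl⟩ := (pointEquiv F).surjective x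
    rw [mul_smul, hgh, inv_smul_smul]
  refine (inv_mul_eq_one.1 (LinGrp.PGL2_eq_one_of_fix _ (LinGrp.stdTriple F 0)
    (LinGrp.stdTriple F 1) (LinGrp.stdTriple F 2) ?_ ?_ ?_ (h1 _) (h1 _) (h1 _))).symm <;>
    exact LinGrp.stdTriple_injective.ne (by decide)

theorem commutator_pgl_le :
    commutator (Matrix.ProjGenLinGroup (Fin 2) F) ≤
      (Matrix.ProjectiveSpecialLinearGroup.toPGL (n := Fin 2) (R := F)).range := by
  rw [commutator_def, ← MonoidHom.range_eq_top.2 (Matrix.ProjGenLinGroup.mk_surjective
      (n := Fin 2) (R := F)), MonoidHom.range_eq_map, ← Subgroup.map_commutator,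
    Subgroup.map_le_iff_le_comap]
  intro g hg
  obtain ⟨A, rfl⟩ : g ∈ (Matrix.SpecialLinearGroup.toGL :
      Matrix.SpecialLinearGroup (Fin 2) F →* GL (Fin 2) F).range := by
    rw [LinGrp.range_toGL_eq_ker_det]
    exact LinGrp.commutator_GL_le_ker_det hg
  exact ⟨QuotientGroup.mk A, by simp⟩

end Points

section Main

variable {G : Type*} [Group G] [Finite G] [IsSimpleGroup G] {F : Type*} [Field F] [Fintype F]
  {α : Type*} [MulAction G α]

/-- A simple group acting doubly transitively on `F ∪ {∞}` with affine point stabiliser and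
containing some `z ↦ c / z` is `PSL_2(F)`. -/
theorem mulEquiv_PSL [DecidableEq F] (hG : ¬ IsMulCommutative G) [FaithfulSMul G α]
    [IsMultiplyPretransitive G α 2] (e : Option F ≃ α) (S : Subgroup Fˣ)
    (haff : ∀ s ∈ S, ∀ t : F, ∃ g : G, ∀ z, g • e z = e (affMap (s : F) t z))
    (hstab : Nat.card (stabilizer G (e none)) ≤ Nat.card F * Nat.card S)
    (w : G) (c : F) (hc : c ≠ 0) (hw : ∀ z, w • e z = e (invMap c z))
    (hcard : Nat.card G = Nat.card (Matrix.ProjectiveSpecialLinearGroup (Fin 2) F)) :
    Nonempty (G ≃* Matrix.ProjectiveSpecialLinearGroup (Fin 2) F) := by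
  haveI : IsPreprimitive G α := isPreprimitive_of_is_two_pretransitive inferInstance
  haveI : Finite α := Finite.of_equiv _ e
  haveI : Nontrivial α := e.nontrivial_congr.1 inferInstance
  let π := pointEquiv F
  let H : Subgroup G :=
    { carrier := {g | ∃ h : Matrix.ProjGenLinGroup (Fin 2) F, ∀ z,
        h • π z = π (e.symm (g • e z))}
      one_mem' := ⟨1, fun z => by simp⟩
      mul_mem' := by
        rintro a b ⟨h, hh⟩ ⟨k, hk⟩
        exact ⟨h * k, fun z => by rw [mul_smul, hk, hh, Equiv.apply_symm_apply, mul_smul]⟩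
      inv_mem' := by
        rintro a ⟨h, hh⟩
        refine ⟨h⁻¹, fun z => ?_⟩
        rw [inv_smul_eq_iff, hh, Equiv.apply_symm_apply, smul_inv_smul, Equiv.symm_apply_apply] }
  have hstabH : stabilizer G (e none) ≤ H := by
    choose f hf using fun x : S × F => haff x.1 x.1.2 x.2
    let f' : S × F → stabilizer G (e none) := fun x => ⟨f x, hf x none⟩
    have hinj : Function.Injective f' := by
      rintro ⟨s, t⟩ ⟨s', t'⟩ h
      have h0 := congrArg (fun g : stabilizer G (e none) => (g : G) • e (some 0)) h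
      have h1 := congrArg (fun g : stabilizer G (e none) => (g : G) • e (some 1)) h
      simp only [f', hf, e.apply_eq_iff_eq, affMap, Option.map_some, Option.some.injEq, mul_zero,
        zero_add, mul_one] at h0 h1
      subst h0
      simp only [add_left_inj] at h1
      rw [Subtype.ext (Units.ext h1)]
    have hsurj : Function.Surjective f' :=
      (hinj.bijective_of_nat_card_le (hstab.trans (by rw [Nat.card_prod, mul_comm]))).surjective
    intro g hg
    obtain ⟨⟨s, t⟩, hst⟩ := hsurj ⟨g, hg⟩
    obtain ⟨h, hh⟩ := exists_pgl_affMap (s : Fˣ) t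
    refine ⟨h, fun z => ?_⟩
    rw [hh, ← show f (s, t) = g from congrArg Subtype.val hst, hf, Equiv.symm_apply_apply]
  have hwH : w ∈ H := by
    obtain ⟨h, hh⟩ := exists_pgl_invMap c hc
    exact ⟨h, fun z => by rw [hh, hw, Equiv.symm_apply_apply]⟩
  have htop : H = ⊤ := by
    refine (IsPreprimitive.isCoatom_stabilizer_of_isPreprimitive G (e none)).2 H
      (lt_of_le_of_ne hstabH fun heq => ?_)
    have h1 : w • e none = e none := (heq ▸ hwH : w ∈ stabilizer G (e none))
    rw [hw, e.apply_eq_iff_eq] at h1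
    simp [invMap] at h1
  choose ψ hψ using fun g : G => (htop ▸ Subgroup.mem_top g : g ∈ H)
  let Ψ : G →* Matrix.ProjGenLinGroup (Fin 2) F := MonoidHom.mk' ψ fun a b =>
    pgl_eq_of_eq fun z => by
      rw [mul_smul, hψ, hψ, hψ, Equiv.apply_symm_apply, mul_smul]
  have hinj : Function.Injective Ψ := by
    rw [injective_iff_map_eq_one]
    intro g hg
    refine FaithfulSMul.eq_of_smul_eq_smul (α := α) fun x => ?_
    have h2 := hψ g (e.symm x)
    rw [show ψ g = 1 from hg, one_smul, π.apply_eq_iff_eq, Equiv.apply_symm_apply,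
      e.symm.apply_eq_iff_eq] at h2
    rw [one_smul, ← h2]
  have hperf : commutator G = ⊤ := by
    rcases (inferInstance : (commutator G).Normal).eq_bot_or_eq_top with h | h
    · refine absurd ⟨⟨fun a b => ?_⟩⟩ hG
      refine commutatorElement_eq_one_iff_mul_comm.1 (Subgroup.mem_bot.1 (h ▸ ?_))
      exact Subgroup.commutator_mem_commutator (Subgroup.mem_top a) (Subgroup.mem_top b)
    · exact h
  have hle : Ψ.range ≤ (Matrix.ProjectiveSpecialLinearGroup.toPGL (n := Fin 2) (R := F)).range := by
    rw [MonoidHom.range_eq_map, ← hperf, commutator_def, Subgroup.map_commutator]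
    exact (Subgroup.commutator_mono le_top le_top).trans commutator_pgl_le
  haveI : Finite (Matrix.ProjGenLinGroup (Fin 2) F) :=
    Finite.of_surjective _ Matrix.ProjGenLinGroup.mk_surjective
  have hj := Matrix.ProjectiveSpecialLinearGroup.toPGL_injective (n := Fin 2) (R := F)
  have heq := Subgroup.eq_of_le_of_card_ge hle (by
    rw [Nat.card_congr (MonoidHom.ofInjective hinj).symm.toEquiv,
      Nat.card_congr (MonoidHom.ofInjective hj).symm.toEquiv, hcard])
  exact ⟨((MonoidHom.ofInjective hinj).trans (MulEquiv.subgroupCongr heq)).trans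
    (MonoidHom.ofInjective hj).symm⟩

end Main

section Candidates

variable {K : Type*} [Add K] [Mul K] [Zero K] [One K] [DecidableEq K]

/-- Powers, for computations. -/
def pw (s : K) : ℕ → K
  | 0 => 1
  | n + 1 => pw s n * s

/-- The candidates for an element exchanging `0` and `∞`. -/
def cand (s g : K) (m k : ℕ) (a b : K) : Option K → Option K
  | none => some 0
  | some z => if z = 0 then none else
    match (List.range m).find? (fun i => decide (pw s i = z)) with
    | some i => some (pw s (k * i % m) * a)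
    | none => match (List.range m).find? (fun i => decide (pw s i * g = z)) with
      | some i => some (pw s (k * i % m) * b)
      | none => none

/-- Among the candidates, only `z ↦ c / z` satisfies the double coset relation. -/
def Check (K : Type*) [Add K] [Mul K] [Zero K] [One K] [DecidableEq K] (s g : K) (m : ℕ)
    (ok : ℕ → Bool) : Prop :=
  ∀ k ∈ List.range m, ok k = true → Nat.Coprime k m → ∀ a ∈ [1, g], ∀ b : K, b ≠ 0 → ∀ t : K,
    Option.map (· + a) (cand s g m k a b (some t)) = some 0 →
    ∀ j ∈ List.range m,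
      (∀ z : Option K,
        cand s g m k a b (Option.map (· + 1) (cand s g m k a b z)) =
          Option.map (· + a) (cand s g m k a b (Option.map (fun z => pw s j * z + t) z))) →
      ∀ z : K, z ≠ 0 → Option.map (fun y => y * z) (cand s g m k a b (some z)) = some a

/-- The powers of `s` and their translates by `g` exhaust the non-zero elements. -/
def Cover (K : Type*) [Add K] [Mul K] [Zero K] [One K] [DecidableEq K] (s g : K) (m : ℕ) : Prop :=
  g ≠ 0 ∧ pw s m = 1 ∧ (∀ i ∈ List.range m, i ≠ 0 → pw s i ≠ 1) ∧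
    ∀ z : K, z ≠ 0 → ∃ i ∈ List.range m, pw s i = z ∨ pw s i * g = z

end Candidates

section Derive

variable {G : Type*} [Group G] [Finite G] [IsSimpleGroup G] {F : Type*} [Field F] [Fintype F]
  {α : Type*} [MulAction G α] {K : Type*} [Add K] [Mul K] [Zero K] [One K] [DecidableEq K]
  [Fintype K]

theorem map_pw (φ : K ≃ F) (h1 : φ 1 = 1) (hmul : ∀ x y, φ (x * y) = φ x * φ y) (s : K) (n : ℕ) :
    φ (pw s n) = φ s ^ n := by
  induction n with
  | zero => simpa [pw]
  | succ n ih => rw [pw, hmul, ih, pow_succ]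

/-- Recognition with the finite check. -/
theorem mulEquiv_PSL_of_check (hG : ¬ IsMulCommutative G) [FaithfulSMul G α]
    [IsMultiplyPretransitive G α 2] (e : Option F ≃ α) (φ : K ≃ F)
    (hadd : ∀ x y, φ (x + y) = φ x + φ y) (hmulφ : ∀ x y, φ (x * y) = φ x * φ y) (h0 : φ 0 = 0)
    (h1 : φ 1 = 1) (s g : K) (m : ℕ) (ok : ℕ → Bool)
    (hcover : Cover K s g m) (hcheck : Check K s g m ok)
    (htr : ∀ t : F, ∃ x : G, ∀ z, x • e z = e (affMap 1 t z))
    (x : G) (hx : ∀ z, x • e z = e (affMap (φ s) 0 z))
    (hGcard : Nat.card G = (Nat.card F + 1) * (Nat.card F * m))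
    (hok : ∀ (w : G) (k : ℕ), w * x * w⁻¹ = x ^ k → w • e none = e (some 0) →
      w • e (some 0) = e none → ok (k % m) = true)
    (hcard : Nat.card G = Nat.card (Matrix.ProjectiveSpecialLinearGroup (Fin 2) F)) :
    Nonempty (G ≃* Matrix.ProjectiveSpecialLinearGroup (Fin 2) F) := by
  classical
  obtain ⟨hg0, hsm, hsne, hcov⟩ := hcover
  have hφ0 : ∀ z, φ z = 0 ↔ z = 0 := fun z => by rw [← h0, φ.apply_eq_iff_eq]
  have hσ : φ s ^ m = 1 := by rw [← map_pw φ h1 hmulφ, hsm, h1]
  have hm0 : m ≠ 0 := by
    rintro rfl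
    have := hGcard.symm.trans_ne Nat.card_pos.ne'
    simp at this
  set su : Fˣ := (IsUnit.of_pow_eq_one hσ hm0).unit with hsu
  have hsu' : (su : F) = φ s := rfl
  have hord : orderOf su = m := by
    rw [orderOf_eq_iff (Nat.pos_of_ne_zero hm0)]
    refine ⟨Units.ext (by simp [hsu', hσ]), fun i hi hi0 h => ?_⟩
    refine hsne i (List.mem_range.2 hi) hi0.ne' (φ.injective ?_)
    rw [map_pw φ h1 hmulφ, h1, ← hsu']
    simpa using congrArg Units.val h
  have hxpow : ∀ (i : ℕ) (z : Option F), x ^ i • e z = e (affMap (φ s ^ i) 0 z) := by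
    intro i
    induction i with
    | zero => intro z; cases z <;> simp [affMap]
    | succ i ih =>
      intro z
      rw [pow_succ, mul_smul, hx, ih]
      cases z <;> simp [affMap, pow_succ, mul_assoc]
  have haff : ∀ u ∈ Subgroup.zpowers su, ∀ t : F, ∃ y : G, ∀ z, y • e z = e (affMap (u : F) t z) := by
    intro u hu t
    obtain ⟨i, rfl⟩ := (mem_powers_iff_mem_zpowers.2 hu : u ∈ Submonoid.powers su)
    obtain ⟨v, hv⟩ := htr t
    refine ⟨v * x ^ i, fun z => ?_⟩
    rw [mul_smul, hxpow, hv]
    cases z <;> simp [affMap, hsu']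
  -- the two-point stabiliser
  haveI : Finite α := Finite.of_equiv _ e
  haveI : Nontrivial α := e.nontrivial_congr.1 inferInstance
  haveI : IsPreprimitive G α := isPreprimitive_of_is_two_pretransitive inferInstance
  have hstab : Nat.card (stabilizer G (e none)) = Nat.card F * m := by
    have h := (stabilizer G (e none)).index_mul_card
    rw [index_stabilizer_of_transitive, hGcard, ← Nat.card_congr e, Finite.card_option] at h
    exact Nat.eq_of_mul_eq_mul_left (Nat.succ_pos _) h
  have hS : Nat.card (Subgroup.zpowers su) = m := by rw [Nat.card_zpowers, hord]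
  choose f hf using fun y : Subgroup.zpowers su × F => haff y.1 y.1.2 y.2
  have hstabAff : ∀ y : G, y • e none = e none →
      ∃ i < m, ∃ t : F, ∀ z, y • e z = e (affMap (φ s ^ i) t z) := by
    intro y hy
    let f' : Subgroup.zpowers su × F → stabilizer G (e none) := fun v => ⟨f v, hf v none⟩
    have hinj : Function.Injective f' := by
      rintro ⟨u, t⟩ ⟨u', t'⟩ h
      have h0' := congrArg (fun g : stabilizer G (e none) => (g : G) • e (some 0)) h
      have h1' := congrArg (fun g : stabilizer G (e none) => (g : G) • e (some 1)) h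
      simp only [f', hf, e.apply_eq_iff_eq, affMap, Option.map_some, Option.some.injEq, mul_zero,
        zero_add, mul_one] at h0' h1'
      subst h0'
      simp only [add_left_inj] at h1'
      rw [Subtype.ext (Units.ext h1')]
    obtain ⟨⟨⟨u, hu⟩, t⟩, hut⟩ := (hinj.bijective_of_nat_card_le
      (by rw [hstab, Nat.card_prod, hS, mul_comm])).surjective ⟨y, hy⟩
    obtain ⟨i, rfl⟩ := (mem_powers_iff_mem_zpowers.2 hu : u ∈ Submonoid.powers su)
    refine ⟨i % m, Nat.mod_lt _ (Nat.pos_of_ne_zero hm0), t, fun z => ?_⟩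
    rw [← show f _ = y from congrArg Subtype.val hut, hf, pow_eq_pow_mod i hσ |>.symm]
    simp [hsu']
  have hxm : x ^ m = 1 := by
    refine FaithfulSMul.eq_of_smul_eq_smul (α := α) fun p => ?_
    obtain ⟨z, rfl⟩ := e.surjective p
    rw [hxpow, hσ, one_smul]
    cases z <;> simp [affMap]
  -- an element exchanging the two points
  have h2t : ∀ {p q r s : α}, p ≠ q → r ≠ s → ∃ g : G, g • p = r ∧ g • q = s :=
    (is_two_pretransitive_iff (G := G) (α := α)).1 inferInstance
  obtain ⟨w, hw1, hw2⟩ := h2t (e.injective.ne (show (none : Option F) ≠ some 0 by simp))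
    (e.injective.ne (show (some 0 : Option F) ≠ none by simp))
  -- its first normalisation
  obtain ⟨y₁, hy₁⟩ : ∃ y, w • e (some 1) = e (some y) := by
    rcases h : e.symm (w • e (some 1)) with _ | y
    · rw [Equiv.symm_apply_eq, ← hw2, smul_left_cancel_iff, e.apply_eq_iff_eq] at h
      simp at h
    · exact ⟨y, (Equiv.symm_apply_eq e).1 h⟩
  have hy₁0 : y₁ ≠ 0 := by
    rintro rfl
    rw [← hw1, smul_left_cancel_iff, e.apply_eq_iff_eq] at hy₁
    simp at hy₁
  obtain ⟨i₀, hi₀, a, ha, hia⟩ : ∃ i < m, ∃ a ∈ [1, g], φ s ^ i * φ a = y₁ := by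
    obtain ⟨i, hi, hi'⟩ := hcov (φ.symm y₁) (fun h => hy₁0 (by rw [← φ.apply_symm_apply y₁, h, h0]))
    rw [List.mem_range] at hi
    rcases hi' with hi' | hi' <;> have hi'' := congrArg φ hi'
    · exact ⟨i, hi, 1, by simp, by rw [h1, mul_one, ← map_pw φ h1 hmulφ, hi'', φ.apply_symm_apply]⟩
    · exact ⟨i, hi, g, by simp, by rw [← map_pw φ h1 hmulφ, ← hmulφ, hi'', φ.apply_symm_apply]⟩
  set v := x ^ (m - i₀) * w with hv
  have hv1 : v • e none = e (some 0) := by
    rw [hv, mul_smul, hw1, hxpow]; simp [affMap]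
  have hv2 : v • e (some 0) = e none := by
    rw [hv, mul_smul, hw2, hxpow]; simp [affMap]
  have hv3 : v • e (some 1) = e (some (φ a)) := by
    rw [hv, mul_smul, hy₁, hxpow, ← hia]
    simp only [affMap, Option.map_some, add_zero]
    rw [← mul_assoc, ← pow_add, Nat.sub_add_cancel hi₀.le, hσ, one_mul]
  -- conjugation of `x`
  obtain ⟨k, hk, t₀, hkv⟩ := hstabAff (v * x * v⁻¹) (by
    rw [mul_smul, mul_smul, show v⁻¹ • e none = e (some 0) by rw [inv_smul_eq_iff, hv2], hx]
    simpa [affMap] using hv2)
  have ht₀ : t₀ = 0 := by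
    have := hkv (some 0)
    rw [mul_smul, mul_smul, show v⁻¹ • e (some 0) = e none by rw [inv_smul_eq_iff, hv1], hx] at this
    simp only [affMap, Option.map_none, Option.map_some, mul_zero, zero_add, hv1,
      e.apply_eq_iff_eq, Option.some.injEq] at this
    exact this.symm
  subst ht₀
  have hconj : v * x * v⁻¹ = x ^ k := FaithfulSMul.eq_of_smul_eq_smul (α := α) fun p => by
    obtain ⟨z, rfl⟩ := e.surjective p
    rw [hkv, hxpow]
  have hxord : orderOf x = m := by
    refine (orderOf_eq_iff (Nat.pos_of_ne_zero hm0)).2 ⟨hxm, fun i hi hi0 h => ?_⟩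
    have h2 := hxpow i (some 1)
    rw [h, one_smul, e.apply_eq_iff_eq] at h2
    simp only [affMap, Option.map_some, mul_one, add_zero, Option.some.injEq] at h2
    exact hsne i (List.mem_range.2 hi) hi0.ne' (φ.injective (by rw [map_pw φ h1 hmulφ, ← h2, h1]))
  have hkm : Nat.Coprime k m := by
    have h2 : orderOf (x ^ k) = m := by
      rw [← hconj]
      exact (orderOf_injective (MulAut.conj v).toMonoidHom (MulAut.conj v).injective x).trans hxord
    rw [orderOf_pow, hxord] at h2
    have h3 : Nat.gcd m k * m = m := by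
      conv_rhs => rw [← Nat.div_mul_cancel (Nat.gcd_dvd_left m k)]
      rw [h2, mul_comm]
    exact Nat.coprime_comm.1 ((mul_eq_right₀ hm0).1 h3)
  have hokk : ok k = true := by
    have h := hok v k hconj hv1 hv2
    rwa [Nat.mod_eq_of_lt hk] at h
  have hvpow : ∀ (i : ℕ) (z : Option F), v • e (affMap (φ s ^ i) 0 z) = x ^ (k * i) • v • e z := by
    intro i z
    rw [← hxpow, ← mul_smul, ← mul_smul, pow_mul, ← hconj, conj_pow, inv_mul_cancel_right]
  obtain ⟨b', hb'⟩ : ∃ y, v • e (some (φ g)) = e (some y) := by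
    rcases h : e.symm (v • e (some (φ g))) with _ | y
    · rw [Equiv.symm_apply_eq, ← hv2, smul_left_cancel_iff, e.apply_eq_iff_eq, Option.some.injEq,
        hφ0] at h
      exact absurd h hg0
    · exact ⟨y, (Equiv.symm_apply_eq e).1 h⟩
  set b := φ.symm b' with hb
  have hbne : b ≠ 0 := by
    intro h
    rw [← φ.apply_symm_apply b', ← hb, h, h0, ← hv1, smul_left_cancel_iff, e.apply_eq_iff_eq] at hb'
    simp at hb'
  -- `v` is the candidate
  have hcand : ∀ z : Option K, v • e (z.map φ) = e ((cand s g m k a b z).map φ) := by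
    rintro (_ | z)
    · simp [cand, hv1, h0]
    by_cases hz : z = 0
    · subst hz
      simp [cand, hv2, h0]
    simp only [cand, if_neg hz]
    cases hf1 : (List.range m).find? (fun i => decide (pw s i = z)) with
    | some i =>
      have hi := List.find?_some hf1
      rw [decide_eq_true_eq] at hi
      simp only [Option.map_some]
      rw [← hi, hmulφ, map_pw φ h1 hmulφ, map_pw φ h1 hmulφ, ← pow_eq_pow_mod (k * i) hσ,
        show e (some (φ s ^ i)) = e (affMap (φ s ^ i) 0 (some 1)) by simp [affMap], hvpow, hv3,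
        hxpow]
      simp [affMap]
    | none =>
      cases hf2 : (List.range m).find? (fun i => decide (pw s i * g = z)) with
      | some i =>
        have hi := List.find?_some hf2
        rw [decide_eq_true_eq] at hi
        simp only [Option.map_some]
        rw [← hi, hmulφ, hmulφ, map_pw φ h1 hmulφ, map_pw φ h1 hmulφ, ← pow_eq_pow_mod (k * i) hσ,
          show e (some (φ s ^ i * φ g)) = e (affMap (φ s ^ i) 0 (some (φ g))) by simp [affMap],
          hvpow, hb', hxpow, hb, φ.apply_symm_apply]
        simp [affMap]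
      | none =>
        obtain ⟨i, hi, hi'⟩ := hcov z hz
        rw [List.find?_eq_none] at hf1 hf2
        rcases hi' with hi' | hi'
        · exact absurd (decide_eq_true hi') (hf1 i hi)
        · exact absurd (decide_eq_true hi') (hf2 i hi)
  -- the double coset relation
  obtain ⟨u, hu⟩ := htr 1
  obtain ⟨ua, hua⟩ := htr (φ a)
  obtain ⟨j, hj, t, hjt⟩ := hstabAff (v⁻¹ * ua⁻¹ * (v * u * v)) (by
    rw [mul_smul, mul_smul, mul_smul, mul_smul, inv_smul_eq_iff, inv_smul_eq_iff, hv1, hu]
    simp [affMap, hv3, hua])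
  have hrel : ∀ z, v • u • v • e z = ua • v • e (affMap (φ s ^ j) t z) := fun z => by
    rw [← hjt, ← mul_smul, ← mul_smul, ← mul_smul, ← mul_smul]
    congr 1
    group
  have hrelK : ∀ z : Option K,
      cand s g m k a b (Option.map (· + 1) (cand s g m k a b z)) =
        Option.map (· + a) (cand s g m k a b
          (Option.map (fun z => pw s j * z + φ.symm t) z)) := by
    intro z
    apply Option.map_injective φ.injective
    apply e.injective
    rw [← hcand, show ((cand s g m k a b z).map (· + 1)).map φ =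
      affMap 1 1 ((cand s g m k a b z).map φ) by
        cases cand s g m k a b z <;> simp [affMap, hadd, h1], ← hu, ← hcand, hrel]
    have hz : affMap (φ s ^ j) t (z.map φ) =
        (z.map (fun z => pw s j * z + φ.symm t)).map φ := by
      cases z <;> simp [affMap, hadd, hmulφ, map_pw φ h1 hmulφ]
    rw [hz, hcand, hua]
    generalize cand s g m k a b _ = o
    cases o <;> simp [affMap, hadd]
  have hfix : Option.map (· + a) (cand s g m k a b (some (φ.symm t))) = some 0 := by
    have h := hrelK (some 0)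
    have hz : pw s j * 0 + φ.symm t = φ.symm t := φ.injective (by
      rw [hadd, hmulφ, h0, mul_zero, zero_add])
    simp only [Option.map_some, hz] at h
    rw [← h]
    simp [cand]
  have hinv := hcheck k (List.mem_range.2 hk) hokk hkm a ha b hbne _ hfix j
    (List.mem_range.2 hj) hrelK
  have hga : φ a ≠ 0 := by
    rw [Ne, hφ0]
    rcases List.mem_cons.1 ha with rfl | ha
    · intro h
      have := congrArg φ h
      rw [h0, h1] at this
      exact one_ne_zero this
    · rw [List.mem_singleton.1 ha]
      exact hg0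
  refine mulEquiv_PSL hG e (Subgroup.zpowers su) haff (by rw [hstab, hS]) v (φ a) hga ?_ hcard
  rintro (_ | z)
  · simpa [invMap] using hv1
  by_cases hz : z = 0
  · subst hz
    simpa [invMap] using hv2
  have hz' : φ.symm z ≠ 0 := fun h => hz (by rw [← φ.apply_symm_apply z, h, h0])
  have h := hinv _ hz'
  have hc := hcand (some (φ.symm z))
  rw [Option.map_some, φ.apply_symm_apply] at hc
  rw [hc]
  rcases hcd : cand s g m k a b (some (φ.symm z)) with _ | y
  · simp [hcd] at h
  · rw [hcd, Option.map_some, Option.some.injEq] at h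
    simp [invMap, hz, eq_div_iff hz, ← h, hmulφ]

end Derive

end Cfsg.Agent.RecognizePSL
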