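import Mathlib
import Cfsg.Agent.Lib.SmallSimple.RecognizePSL
import Cfsg.Agent.Lib.SmallSimple.SylowFive
import Cfsg.Agent.Lib.SmallSimple.PrimeSylow

/-!
Recognition of `PSL_2(p)` among simple groups with `p + 1` Sylow `p`-subgroups.
-/

set_option autoImplicit false

namespace Cfsg.Agent.RecognizePSL

open MulAction Subgroup

variable {G : Type*} [Group G] [Finite G] [IsSimpleGroup G] {F : Type*} [Field F] [Fintype F]

theorem natCard_PSL2 (hodd : Fintype.card F % 2 = 1) :
    Nat.card (Matrix.ProjectiveSpecialLinearGroup (Fin 2) F) * 2 =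
      Fintype.card F * (Fintype.card F - 1) * (Fintype.card F + 1) := by
  have h1 := LinGrp.natCard_PSL_mul (n := Fin 2) (F := F)
  have h2 := LinGrp.natCard_SL_mul (F := F) 2 (by omega)
  rw [Fintype.card_fin, Nat.card_eq_fintype_card (α := F)] at h1
  obtain ⟨q, hq⟩ : ∃ q, Fintype.card F = q + 1 :=
    ⟨_, (Nat.sub_add_cancel Fintype.card_pos).symm⟩
  have hq0 : q ≠ 0 := by
    have := Fintype.one_lt_card (α := F)
    omega
  rw [hq] at h1 h2 hodd ⊢
  rw [Fin.prod_univ_two] at h2
  simp only [Fin.val_zero, Fin.val_one, pow_zero, pow_one, Nat.add_sub_cancel] at h1 h2 ⊢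
  have hg : Nat.gcd 2 q = 2 := Nat.gcd_eq_left (Nat.dvd_of_mod_eq_zero (by omega))
  rw [hg] at h1
  have e1 : (q + 1) ^ 2 - 1 = q * (q + 2) := by
    rw [Nat.sub_eq_iff_eq_add (by nlinarith)]; ring
  have e2 : (q + 1) ^ 2 - (q + 1) = (q + 1) * q := by
    rw [Nat.sub_eq_iff_eq_add (by nlinarith)]; ring
  rw [e1, e2] at h2
  refine Nat.eq_of_mul_eq_mul_left (Nat.pos_of_ne_zero hq0) ?_
  rw [mul_comm _ 2, h1, h2]
  ring

/-- Recognition of `PSL_2(p)`. -/
theorem mulEquiv_PSL_prime (hG : ¬ IsMulCommutative G) {p : ℕ} [Fact p.Prime]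
    (hn : Nat.card (Sylow p G) = p + 1) {m : ℕ} (hm : p = 2 * m + 1)
    (hcard : Nat.card G = (p + 1) * (p * m)) (s g : ZMod p) (ok : ℕ → Bool)
    (hcover : Cover (ZMod p) s g m) (hcheck : Check (ZMod p) s g m ok)
    (hok : ∀ (P R : Sylow p G), P ≠ R → ∀ (x w : G) (k : ℕ), x • P = P → x • R = R →
      orderOf x = m → w * x * w⁻¹ = x ^ k → w • P = R → w • R = P → ok (k % m) = true)
    (hF : Fintype.card F = p) :
    Nonempty (G ≃* Matrix.ProjectiveSpecialLinearGroup (Fin 2) F) := by
  classical
  have hp : p.Prime := Fact.out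
  have hp2 := hp.two_le
  have hm0 : m ≠ 0 := by omega
  obtain ⟨P⟩ : Nonempty (Sylow p G) := inferInstance
  have hPc : Nat.card ↥(P : Subgroup G) = p := by
    rw [SmallSimple.card_sylow_of_eq (k := 1) (m := (p + 1) * m) P (by rw [hcard]; ring) ?_, pow_one]
    intro hd
    rcases hp.dvd_mul.1 hd with h | h
    · exact hp.not_dvd_one ((Nat.dvd_add_right (dvd_refl p)).1 h)
    · have := Nat.le_of_dvd (by omega) h
      omega
  obtain ⟨R, hR⟩ : ∃ R : Sylow p G, R ≠ P := by
    haveI : Nontrivial (Sylow p G) := Finite.one_lt_card_iff_nontrivial.1 (by omega)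
    exact exists_ne P
  obtain ⟨u, hu, hu1⟩ := (P : Subgroup G).bot_or_exists_ne_one.resolve_left
    (fun h => by rw [h, Subgroup.card_bot] at hPc; omega)
  have huz := SmallSimple.zpowers_eq_of_prime hPc hu hu1
  have huo : orderOf u = p := by rw [← Nat.card_zpowers, huz, hPc]
  have hupow : u ^ p = 1 := huo ▸ pow_orderOf_eq_one u
  have hfixP : ∀ y ∈ (P : Subgroup G), y • P = P := fun y hy => SylowFive.smul_eq_of_mem P hy
  have hRc : Nat.card ↥(R : Subgroup G) = p := by
    rw [R.card_eq_multiplicity, ← P.card_eq_multiplicity, hPc]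
  have hfree : ∀ y ∈ (P : Subgroup G), y • R = R → y = 1 := by
    intro y hy hyR
    by_contra h
    have hyp : y ^ p = 1 := by
      obtain ⟨i, rfl⟩ : y ∈ zpowers u := huz.symm ▸ hy
      rw [← zpow_natCast, ← zpow_mul, mul_comm, zpow_mul, zpow_natCast, hupow, one_zpow]
    have hyR' : y ∈ (R : Subgroup G) := SylowFive.sylow_le_of_mem_normalizer R
      ((SylowFive.smul_sylow_eq R).1 hyR) 1 (by rw [pow_one, hyp])
    exact hR (Sylow.ext ((SmallSimple.zpowers_eq_of_prime hRc hyR' h).symm.trans
      (SmallSimple.zpowers_eq_of_prime hPc hy h)))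
  have hU : ∀ a b : ZMod p, u ^ (a + b).val = u ^ a.val * u ^ b.val := fun a b => by
    rw [ZMod.val_add, ← pow_add, ← pow_eq_pow_mod _ hupow]
  let φ : ZMod p ≃+* F := ZMod.ringEquivOfPrime F hp hF
  let pt : Option F → Sylow p G := fun z => z.elim P (fun z => u ^ (φ.symm z).val • R)
  have hinj : Function.Injective pt := by
    have hsn : ∀ z, pt (some z) ≠ P := fun z h => hR (by
      have h' : u ^ (φ.symm z).val • R = u ^ (φ.symm z).val • P :=
        h.trans (hfixP _ (pow_mem hu _)).symm
      exact smul_left_cancel _ h')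
    rintro (_ | z) (_ | z') h
    · rfl
    · exact absurd h.symm (hsn z')
    · exact absurd h (hsn z)
    · have h' : u ^ (φ.symm z).val • R = u ^ (φ.symm z').val • R := h
      have h1 : (u ^ (φ.symm z').val)⁻¹ * u ^ (φ.symm z).val = 1 :=
        hfree _ (mul_mem (inv_mem (pow_mem hu _)) (pow_mem hu _))
          (by rw [mul_smul, h', inv_smul_smul])
      have h2 : (φ.symm z').val = (φ.symm z).val :=
        pow_injOn_Iio_orderOf (by rw [Set.mem_Iio, huo]; exact ZMod.val_lt _)
          (by rw [Set.mem_Iio, huo]; exact ZMod.val_lt _) (inv_mul_eq_one.1 h1)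
      rw [φ.symm.injective (ZMod.val_injective _ h2)]
  have hcardO : Nat.card (Option F) = Nat.card (Sylow p G) := by
    rw [Finite.card_option, Nat.card_eq_fintype_card, hF, hn]
  let e : Option F ≃ Sylow p G := Equiv.ofBijective pt
    (hinj.bijective_of_nat_card_le hcardO.ge)
  have hnone : e none = P := rfl
  have hsome : ∀ z, e (some z) = u ^ (φ.symm z).val • R := fun z => rfl
  have hzero : e (some 0) = R := by rw [hsome, map_zero, ZMod.val_zero, pow_zero, one_smul]
  have htr : ∀ t : F, ∃ x : G, ∀ z, x • e z = e (affMap 1 t z) := by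
    refine fun t => ⟨u ^ (φ.symm t).val, fun z => ?_⟩
    cases z with
    | none => exact hfixP _ (pow_mem hu _)
    | some z =>
      simp only [affMap, Option.map_some, one_mul, hsome]
      rw [← mul_smul, ← hU, map_add, add_comm]
  haveI : FaithfulSMul G (Sylow p G) := by
    refine ⟨fun {a b} hab => ?_⟩
    have hk : b⁻¹ * a ∈ (MulAction.toPermHom G (Sylow p G)).ker := Equiv.ext fun Q => by
      show (b⁻¹ * a) • Q = Q
      rw [mul_smul, hab, inv_smul_smul]
    rcases (MonoidHom.normal_ker (MulAction.toPermHom G (Sylow p G))).eq_bot_or_eq_top with h | h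
    · rw [h, Subgroup.mem_bot] at hk
      exact (inv_mul_eq_one.1 hk).symm
    · obtain ⟨y, hy⟩ := MulAction.exists_smul_eq G P R
      have hy' : y ∈ (MulAction.toPermHom G (Sylow p G)).ker := h ▸ Subgroup.mem_top y
      have := Equiv.ext_iff.1 (MonoidHom.mem_ker.1 hy') P
      exact absurd (hy.symm.trans this) hR
  haveI : IsMultiplyPretransitive G (Sylow p G) 2 := by
    have h0 : ∀ a b : Sylow p G, a ≠ b → ∃ y : G, y • P = a ∧ y • R = b := by
      intro a b hab
      obtain ⟨y, rfl⟩ := MulAction.exists_smul_eq G P a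
      obtain ⟨z, hz⟩ := e.surjective (y⁻¹ • b)
      cases z with
      | none =>
        rw [hnone, eq_inv_smul_iff] at hz
        exact absurd hz hab
      | some z =>
        refine ⟨y * u ^ (φ.symm z).val, ?_, ?_⟩
        · rw [mul_smul, hfixP _ (pow_mem hu _)]
        · rw [mul_smul, ← hsome, hz, smul_inv_smul]
    rw [is_two_pretransitive_iff]
    intro a b c d hab hcd
    obtain ⟨y, rfl, rfl⟩ := h0 a b hab
    obtain ⟨y', rfl, rfl⟩ := h0 c d hcd
    exact ⟨y' * y⁻¹, by rw [mul_smul, inv_smul_smul], by rw [mul_smul, inv_smul_smul]⟩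
  set N := normalizer ((P : Subgroup G) : Set G) with hNdef
  have hNc : Nat.card N = p * m := by
    have h := SmallSimple.card_sylow_mul P
    rw [hn, hcard, ← hNdef] at h
    exact Nat.eq_of_mul_eq_mul_left (Nat.succ_pos _) h
  -- `C(P) = P`
  have hC : centralizer ((P : Subgroup G) : Set G) = (P : Subgroup G) := by
    refine le_antisymm (fun c hc => ?_) ?_
    · have hcu : u * c = c * u := Subgroup.mem_centralizer_iff.1 hc u hu
      have hcP : c • P = P := (SylowFive.smul_sylow_eq P).2
        (SmallSimple.centralizer_le_normalizer _ hc)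
      obtain ⟨z, hz⟩ := e.surjective (c • R)
      cases z with
      | none =>
        rw [hnone, ← hcP, smul_left_cancel_iff] at hz
        exact absurd hz.symm hR
      | some z =>
        set c' := (u ^ (φ.symm z).val)⁻¹ * c
        have hc'R : c' • R = R := by rw [mul_smul, ← hz, hsome, inv_smul_smul]
        have hcomm : ∀ i : ℕ, c' * u ^ i = u ^ i * c' := fun i => by
          have h1 : Commute c u := hcu.symm
          exact ((((Commute.refl u).pow_left _).inv_left).mul_left h1).pow_right i |>.eq
        have h1 : c' = 1 := FaithfulSMul.eq_of_smul_eq_smul (α := Sylow p G) fun Q => by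
          obtain ⟨v, rfl⟩ := e.surjective Q
          cases v with
          | none => rw [one_smul, hnone, mul_smul, hcP]; exact hfixP _ (inv_mem (pow_mem hu _))
          | some v => rw [one_smul, hsome, ← mul_smul, hcomm, mul_smul, hc'R]
        rw [← inv_mul_eq_one.1 h1]
        exact pow_mem hu _
    · intro a ha
      refine Subgroup.mem_centralizer_iff.2 fun b hb => ?_
      obtain ⟨i, rfl⟩ : a ∈ zpowers u := huz.symm ▸ ha
      obtain ⟨j, rfl⟩ : b ∈ zpowers u := huz.symm ▸ hb
      exact ((Commute.refl u).zpow_zpow j i).eq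
  -- an element of the two-point stabiliser acting as multiplication by `s`
  obtain ⟨x, hx⟩ : ∃ x : G, ∀ z, x • e z = e (affMap (φ s) 0 z) := by
    obtain ⟨-, hsm, -, -⟩ := hcover
    have hsm' : s ^ m = 1 :=
      (map_pw (Equiv.refl (ZMod p)) rfl (fun _ _ => rfl) s m).symm.trans hsm
    have hs0 : s ≠ 0 := by
      rintro rfl
      rw [zero_pow hm0] at hsm'
      exact zero_ne_one hsm'
    haveI : IsCyclic ↥(P : Subgroup G) := isCyclic_of_prime_card hPc
    have hcop : (Nat.card ↥(P : Subgroup G)).Coprime s.val := by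
      rw [hPc, hp.coprime_iff_not_dvd, ← CharP.cast_eq_zero_iff (ZMod p) p, ZMod.natCast_zmod_val]
      exact hs0
    let φ₀ : MulAut ↥(P : Subgroup G) :=
      { powCoprime hcop with
        map_mul' := fun a b => Commute.mul_pow (IsMulCommutative.is_comm.comm a b) _ }
    have hφ₀ : ∀ (i : ℕ) (a : ↥(P : Subgroup G)), (φ₀ ^ i) a = a ^ (s.val ^ i) := by
      intro i
      induction i with
      | zero => intro a; simp
      | succ i ih =>
        intro a
        rw [pow_succ', MulAut.mul_apply, ih, pow_succ, pow_mul]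
        rfl
    have hφm : φ₀ ^ m = 1 := MulEquiv.ext fun a => by
      rw [hφ₀, MulAut.one_apply]
      have ha : a ^ p = 1 := by
        have h := pow_card_eq_one' (x := a)
        rwa [hPc] at h
      rw [pow_eq_pow_mod _ ha]
      have hval : s.val ^ m % p = 1 := by
        have h1 : ((s.val ^ m : ℕ) : ZMod p) = ((1 : ℕ) : ZMod p) := by
          rw [Nat.cast_pow, ZMod.natCast_zmod_val, hsm', Nat.cast_one]
        have h2 := (ZMod.natCast_eq_natCast_iff' _ _ _).1 h1
        rwa [Nat.mod_eq_of_lt hp.one_lt] at h2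
      rw [hval, pow_one]
    set f := (P : Subgroup G).normalizerMonoidHom with hf
    haveI : IsCyclic (MulAut ↥(P : Subgroup G)) := by
      haveI : Fact (Nat.card ↥(P : Subgroup G)).Prime := ⟨hPc.symm ▸ hp⟩
      exact isCyclic_of_surjective (IsCyclic.mulAutMulEquiv ↥(P : Subgroup G)).symm.toMonoidHom
        (IsCyclic.mulAutMulEquiv ↥(P : Subgroup G)).symm.surjective
    have hrange : Nat.card f.range = m := by
      have h1 : Nat.card f.range * p = Nat.card N := by
        have h2 := Subgroup.card_eq_card_quotient_mul_card_subgroup f.ker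
        rw [Nat.card_congr (QuotientGroup.quotientKerEquivRange f).toEquiv] at h2
        rw [h2]
        congr 1
        rw [hf, Subgroup.normalizerMonoidHom_ker, Nat.card_congr (subgroupOfEquivOfLe
          (SmallSimple.centralizer_le_normalizer _)).toEquiv, hC, hPc]
      rw [hNc, mul_comm p] at h1
      exact Nat.eq_of_mul_eq_mul_right hp.pos h1
    have hmem : φ₀ ∈ f.range := by
      haveI := Fintype.ofFinite (MulAut ↥(P : Subgroup G))
      haveI := Fintype.ofFinite f.range
      have hle : (f.range : Set (MulAut ↥(P : Subgroup G))).toFinset ⊆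
          Finset.univ.filter (fun a => a ^ m = 1) := by
        intro a ha
        rw [Set.mem_toFinset] at ha
        rw [Finset.mem_filter]
        refine ⟨Finset.mem_univ _, ?_⟩
        have h := congrArg Subtype.val (pow_card_eq_one' (x := (⟨a, ha⟩ : f.range)))
        rwa [hrange] at h
      have heq := Finset.eq_of_subset_of_card_le hle (by
        rw [Set.toFinset_card]
        refine (IsCyclic.card_pow_eq_one_le (Nat.pos_of_ne_zero hm0)).trans ?_
        rw [← hrange, Nat.card_eq_fintype_card]
        exact le_rfl)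
      have : φ₀ ∈ Finset.univ.filter (fun a => a ^ m = 1) := by simp [hφm]
      rw [← heq, Set.mem_toFinset] at this
      exact this
    obtain ⟨⟨y, hyN⟩, hy⟩ := hmem
    have hyu : y * u * y⁻¹ = u ^ s.val :=
      congrArg Subtype.val (DFunLike.congr_fun hy (⟨u, hu⟩ : ↥(P : Subgroup G)))
    have hyP : y • P = P := (SylowFive.smul_sylow_eq P).2 hyN
    obtain ⟨c, hc⟩ := e.surjective (y • R)
    cases c with
    | none =>
      rw [hnone, ← hyP, smul_left_cancel_iff] at hc
      exact absurd hc.symm hR
    | some c =>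
      refine ⟨(u ^ (φ.symm c).val)⁻¹ * y, fun z => ?_⟩
      cases z with
      | none =>
        rw [hnone, mul_smul, hyP]
        exact hfixP _ (inv_mem (pow_mem hu _))
      | some z =>
        simp only [affMap, Option.map_some, add_zero, hsome]
        have hxu : ∀ i : ℕ, y * u ^ i = u ^ (s.val * i) * y := fun i => by
          rw [pow_mul, ← hyu, conj_pow, inv_mul_cancel_right]
        rw [← mul_smul, mul_assoc, hxu, ← mul_assoc]
        have hcomm : (u ^ (φ.symm c).val)⁻¹ * u ^ (s.val * (φ.symm z).val) =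
            u ^ (s.val * (φ.symm z).val) * (u ^ (φ.symm c).val)⁻¹ :=
          ((Commute.refl u).pow_pow _ _).inv_left.eq
        rw [hcomm, mul_assoc, mul_smul, mul_smul, ← hc, hsome, inv_smul_smul, map_mul,
          RingEquiv.symm_apply_apply, ZMod.val_mul, ← pow_eq_pow_mod _ hupow]
  have hPSL : Nat.card G = Nat.card (Matrix.ProjectiveSpecialLinearGroup (Fin 2) F) := by
    have h := natCard_PSL2 (F := F) (by rw [hF, hm]; omega)
    rw [hF] at h
    refine Nat.eq_of_mul_eq_mul_right two_pos ?_
    rw [h, hcard, show p - 1 = 2 * m by omega]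
    ring
  refine mulEquiv_PSL_of_check hG e φ.toEquiv (map_add φ) (map_mul φ) (map_zero φ) (map_one φ)
    s g m ok hcover hcheck htr x hx (by rw [hcard, Nat.card_eq_fintype_card, hF]) ?_ hPSL
  intro w k hwk hw1 hw2
  rw [hnone, hzero] at hw1 hw2
  have hxP : x • P = P := hx none
  have hxR : x • R = R := by
    have h := hx (some 0)
    simp only [affMap, Option.map_some, mul_zero, add_zero, hzero] at h
    exact h
  refine hok P R (Ne.symm hR) x w k hxP hxR ?_ hwk hw1 hw2
  -- the order of `x`
  have hxpow : ∀ (i : ℕ) (z : F), x ^ i • e (some z) = e (some (φ s ^ i * z)) := by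
    intro i
    induction i with
    | zero => intro z; simp
    | succ i ih =>
      intro z
      rw [pow_succ', mul_smul, ih, hx]
      simp [affMap, pow_succ', mul_assoc]
  obtain ⟨-, hsm, hsne, -⟩ := hcover
  refine (orderOf_eq_iff (Nat.pos_of_ne_zero hm0)).2 ⟨?_, fun i hi hi0 h => ?_⟩
  · refine FaithfulSMul.eq_of_smul_eq_smul (α := Sylow p G) fun Q => ?_
    obtain ⟨v, rfl⟩ := e.surjective Q
    rw [one_smul]
    cases v with
    | none => exact pow_mem (show x ∈ stabilizer G (e none) from hxP) m
    | some v =>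
      have h1 : φ s ^ m = 1 := ((map_pw φ.toEquiv (map_one φ) (map_mul φ) s m).symm).trans
        (by rw [hsm]; exact map_one φ)
      rw [hxpow, h1, one_mul]
  · have h2 := hxpow i 1
    rw [h, one_smul, e.apply_eq_iff_eq, Option.some.injEq, mul_one] at h2
    refine hsne i (List.mem_range.2 hi) hi0.ne' (φ.injective ?_)
    rw [map_one, h2]
    exact map_pw φ.toEquiv (map_one φ) (map_mul φ) s i

end Cfsg.Agent.RecognizePSL
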