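import Cfsg.Agent.Lib.SmallSimple.BlockSearch
import Cfsg.Agent.Lib.Blocks.DihedralOrder
import Cfsg.Agent.Lib.Blocks.FrobNormalizerThree

/-!
# A dihedral Sylow normalizer in a simple group

If `C(P) = P` and `N(P)` is dihedral of order `2p`, the pairs of involutions with a product of
order `p` give a square condition on the degrees of the principal block.
-/

set_option autoImplicit false

namespace Cfsg.Agent.SmallSimple

open Cfsg

universe u

variable {G : Type u} [Group G] [Finite G] [IsSimpleGroup G]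

/-- The square condition. -/
theorem exists_square (hnc : ¬ IsMulCommutative G) {p : ℕ} [hp : Fact p.Prime] (hp5 : 5 ≤ p)
    (P : Sylow p G) (hP : Nat.card P = p)
    (hC : Nat.card (Subgroup.centralizer ((P : Subgroup G) : Set G)) = p)
    (hN : Nat.card (Subgroup.normalizer ((P : Subgroup G) : Set G)) = 2 * p) :
    ∃ s d r : ℤ, 2 ≤ s.natAbs ∧ s.natAbs ∣ Nat.card G ∧ s ≡ 1 [ZMOD p] ∧ 2 ≤ d.natAbs ∧
      d.natAbs ∣ Nat.card G ∧ d = 1 + s ∧ (s ^ 2 ≤ (Nat.card G : ℤ)) ∧
      r * r = (p : ℤ) * (Nat.card G : ℤ) * (s * d) ∧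
      ∀ z : G, orderOf z = 2 → ∃ A : ℤ, A.natAbs ≤ s.natAbs ∧
        (((Subgroup.centralizer ({z} : Set G)).index : ℤ) * (s - A)) ^ 2 =
          (p : ℤ) * (Nat.card G : ℤ) * (s * d) := by
  classical
  haveI := Fintype.ofFinite G
  obtain ⟨M, hM⟩ := Blocks.exists_isPModular hp.out
  haveI := hM.2.1.isPrime
  have he : (2 : ℕ) * Nat.card (Subgroup.centralizer ((P : Subgroup G) : Set G)) =
      Nat.card (Subgroup.normalizer ((P : Subgroup G) : Set G)) := by rw [hC, hN]
  have hrel : (Blocks.D1.cC P).relIndex (Blocks.D1.cN P) = 2 := by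
    have hle : Subgroup.centralizer ((P : Subgroup G) : Set G) ≤
        Subgroup.normalizer ((P : Subgroup G) : Set G) := Subgroup.centralizer_le_normalizer _
    have h := Subgroup.card_mul_index ((Subgroup.centralizer ((P : Subgroup G) : Set G)).subgroupOf
      (Subgroup.normalizer ((P : Subgroup G) : Set G)))
    rw [Nat.card_congr (Subgroup.subgroupOfEquivOfLe hle).toEquiv, ← he, mul_comm] at h
    exact Nat.eq_of_mul_eq_mul_right Nat.card_pos h
  obtain ⟨X, Y, εX, ε, hdvd, hXY, hdis, hXc, hYc, hX, hε, hY, hag, hrel'⟩ :=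
    Blocks.D1.exists_principal_structure hM P hP hrel
  set triv := CT.trivIrr G with htriv
  have hdeg1 : charDegree (triv : G → ℂ) = 1 := by simp [charDegree, htriv, CT.trivIrr_apply]
  have hreg1 : ¬ p ∣ orderOf (1 : G) := by rw [orderOf_one]; exact hp.out.not_dvd_one
  have hPC : (P : Subgroup G) = Subgroup.centralizer ((P : Subgroup G) : Set G) := by
    haveI : IsCyclic (P : Subgroup G) := isCyclic_of_prime_card hP
    exact Subgroup.eq_of_le_of_card_ge (Subgroup.le_centralizer _) (by rw [hC, hP])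
  obtain ⟨x, hxP, hx1⟩ : ∃ x ∈ (P : Subgroup G), x ≠ 1 := by
    by_contra h
    push Not at h
    have hb : (P : Subgroup G) = ⊥ := (Subgroup.eq_bot_iff_forall _).2 h
    have h1 : Nat.card (P : Subgroup G) = 1 := by rw [hb, Subgroup.card_bot]
    exact hp.out.one_lt.ne' (hP.symm.trans h1)
  -- the trivial character is not exceptional
  have htX : triv ∈ X := by
    have hm : triv ∈ X ∪ Y := hXY ▸ Blocks.trivIrr_mem_principalBlock
    refine hm.resolve_right fun hy => ?_
    have hsub : ∀ θ ∈ Y, θ = triv := fun θ hθ => eq_trivIrr_of_charDegree_one hnc (by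
      have h := hag θ hθ triv hy 1 hreg1
      rw [← hdeg1]
      unfold charDegree
      rw [h])
    have h1 : Nat.card Y ≤ 1 := by
      rw [Nat.card_coe_set_eq]
      exact (Set.ncard_le_one (Set.toFinite _)).2 fun a ha b hb => (hsub a ha).trans (hsub b hb).symm
    rw [hYc] at h1
    obtain ⟨k, hk⟩ := hdvd
    rw [hk, Nat.mul_div_cancel_left _ two_pos] at h1
    omega
  have hεt : εX triv = 1 := by
    have h := (hX triv htX).2.2 x hxP hx1 1 (one_mem _) hreg1
    rw [htriv, CT.trivIrr_apply] at h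
    exact_mod_cast h.symm
  obtain ⟨χ, hXeq, hχt⟩ : ∃ χ, X.toFinset.erase triv = {χ} ∧ χ ≠ triv := by
    obtain ⟨χ, hχ⟩ := Finset.card_eq_one.1 (show (X.toFinset.erase triv).card = 1 by
      rw [Finset.card_erase_of_mem (Set.mem_toFinset.2 htX), ← Set.ncard_eq_toFinset_card',
        ← Nat.card_coe_set_eq, hXc])
    exact ⟨χ, hχ, (Finset.mem_erase.1 (hχ ▸ Finset.mem_singleton_self χ)).1⟩
  have hχX : χ ∈ X := Set.mem_toFinset.1
    (Finset.mem_of_mem_erase (hXeq ▸ Finset.mem_singleton_self χ))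
  obtain ⟨⟨θ, hθ⟩⟩ := (Nat.card_pos_iff.1 (show 0 < Nat.card Y by
    rw [hYc]
    exact Nat.div_pos (by omega) two_pos)).1
  have hθt : θ ≠ triv := fun h => Set.disjoint_left.1 hdis htX (h ▸ hθ)
  have hrelation : ∀ g : G, ¬ p ∣ orderOf g →
      (ε : ℂ) * (θ : G → ℂ) g = 1 + (εX χ : ℂ) * (χ : G → ℂ) g := by
    intro g hg
    rw [hrel' θ hθ g hg, finsum_mem_eq_toFinset_sum, ← Finset.add_sum_erase _ _ (Set.mem_toFinset.2 htX),
      hXeq, Finset.sum_singleton, hεt, htriv, CT.trivIrr_apply]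
    norm_num
  -- the element inverting `P`
  haveI : Fact (Nat.Prime 2) := ⟨Nat.prime_two⟩
  obtain ⟨u0', hu0'⟩ := exists_prime_orderOf_dvd_card'
    (G := Subgroup.normalizer ((P : Subgroup G) : Set G)) 2 (hN ▸ dvd_mul_right 2 p)
  set u0 : G := (u0' : G) with hu0def
  have hu0 : orderOf u0 = 2 := by rw [hu0def, Subgroup.orderOf_coe, hu0']
  have hu00 : u0 * u0 = 1 := by rw [← pow_two, ← hu0, pow_orderOf_eq_one]
  have hu0i : u0⁻¹ = u0 := inv_eq_of_mul_eq_one_right hu00
  have hPc : ∀ a ∈ (P : Subgroup G), ∀ b ∈ (P : Subgroup G), a * b = b * a := fun a ha b hb => by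
    rw [hPC] at hb
    exact Subgroup.mem_centralizer_iff.1 hb a ha
  have hgen : ∀ c ∈ (P : Subgroup G), c ≠ 1 → ∀ g : G, g * c = c * g → g ∈ (P : Subgroup G) := by
    intro c hc hc1 g hg
    have hz : Subgroup.zpowers c = (P : Subgroup G) := Subgroup.eq_of_le_of_card_ge (Subgroup.zpowers_le.2 hc) (by
      rw [Nat.card_zpowers]
      have hd := Subgroup.orderOf_dvd_natCard _ hc
      rw [hP] at hd
      rw [hP, ((Nat.dvd_prime hp.out).1 hd).resolve_left (fun h => hc1 (orderOf_eq_one_iff.1 h))])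
    rw [hPC, ← hz]
    refine Subgroup.mem_centralizer_iff.2 fun y hy => ?_
    obtain ⟨i, rfl⟩ := hy
    exact ((show Commute g c from hg).zpow_right i).eq.symm
  have hu0P : u0 ∉ (P : Subgroup G) := fun h => by
    have := Subgroup.orderOf_dvd_natCard _ h
    rw [hu0, hP] at this
    have := (Nat.prime_dvd_prime_iff_eq Nat.prime_two hp.out).1 this
    omega
  have hinv : ∀ c ∈ (P : Subgroup G), u0 * c * u0 = c⁻¹ := by
    intro c hc
    have hc' : u0 * c * u0 ∈ (P : Subgroup G) := by
      have := (Subgroup.mem_normalizer_iff.1 u0'.2 c).1 hc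
      rwa [← hu0def, hu0i] at this
    by_contra hne
    refine hu0P (hgen (c * (u0 * c * u0)) (mul_mem hc hc') (fun h => hne (eq_inv_of_mul_eq_one_right h)) u0 ?_)
    calc u0 * (c * (u0 * c * u0)) = (u0 * c * u0) * c * u0 := by group
      _ = c * (u0 * c * u0) * u0 := by rw [hPc _ hc' c hc]
  -- the involutions inverting an element of order `p` of `P` are the elements of the coset
  have hcoset : ∀ c ∈ (P : Subgroup G), c ≠ 1 → ∀ u : G, u * u = 1 → u * c * u = c⁻¹ →
      u0 * u ∈ (P : Subgroup G) := by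
    intro c hc hc1 u huu hu
    refine hgen c hc hc1 _ ?_
    calc u0 * u * c = u0 * (u * c * u) * u := by
          rw [show u0 * (u * c * u) * u = u0 * u * c * (u * u) by group, huu, mul_one]
      _ = u0 * c⁻¹ * u := by rw [hu]
      _ = c * u0 * u := by
          have h := hinv c⁻¹ (inv_mem hc)
          rw [inv_inv] at h
          calc u0 * c⁻¹ * u = u0 * c⁻¹ * (u0 * u0) * u := by rw [hu00, mul_one]
            _ = (u0 * c⁻¹ * u0) * u0 * u := by group
            _ = c * u0 * u := by rw [h]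
      _ = c * (u0 * u) := mul_assoc _ _ _
  have hcos2 : ∀ c ∈ (P : Subgroup G), IsConj u0 (u0 * c) := by
    intro c hc
    have hcop : (2 : ℕ).Coprime (orderOf c) := by
      have hd := Subgroup.orderOf_dvd_natCard _ hc
      rw [hP] at hd
      refine Nat.Coprime.coprime_dvd_right hd ((Nat.coprime_primes Nat.prime_two hp.out).2 (by omega))
    obtain ⟨m, hm⟩ := exists_pow_eq_self_of_coprime hcop
    -- `c = (c ^ m) ^ 2`
    set b := c ^ m with hb
    have hbP : b ∈ (P : Subgroup G) := pow_mem hc m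
    have hb2 : b * b = c := by
      rw [← hm, ← pow_two, hb, ← pow_mul, ← pow_mul, mul_comm]
    refine isConj_iff.2 ⟨b⁻¹, ?_⟩
    have h := hinv b hbP
    calc b⁻¹ * u0 * b⁻¹⁻¹ = (u0 * b * u0) * u0 * b := by rw [h, inv_inv]
      _ = u0 * (b * b) := by rw [show u0 * b * u0 * u0 * b = u0 * b * (u0 * u0) * b by group, hu00]; group
      _ = u0 * c := by rw [hb2]
  -- the class of `u0`
  set K : Finset G := Finset.univ.filter (fun v => IsConj u0 v) with hKdef
  have hK : ∀ v, v ∈ K ↔ IsConj u0 v := fun v => by simp [hKdef]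
  have hKinv : ∀ v ∈ K, v * v = 1 := by
    intro v hv
    obtain ⟨g, rfl⟩ := isConj_iff.1 ((hK v).1 hv)
    calc g * u0 * g⁻¹ * (g * u0 * g⁻¹) = g * (u0 * u0) * g⁻¹ := by group
      _ = 1 := by rw [hu00]; group
  -- elements of order divisible by `p`
  have hsing : ∀ w : G, p ∣ orderOf w → ∃ g : G, ∃ c ∈ (P : Subgroup G), c ≠ 1 ∧ w = g * c * g⁻¹ := by
    intro w hw
    obtain ⟨k, hk⟩ := hw
    have hk0 : k ≠ 0 := fun h => (orderOf_pos w).ne' (by rw [hk, h, mul_zero])
    have hwk : orderOf (w ^ k) = p := by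
      rw [orderOf_pow' w hk0, hk, Nat.gcd_mul_left_left, Nat.mul_div_cancel _ (Nat.pos_of_ne_zero hk0)]
    have hpg : IsPGroup p (Subgroup.zpowers (w ^ k)) :=
      IsPGroup.of_card (n := 1) (by rw [Nat.card_zpowers, hwk, pow_one])
    obtain ⟨Q, hQ⟩ := hpg.exists_le_sylow
    obtain ⟨g, hg⟩ := MulAction.exists_smul_eq G P Q
    have hmem : (g⁻¹ * w * g) ^ k ∈ (P : Subgroup G) := by
      have h := hQ (Subgroup.mem_zpowers (w ^ k))
      rw [← hg] at h
      simpa [Sylow.coe_subgroup_smul, Subgroup.mem_pointwise_smul_iff_inv_smul_mem, MulAut.smul_def] using h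
    have hmem : g⁻¹ * w ^ k * g ∈ (P : Subgroup G) := by
      have e : (g⁻¹ * w * g) ^ k = g⁻¹ * w ^ k * g := by simpa using conj_pow (i := k) (a := g⁻¹) (b := w)
      exact e ▸ hmem
    have hne : g⁻¹ * w ^ k * g ≠ 1 := fun h => by
      have h1 : w ^ k = 1 := by
        calc w ^ k = g * (g⁻¹ * w ^ k * g) * g⁻¹ := by group
          _ = 1 := by rw [h]; group
      rw [h1, orderOf_one] at hwk
      exact hp.out.one_lt.ne hwk
    have hwP : g⁻¹ * w * g ∈ (P : Subgroup G) := hgen _ hmem hne _ (by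
      calc g⁻¹ * w * g * (g⁻¹ * w ^ k * g) = g⁻¹ * (w * w ^ k) * g := by group
        _ = g⁻¹ * (w ^ k * w) * g := by rw [(Commute.self_pow w k).eq]
        _ = g⁻¹ * w ^ k * g * (g⁻¹ * w * g) := by group)
    refine ⟨g, _, hwP, fun h => ?_, by group⟩
    have h1 : w = 1 := by
      calc w = g * (g⁻¹ * w * g) * g⁻¹ := by group
        _ = 1 := by rw [h]; group
    rw [h1, one_pow, orderOf_one] at hwk
    exact hp.out.one_lt.ne hwk
  have hcount : ∀ w : G, p ∣ orderOf w → (K.filter fun u => u * w ∈ K).card = p := by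
    intro w hw
    obtain ⟨g, c, hc, hc1, rfl⟩ := hsing w hw
    rw [← hP, ← Nat.card_eq_finsetCard]
    symm
    refine Nat.card_congr (Equiv.ofBijective (fun b : (P : Subgroup G) => ⟨g * (u0 * b) * g⁻¹, ?_⟩) ⟨?_, ?_⟩)
    · rw [Finset.mem_filter, hK, hK]
      refine ⟨(hcos2 b b.2).trans (isConj_iff.2 ⟨g, rfl⟩), ?_⟩
      rw [show g * (u0 * b) * g⁻¹ * (g * c * g⁻¹) = g * (u0 * (b * c)) * g⁻¹ by group]
      exact (hcos2 _ (mul_mem b.2 hc)).trans (isConj_iff.2 ⟨g, rfl⟩)
    · intro a b h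
      exact Subtype.ext (mul_left_cancel (mul_left_cancel (mul_right_cancel (congrArg Subtype.val h))))
    · rintro ⟨v, hv⟩
      rw [Finset.mem_filter] at hv
      have h1 := hKinv v hv.1
      have h2 := hKinv _ hv.2
      set u := g⁻¹ * v * g with hudef
      have huu : u * u = 1 := by
        calc u * u = g⁻¹ * (v * v) * g := by rw [hudef]; group
          _ = 1 := by rw [h1]; group
      have huc : u * c * (u * c) = 1 := by
        calc u * c * (u * c) = g⁻¹ * (v * (g * c * g⁻¹) * (v * (g * c * g⁻¹))) * g := by rw [hudef]; group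
          _ = 1 := by rw [h2]; group
      have hucu : u * c * u = c⁻¹ := eq_inv_of_mul_eq_one_left (by rw [← huc]; group)
      refine ⟨⟨u0 * u, hcoset c hc hc1 u huu hucu⟩, Subtype.ext ?_⟩
      show g * (u0 * (u0 * u)) * g⁻¹ = v
      rw [← mul_assoc u0, hu00, one_mul, hudef]
      group
  -- the class function vanishing on the `p`-regular elements
  set Φ : G → ℂ := fun g => 1 + (εX χ : ℂ) * (χ : G → ℂ) g - (ε : ℂ) * (θ : G → ℂ) g with hΦ
  have hΦreg : ∀ g : G, ¬ p ∣ orderOf g → Φ g = 0 := fun g hg => by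
    simp only [hΦ, hrelation g hg, sub_self]
  have hs0 : ∀ ψ : IrrCharacter G, ψ ≠ triv → ∑ g, (ψ : G → ℂ) g = 0 := by
    intro ψ hψ
    have h := CT.irr_inner_subtype ψ triv
    rw [if_neg hψ, classInner, mul_eq_zero] at h
    have h' := h.resolve_left (inv_ne_zero (Nat.cast_ne_zero.2 Nat.card_pos.ne'))
    simpa [htriv, CT.trivIrr_apply] using h'
  have hΦsum : ∑ g, Φ g = (Nat.card G : ℂ) := by
    simp only [hΦ, Finset.sum_sub_distrib, Finset.sum_add_distrib, ← Finset.mul_sum, hs0 χ hχt, hs0 θ hθt,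
      mul_zero, add_zero, sub_zero, Finset.sum_const, Finset.card_univ, nsmul_eq_mul, mul_one,
      Nat.card_eq_fintype_card]
  have hab : ε * (charDegree (θ : G → ℂ) : ℤ) = 1 + εX χ * (charDegree (χ : G → ℂ) : ℤ) := by
    have h := hrelation 1 hreg1
    simp only [charDegree_apply_one] at h
    exact_mod_cast h
  have hχ2 := two_le_charDegree hnc hχt
  have hθ2 := two_le_charDegree hnc hθt
  have hσsq : εX χ * εX χ = 1 := by rcases (hX χ hχX).1 with h | h <;> simp [h]
  have hεsq : ε * ε = 1 := by rcases hε with h | h <;> simp [h]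
  set a : ℤ := (charDegree (χ : G → ℂ) : ℤ) with hadef
  set b : ℤ := (charDegree (θ : G → ℂ) : ℤ) with hbdef
  have main : ∀ z : G, orderOf z = 2 → ∀ L : Finset G, (∀ v, v ∈ L ↔ IsConj z v) → ∀ m : ℕ,
      (∀ w : G, p ∣ orderOf w → (L.filter fun u => u * w ∈ L).card = m) →
      ∃ A : ℤ, (χ : G → ℂ) z = (A : ℂ) ∧
        ((L.card : ℤ) * (εX χ * a - εX χ * A)) ^ 2 = (m : ℤ) * (Nat.card G : ℤ) * (εX χ * a * (ε * b)) := by
    intro z hz L hL m hm
    have hLinv : ∀ v ∈ L, v * v = 1 := by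
      intro v hv
      obtain ⟨g, rfl⟩ := isConj_iff.1 ((hL v).1 hv)
      calc g * z * g⁻¹ * (g * z * g⁻¹) = g * z ^ 2 * g⁻¹ := by rw [pow_two]; group
        _ = 1 := by rw [← hz, pow_orderOf_eq_one]; group
    have hLHS : ∑ w ∈ L ×ˢ L, Φ (w.1 * w.2) = (m : ℂ) * (Nat.card G : ℂ) := by
      rw [Finset.sum_product]
      have hstep : ∀ u ∈ L, ∑ v ∈ L, Φ (u * v) = ∑ w, if u * w ∈ L then Φ w else 0 := by
        intro u hu
        rw [← Finset.sum_filter]
        refine Finset.sum_nbij' (fun v => u * v) (fun w => u * w) (fun v hv => ?_) (fun w hw => ?_)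
          (fun v _ => ?_) (fun w _ => ?_) (fun v _ => rfl)
        · simpa [← mul_assoc, hLinv u hu] using hv
        · simpa using hw
        · simp [← mul_assoc, hLinv u hu]
        · simp [← mul_assoc, hLinv u hu]
      rw [Finset.sum_congr rfl hstep, Finset.sum_comm, ← hΦsum, Finset.mul_sum]
      refine Finset.sum_congr rfl fun w _ => ?_
      by_cases hw : p ∣ orderOf w
      · rw [← Finset.sum_filter, Finset.sum_const, hm w hw, nsmul_eq_mul]
      · simp [hΦreg w hw]
    have hzreg : ¬ p ∣ orderOf z := by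
      rw [hz]
      intro h
      have := Nat.le_of_dvd two_pos h
      omega
    obtain ⟨A, hA⟩ := Blocks.FrobN.exists_int_value hz χ
    obtain ⟨B, hB⟩ := Blocks.FrobN.exists_int_value hz θ
    have hAB : ε * B = 1 + εX χ * A := by
      have h := hrelation z hzreg
      rw [hA, hB] at h
      exact_mod_cast h
    have hsplit : ∑ w ∈ L ×ˢ L, Φ (w.1 * w.2) =
        (L.card : ℂ) ^ 2 + (εX χ : ℂ) * ((L.card : ℂ) ^ 2 * (χ : G → ℂ) z ^ 2 / (χ : G → ℂ) 1)
          - (ε : ℂ) * ((L.card : ℂ) ^ 2 * (θ : G → ℂ) z ^ 2 / (θ : G → ℂ) 1) := by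
      simp only [hΦ, Finset.sum_sub_distrib, Finset.sum_add_distrib, ← Finset.mul_sum,
        Blocks.sum_pairs_class χ L hL, Blocks.sum_pairs_class θ L hL, Finset.sum_const, Finset.card_product,
        nsmul_eq_mul, mul_one]
      push_cast
      ring
    rw [hLHS, hA, hB, charDegree_apply_one χ, charDegree_apply_one θ, ← hadef, ← hbdef] at hsplit
    have hkey : (m : ℤ) * (Nat.card G : ℤ) * (a * b) =
        (L.card : ℤ) ^ 2 * (a * b + εX χ * A ^ 2 * b - ε * B ^ 2 * a) := by
      have ha0 : (a : ℂ) ≠ 0 := by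
        have : a ≠ 0 := by omega
        exact_mod_cast this
      have hb0 : (b : ℂ) ≠ 0 := by
        have : b ≠ 0 := by omega
        exact_mod_cast this
      apply Int.cast_injective (α := ℂ)
      push_cast
      rw [hsplit]
      field_simp
    refine ⟨A, hA, ?_⟩
    rw [show εX χ * a * (ε * b) = εX χ * ε * (a * b) by ring]
    linear_combination (-(εX χ * ε)) * hkey -
      ((L.card : ℤ) ^ 2 * (εX χ * a + (εX χ * A) ^ 2)) * hab +
      ((L.card : ℤ) ^ 2 * (εX χ * a) * (ε * B + 1 + εX χ * A)) * hAB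
  obtain ⟨A, hA, hAr⟩ := main u0 hu0 K hK p hcount
  have hall : ∀ z : G, orderOf z = 2 → IsConj u0 z := by
    intro z hz
    by_contra hne
    set L : Finset G := Finset.univ.filter (fun v => IsConj z v) with hLdef
    have hL : ∀ v, v ∈ L ↔ IsConj z v := fun v => by simp [hLdef]
    have hLinv : ∀ v ∈ L, v * v = 1 := by
      intro v hv
      obtain ⟨g, rfl⟩ := isConj_iff.1 ((hL v).1 hv)
      calc g * z * g⁻¹ * (g * z * g⁻¹) = g * z ^ 2 * g⁻¹ := by rw [pow_two]; group
        _ = 1 := by rw [← hz, pow_orderOf_eq_one]; group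
    obtain ⟨A', hA', hr'⟩ := main z hz L hL 0 fun w hw => by
      rw [Finset.card_eq_zero, Finset.filter_eq_empty_iff]
      intro v hv hvw
      obtain ⟨g, c, hc, hc1, rfl⟩ := hsing w hw
      set u := g⁻¹ * v * g with hudef
      have h1 := hLinv v hv
      have h2 := hLinv _ hvw
      have huu : u * u = 1 := by
        calc u * u = g⁻¹ * (v * v) * g := by rw [hudef]; group
          _ = 1 := by rw [h1]; group
      have huc : u * c * (u * c) = 1 := by
        calc u * c * (u * c) = g⁻¹ * (v * (g * c * g⁻¹) * (v * (g * c * g⁻¹))) * g := by rw [hudef]; group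
          _ = 1 := by rw [h2]; group
      have hucu : u * c * u = c⁻¹ := eq_inv_of_mul_eq_one_left (by rw [← huc]; group)
      have h3 := hcos2 _ (hcoset c hc hc1 u huu hucu)
      rw [← mul_assoc, hu00, one_mul] at h3
      exact hne ((h3.trans (isConj_iff.2 ⟨g, by rw [hudef]; group⟩)).trans ((hL v).1 hv).symm)
    rw [Nat.cast_zero, zero_mul, zero_mul, sq_eq_zero_iff, mul_eq_zero] at hr'
    have hL0 : L.card ≠ 0 := Finset.card_ne_zero.2 ⟨z, (hL z).2 (IsConj.refl z)⟩
    have hAa : A' = a := by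
      have h := hr'.resolve_left (by exact_mod_cast hL0)
      rw [← mul_sub, mul_eq_zero, sub_eq_zero] at h
      exact (h.resolve_left fun h0 => by rw [h0, zero_mul] at hσsq; omega).symm
    obtain ⟨n, ρ, hρ, hρc⟩ := χ.2
    have hz1 : ρ z = 1 := (CT.rep_eq_one_iff ρ z).2 (by rw [hρc, hA', charDegree_apply_one, hAa])
    rcases (MonoidHom.normal_ker ρ).eq_bot_or_eq_top with h | h
    · have : z = 1 := Subgroup.mem_bot.1 (h ▸ MonoidHom.mem_ker.2 hz1)
      rw [this, orderOf_one] at hz
      omega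
    · have hconst : ∀ g : G, (χ : G → ℂ) g = (χ : G → ℂ) 1 := fun g => by
        rw [← hρc]
        refine (CT.rep_eq_one_iff ρ g).1 (MonoidHom.mem_ker.1 ?_)
        rw [h]; exact Subgroup.mem_top g
      have h0 := hs0 χ hχt
      simp only [hconst, Finset.sum_const, Finset.card_univ, nsmul_eq_mul, mul_eq_zero, Nat.cast_eq_zero,
        Fintype.card_ne_zero, false_or] at h0
      exact CT.irr_one_ne_zero χ.2 h0
  refine ⟨εX χ * a, ε * b, (K.card : ℤ) * (εX χ * a - εX χ * A), ?_, ?_, ?_, ?_, ?_, hab, ?_, ?_, ?_⟩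
  · rcases (hX χ hχX).1 with h | h <;> simpa [h, hadef] using hχ2
  · have e : (εX χ * a).natAbs = charDegree (χ : G → ℂ) := by
      rcases (hX χ hχX).1 with h | h <;> simp [h, hadef]
    rw [e]; exact Glauberman.deg_dvd_card χ
  · refine ((hX χ hχX).2.1.mul_left _).trans ?_
    rw [hσsq]
  · rcases hε with h | h <;> simpa [h, hbdef] using hθ2
  · have e : (ε * b).natAbs = charDegree (θ : G → ℂ) := by
      rcases hε with h | h <;> simp [h, hbdef]
    rw [e]; exact Glauberman.deg_dvd_card θ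
  · have hsum : ∑ ψ : IrrCharacter G, (charDegree (ψ : G → ℂ) : ℤ) ^ 2 = (Nat.card G : ℤ) := by
      have h : ∑ ψ : IrrCharacter G, (ψ : G → ℂ) 1 ^ 2 = (Nat.card G : ℂ) := CT.sum_degree_sq
      simp only [charDegree_apply_one] at h
      exact_mod_cast h
    have h1 := Finset.single_le_sum (fun ψ _ => sq_nonneg (charDegree ((ψ : IrrCharacter G) : G → ℂ) : ℤ))
      (Finset.mem_univ χ)
    rw [hsum] at h1
    rw [mul_pow, show εX χ ^ 2 = 1 by rw [pow_two, hσsq], one_mul]
    exact h1
  · rw [← pow_two]; exact hAr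
  · intro z hz
    refine ⟨εX χ * A, ?_, ?_⟩
    · have hn := CT.norm_isCharacter_le (CT.isCharacter_of_isIrr χ.2) u0
      rw [hA, charDegree_apply_one, ← hadef, Complex.norm_intCast, Complex.intCast_re] at hn
      have hle : |A| ≤ a := by exact_mod_cast hn
      rw [Int.natAbs_mul, Int.natAbs_mul]
      refine Nat.mul_le_mul_left _ ?_
      have := abs_le.1 hle
      omega
    · have hcard : ((Subgroup.centralizer ({z} : Set G)).index : ℤ) = (K.card : ℤ) := by
        obtain ⟨g, hg⟩ := isConj_iff.1 (hall z hz)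
        have hconj : ∀ v, v ∈ K ↔ IsConj z v := fun v => by
          rw [hK]
          exact ⟨fun h => (hall z hz).symm.trans h, fun h => (hall z hz).trans h⟩
        have hset : (K : Set G) = {v | IsConj z v} := Set.ext fun v => hconj v
        have h1 : {v : G | IsConj z v}.ncard = (Subgroup.centralizer ({z} : Set G)).index := by
          rw [show {v : G | IsConj z v} = (ConjClasses.mk z).carrier from Set.ext fun v => by
              rw [ConjClasses.mem_carrier_iff_mk_eq, ConjClasses.mk_eq_mk_iff_isConj, Set.mem_setOf_eq]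
              exact isConj_comm,
            ← ConjAct.orbit_eq_carrier_conjClasses, ← MulAction.index_stabilizer,
            ConjAct.stabilizer_eq_centralizer]
          rfl
        rw [← h1, ← hset, Set.ncard_coe_finset]
      rw [hcard]
      exact hAr

end Cfsg.Agent.SmallSimple
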