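import Cfsg.Agent.Lib.SmallSimple.BlockSearch

/-!
# Characters of small degree in the principal block

In a non-abelian simple group a non-trivial character of the principal block of degree below `2p`
forces the centralizer of a Sylow subgroup of order `p` to be the Sylow subgroup itself.
-/

set_option autoImplicit false

namespace Cfsg.Agent.SmallSimple

open Cfsg
open Module

universe u v

theorem det_rep_eq_one {G : Type u} [Group G] [IsSimpleGroup G] (hnc : ¬ IsMulCommutative G)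
    {V : Type v} [AddCommGroup V] [Module ℂ V] (ρ : Representation ℂ G V) (g : G) :
    LinearMap.det (ρ g) = 1 := by
  set d : G →* ℂ := LinearMap.det.comp ρ with hd
  rcases (inferInstance : d.ker.Normal).eq_bot_or_eq_top with h | h
  · exact absurd ⟨⟨fun a b => (MonoidHom.ker_eq_bot_iff d).1 h (by rw [map_mul, map_mul, mul_comm])⟩⟩ hnc
  · have hm : g ∈ d.ker := by rw [h]; exact Subgroup.mem_top g
    exact MonoidHom.mem_ker.1 hm

/-- The counting argument on eigenvalues. -/
theorem pow_eq_one_of_small {ι : Type} [Fintype ι] [DecidableEq ι] {p n : ℕ} [hp : Fact p.Prime]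
    (hn : 0 < n) (hpn : p.Coprime n) (ω : ι → ℂ) (hω : ∀ i, ω i ^ (p * n) = 1) (f : ℕ → ℂ)
    (hf : ∀ j, ¬ p ∣ j → f (j % p) = ∑ i, ω i ^ j) (hprod : ∏ i, ω i = 1)
    (hsmall : Fintype.card ι < 2 * p) : ∀ i, ω i ^ p = 1 := by
  classical
  by_contra hcon
  push Not at hcon
  obtain ⟨i₀, hi₀⟩ := hcon
  set m := p * n with hm
  have hp0 := hp.out.pos
  have hm0 : 0 < m := Nat.mul_pos hp0 hn
  set cnt : ℂ → ℕ := fun ν => (Finset.univ.filter fun i => ω i = ν).card with hcnt
  have hgeom : ∀ z : ℂ, z ^ m = 1 → z ≠ 1 → ∑ j ∈ Finset.range m, z ^ j = 0 := fun z hz hz1 => by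
    rw [geom_sum_eq hz1, hz, sub_self, zero_div]
  have hS : ∀ ν : ℂ, ν ^ m = 1 →
      ∑ j ∈ Finset.range m, (∑ i, ω i ^ j) * ν⁻¹ ^ j = (m : ℂ) * cnt ν := by
    intro ν hν
    have hν0 : ν ≠ 0 := fun h => by simp [h, zero_pow hm0.ne'] at hν
    simp only [Finset.sum_mul, ← mul_pow]
    rw [Finset.sum_comm, ← Finset.sum_filter_add_sum_filter_not Finset.univ (fun i => ω i = ν)]
    have h1 : ∀ i ∈ Finset.univ.filter (fun i => ω i = ν), ∑ j ∈ Finset.range m, (ω i * ν⁻¹) ^ j = (m : ℂ) := by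
      intro i hi
      rw [(Finset.mem_filter.1 hi).2, mul_inv_cancel₀ hν0]
      simp
    have h2 : ∀ i ∈ Finset.univ.filter (fun i => ¬ ω i = ν), ∑ j ∈ Finset.range m, (ω i * ν⁻¹) ^ j = (0 : ℂ) := by
      intro i hi
      refine hgeom _ (by rw [mul_pow, inv_pow, hω, hν, inv_one, mul_one]) fun h => ?_
      exact (Finset.mem_filter.1 hi).2 ((mul_inv_eq_one₀ hν0).1 h)
    rw [Finset.sum_congr rfl h1, Finset.sum_congr rfl h2, Finset.sum_const, Finset.sum_const_zero,
      add_zero, nsmul_eq_mul, hcnt, mul_comm]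
  -- the singular part of the sum vanishes off the `p`-th roots of unity
  have hsing : ∀ ν : ℂ, ν ^ m = 1 → ν ^ p ≠ 1 →
      ∑ j ∈ Finset.range m, (if p ∣ j then 0 else (∑ i, ω i ^ j) * ν⁻¹ ^ j) = 0 := by
    intro ν hν hνp
    rw [← Finset.sum_fiberwise_of_maps_to (g := fun j => j % p) (t := Finset.range p)
      (fun j _ => Finset.mem_range.2 (Nat.mod_lt _ hp0))]
    refine Finset.sum_eq_zero fun r hr => ?_
    rw [Finset.mem_range] at hr
    have hset : (Finset.range m).filter (fun j => j % p = r) =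
        (Finset.range n).image (fun l => p * l + r) := by
      ext j
      simp only [Finset.mem_filter, Finset.mem_range, Finset.mem_image]
      constructor
      · rintro ⟨hj, rfl⟩
        exact ⟨j / p, Nat.div_lt_of_lt_mul hj, Nat.div_add_mod j p⟩
      · rintro ⟨l, hl, rfl⟩
        refine ⟨?_, by rw [Nat.mul_add_mod, Nat.mod_eq_of_lt hr]⟩
        have : p * (l + 1) ≤ p * n := Nat.mul_le_mul_left p hl
        rw [Nat.mul_succ] at this
        omega
    rw [hset, Finset.sum_image (fun a _ b _ h => Nat.eq_of_mul_eq_mul_left hp0 (Nat.add_right_cancel h))]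
    have hdvd : ∀ l, p ∣ p * l + r ↔ r = 0 := fun l => by
      rw [Nat.dvd_add_right (dvd_mul_right p l)]
      exact ⟨fun h => Nat.eq_zero_of_dvd_of_lt h hr, fun h => h ▸ dvd_zero p⟩
    by_cases hr0 : r = 0
    · exact Finset.sum_eq_zero fun l _ => if_pos ((hdvd l).2 hr0)
    have hterm : ∀ l ∈ Finset.range n,
        (if p ∣ p * l + r then 0 else (∑ i, ω i ^ (p * l + r)) * ν⁻¹ ^ (p * l + r)) =
          (f r * ν⁻¹ ^ r) * (ν⁻¹ ^ p) ^ l := by
      intro l _
      have hnd : ¬ p ∣ p * l + r := fun h => hr0 ((hdvd l).1 h)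
      rw [if_neg hnd, ← hf _ hnd, Nat.mul_add_mod, Nat.mod_eq_of_lt hr, pow_add, pow_mul]
      ring
    rw [Finset.sum_congr rfl hterm, ← Finset.mul_sum,
      geom_sum_eq (by rwa [inv_pow, ne_eq, inv_eq_one]), ← pow_mul, ← hm, inv_pow ν m, hν, inv_one,
      sub_self, zero_div, mul_zero]
  have hshift : ∀ ν : ℂ, ν ^ m = 1 → ν ^ p = ω i₀ ^ p → cnt ν = cnt (ω i₀) := by
    intro ν hν hνp
    have key : ∀ μ : ℂ, μ ^ m = 1 → μ ^ p = ω i₀ ^ p → (m : ℂ) * cnt μ =
        ∑ j ∈ Finset.range m, (if p ∣ j then (∑ i, ω i ^ j) * (ω i₀)⁻¹ ^ j else 0) := by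
      intro μ hμ hμp
      rw [← hS μ hμ, ← sub_eq_zero, ← Finset.sum_sub_distrib]
      refine Eq.trans ?_ (hsing μ hμ (hμp ▸ hi₀))
      refine Finset.sum_congr rfl fun j _ => ?_
      by_cases hj : p ∣ j
      · obtain ⟨k, rfl⟩ := hj
        rw [if_pos (dvd_mul_right p k), if_pos (dvd_mul_right p k), pow_mul μ⁻¹, pow_mul (ω i₀)⁻¹,
          inv_pow μ, inv_pow (ω i₀), hμp, sub_self]
      · rw [if_neg hj, if_neg hj, sub_zero]
    have h := (key ν hν hνp).trans (key (ω i₀) (hω i₀) rfl).symm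
    exact_mod_cast mul_left_cancel₀ (Nat.cast_ne_zero.mpr hm0.ne') h
  obtain ⟨ζ, hζ⟩ : ∃ ζ : ℂ, IsPrimitiveRoot ζ p := ⟨_, Complex.isPrimitiveRoot_exp p hp0.ne'⟩
  have hω0 : ∀ i, ω i ≠ 0 := fun i h => by
    have := hω i
    simp [h, zero_pow hm0.ne'] at this
  set F := Finset.univ.filter (fun i => ω i ^ p = ω i₀ ^ p) with hF
  set T := (Finset.range p).image (fun j => ω i₀ * ζ ^ j) with hT
  have hTcard : T.card = p := by
    rw [hT, Finset.card_image_of_injOn, Finset.card_range]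
    intro a ha b hb h
    exact hζ.pow_inj (Finset.mem_range.1 ha) (Finset.mem_range.1 hb) (mul_left_cancel₀ (hω0 i₀) h)
  have hmaps : ∀ i ∈ F, ω i ∈ T := by
    intro i hi
    obtain ⟨j, hj, hje⟩ := hζ.eq_pow_of_pow_eq_one (ξ := ω i / ω i₀) (by
      rw [div_pow, (Finset.mem_filter.1 hi).2, div_self (pow_ne_zero _ (hω0 i₀))])
    exact Finset.mem_image.2 ⟨j, Finset.mem_range.2 hj, by rw [hje, mul_div_cancel₀ _ (hω0 i₀)]⟩
  have hfib : ∀ ν ∈ T, (F.filter fun i => ω i = ν).card = cnt (ω i₀) := by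
    intro ν hν
    obtain ⟨j, -, rfl⟩ := Finset.mem_image.1 hν
    have hp' : (ω i₀ * ζ ^ j) ^ p = ω i₀ ^ p := by
      rw [mul_pow, ← pow_mul, mul_comm j p, pow_mul, hζ.pow_eq_one, one_pow, mul_one]
    rw [← hshift _ (by rw [hm, pow_mul, hp', ← pow_mul, ← hm, hω i₀]) hp', hcnt]
    congr 1
    ext i
    simp only [hF, Finset.mem_filter, Finset.mem_univ, true_and, and_iff_right_iff_imp]
    rintro h
    rw [h, hp']
  have hFcard : F.card = p * cnt (ω i₀) := by
    rw [Finset.card_eq_sum_card_fiberwise hmaps, Finset.sum_congr rfl hfib, Finset.sum_const, hTcard,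
      smul_eq_mul]
  have hc : cnt (ω i₀) = 1 := by
    have h1 : 0 < cnt (ω i₀) := Finset.card_pos.2 ⟨i₀, by simp⟩
    have h2 : F.card ≤ Fintype.card ι := Finset.card_le_univ _
    rw [hFcard] at h2
    by_contra h
    have : p * 2 ≤ p * cnt (ω i₀) := Nat.mul_le_mul_left p (by omega)
    omega
  rw [hc, mul_one] at hFcard
  -- every other eigenvalue is a `p`-th root of unity
  have hrest : ∀ i, i ∉ F → ω i ^ p = 1 := by
    intro i hi
    by_contra h
    set F' := Finset.univ.filter (fun j => ω j ^ p = ω i ^ p) with hF'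
    have hdisj : Disjoint F F' := Finset.disjoint_left.2 fun j hj hj' => hi (Finset.mem_filter.2
      ⟨Finset.mem_univ _, (Finset.mem_filter.1 hj').2.symm.trans (Finset.mem_filter.1 hj).2⟩)
    have hshift' : p ≤ F'.card := by
      have hsub : ∀ j < p, ∃ k, ω k = ω i * ζ ^ j := by
        intro j _
        have hp' : (ω i * ζ ^ j) ^ p = ω i ^ p := by
          rw [mul_pow, ← pow_mul, mul_comm j p, pow_mul, hζ.pow_eq_one, one_pow, mul_one]
        have hm' : (ω i * ζ ^ j) ^ m = 1 := by rw [hm, pow_mul, hp', ← pow_mul, ← hm, hω i]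
        by_contra hk
        push Not at hk
        have key : ∀ μ : ℂ, μ ^ m = 1 → μ ^ p = ω i ^ p → (m : ℂ) * cnt μ =
            ∑ j ∈ Finset.range m, (if p ∣ j then (∑ a, ω a ^ j) * (ω i)⁻¹ ^ j else 0) := by
          intro μ hμ hμp
          rw [← hS μ hμ, ← sub_eq_zero, ← Finset.sum_sub_distrib]
          refine Eq.trans ?_ (hsing μ hμ (hμp ▸ h))
          refine Finset.sum_congr rfl fun j _ => ?_
          by_cases hj : p ∣ j
          · obtain ⟨k, rfl⟩ := hj
            rw [if_pos (dvd_mul_right p k), if_pos (dvd_mul_right p k), pow_mul μ⁻¹, pow_mul (ω i)⁻¹,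
              inv_pow μ, inv_pow (ω i), hμp, sub_self]
          · rw [if_neg hj, if_neg hj, sub_zero]
        have h2 := (key _ hm' hp').trans (key (ω i) (hω i) rfl).symm
        have h3 : cnt (ω i * ζ ^ j) = cnt (ω i) := by
          exact_mod_cast mul_left_cancel₀ (Nat.cast_ne_zero.mpr hm0.ne') h2
        have h4 : cnt (ω i * ζ ^ j) = 0 := Finset.card_eq_zero.2 (Finset.filter_eq_empty_iff.2 fun k _ => hk k)
        have h5 : 0 < cnt (ω i) := Finset.card_pos.2 ⟨i, by simp⟩
        omega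
      haveI : Nonempty ι := ⟨i⟩
      choose! k hk using hsub
      rw [← Finset.card_range p]
      refine Finset.card_le_card_of_injOn k (fun j hj => ?_) fun a ha b hb e => ?_
      · simp only [hF', Finset.coe_filter, Finset.mem_univ, true_and, Set.mem_setOf_eq]
        rw [hk j (Finset.mem_range.1 hj), mul_pow, ← pow_mul, mul_comm j p, pow_mul, hζ.pow_eq_one,
          one_pow, mul_one]
      · have ha' := Finset.mem_range.1 (Finset.mem_coe.1 ha)
        have hb' := Finset.mem_range.1 (Finset.mem_coe.1 hb)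
        exact hζ.pow_inj ha' hb' (mul_left_cancel₀ (hω0 i) ((hk a ha').symm.trans ((congrArg ω e).trans (hk b hb'))))
    have := Finset.card_union_of_disjoint hdisj
    have hle := Finset.card_le_univ (F ∪ F')
    omega
  have h1 : (ω i₀ ^ p) ^ p = 1 := by
    have hp' : ∏ i, ω i ^ p = 1 := by rw [Finset.prod_pow, hprod, one_pow]
    rw [← Finset.prod_filter_mul_prod_filter_not Finset.univ (fun i => ω i ^ p = ω i₀ ^ p),
      Finset.prod_congr rfl (fun i hi => (Finset.mem_filter.1 hi).2), Finset.prod_const,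
      Finset.prod_eq_one (fun i hi => hrest i (by
        rw [Finset.mem_filter] at hi
        exact fun h => hi.2 (Finset.mem_filter.1 h).2)),
      mul_one] at hp'
    rwa [← hF, hFcard] at hp'
  have h2 : (ω i₀ ^ p) ^ n = 1 := by rw [← pow_mul, ← hm, hω i₀]
  exact hi₀ (by simpa [hpn.gcd_eq_one] using (pow_gcd_eq_one (m := p) (n := n)).2 ⟨h1, h2⟩)

variable {G : Type u} [Group G] [Finite G] [IsSimpleGroup G]

/-- A non-trivial character of degree below `2p` constant on the cosets in question. -/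
theorem eq_one_of_small_degree (hnc : ¬ IsMulCommutative G) {p : ℕ} [hp : Fact p.Prime]
    (χ : IrrCharacter G) (hχ : χ ≠ CT.trivIrr G) (hsmall : charDegree (χ : G → ℂ) < 2 * p)
    {x y : G} (hx : orderOf x = p) (hy : ¬ p ∣ orderOf y) (hxy : Commute x y)
    (hval : ∀ i k : ℕ, ¬ p ∣ i → (χ : G → ℂ) (x ^ i * y ^ k) = (χ : G → ℂ) (x ^ i)) : y = 1 := by
  classical
  obtain ⟨r, ρ, hρ, hρc⟩ := χ.2
  set n := orderOf y with hndef
  have hn : 0 < n := orderOf_pos y
  have hpn : p.Coprime n := hp.out.coprime_iff_not_dvd.2 hy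
  have hg : orderOf (x * y) = p * n := by
    rw [hxy.orderOf_mul_eq_mul_orderOf_of_coprime (by rw [hx]; exact hpn), hx]
  obtain ⟨b, ω, hb, hω⟩ := CT.exists_eigenbasis (ρ (x * y)) (m := p * n) (Nat.mul_pos hp.out.pos hn)
    (by rw [← map_pow, ← hg, pow_orderOf_eq_one, map_one])
  have hpow : ∀ j : ℕ, ∀ i, ρ ((x * y) ^ j) (b i) = ω i ^ j • b i := by
    intro j i
    induction j with
    | zero => simp
    | succ j ih => rw [pow_succ', map_mul, Module.End.mul_apply, ih, map_smul, hb, smul_smul, pow_succ]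
  have hchar : ∀ j : ℕ, (χ : G → ℂ) ((x * y) ^ j) = ∑ i, ω i ^ j := fun j => by
    rw [← hρc]; exact CT.trace_eq_sum_of_eigenbasis _ b _ (hpow j)
  have hprod : ∏ i, ω i = 1 := by
    rw [← det_rep_eq_one hnc ρ (x * y), ← LinearMap.det_toMatrix b]
    have hdiag : LinearMap.toMatrix b b (ρ (x * y)) = Matrix.diagonal ω := by
      ext i j
      rw [LinearMap.toMatrix_apply, hb, map_smul, b.repr_self, Finsupp.smul_single, smul_eq_mul,
        mul_one, Matrix.diagonal_apply, Finsupp.single_apply]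
      by_cases h : i = j
      · subst h; simp
      · simp [h, Ne.symm h]
    rw [hdiag, Matrix.det_diagonal]
  have hcard : Fintype.card (Fin (finrank ℂ (Fin r → ℂ))) < 2 * p := by
    rw [Fintype.card_fin]
    refine lt_of_eq_of_lt ?_ hsmall
    rw [← hρc]
    exact (CT.deg_eq_finrank ρ).symm
  have hall := pow_eq_one_of_small hn hpn ω hω (fun j => (χ : G → ℂ) (x ^ j)) (fun j hj => by
      rw [← hchar, hxy.mul_pow, hval j j hj, ← hx, pow_mod_orderOf]) hprod hcard
  have hker : ρ ((x * y) ^ p) = 1 := b.ext fun i => by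
    rw [hpow, hall, one_smul, Module.End.one_apply]
  rcases (MonoidHom.normal_ker ρ).eq_bot_or_eq_top with h | h
  · have h1 : (x * y) ^ p = 1 := Subgroup.mem_bot.1 (h ▸ MonoidHom.mem_ker.2 hker)
    have hd : p * n ∣ p := hg ▸ orderOf_dvd_of_pow_eq_one h1
    have hn1 : n = 1 := by
      have := Nat.le_of_dvd hp.out.pos hd
      have : p * n ≤ p * 1 := by omega
      have := Nat.le_of_mul_le_mul_left this hp.out.pos
      omega
    exact orderOf_eq_one_iff.1 hn1
  · exfalso
    have hρ1 : ∀ g, ρ g = 1 := fun g => MonoidHom.mem_ker.1 (h.symm ▸ Subgroup.mem_top g : g ∈ ρ.ker)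
    have hd1 : charDegree (χ : G → ℂ) = 1 := by
      by_contra hne
      have h2 := two_le_charDegree hnc hχ
      have hconst : ∀ g : G, (χ : G → ℂ) g = (charDegree (χ : G → ℂ) : ℂ) := fun g => by
        rw [show (χ : G → ℂ) g = ρ.character g from (congrFun hρc g).symm]
        have e : charDegree (χ : G → ℂ) = finrank ℂ (Fin r → ℂ) := by
          rw [← hρc]; exact CT.deg_eq_finrank ρ
        rw [e, Representation.character, hρ1, LinearMap.trace_one]
      haveI := Fintype.ofFinite G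
      have hinner := CT.irr_inner_of_ne χ.2 (CT.trivIrr G).2 (fun e => hχ (Subtype.ext e))
      rw [classInner] at hinner
      simp only [hconst, CT.trivIrr_apply, map_one, mul_one, Finset.sum_const, nsmul_eq_mul] at hinner
      rcases mul_eq_zero.1 hinner with h | h
      · simp [Nat.card_eq_fintype_card] at h
      · simp only [Finset.card_univ, mul_eq_zero, Nat.cast_eq_zero, Fintype.card_ne_zero, false_or] at h
        omega
    exact hχ (eq_trivIrr_of_charDegree_one hnc hd1)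

/-- Values of the principal block on `p`-singular elements of the centralizer. -/
theorem principal_value_const [Fintype G] {p : ℕ} [hp : Fact p.Prime] {M : Ideal AlgInt} [M.IsPrime]
    (hM : IsPModular p M) (P : Sylow p G) (hP : Nat.card P = p) {χ : IrrCharacter G}
    (hχ : χ ∈ principalBlock M G) {x y : G} (hx : x ∈ (P : Subgroup G)) (hx1 : x ≠ 1)
    (hy : y ∈ Blocks.D1.cC P) (hyr : ¬ p ∣ orderOf y) :
    (χ : G → ℂ) (x * y) = (χ : G → ℂ) x := by
  classical
  obtain ⟨S⟩ := Blocks.D1.exists_setup P hP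
  have hBP : IsDefectGroup p M (principalBlock M G) (P : Subgroup G) :=
    (Cfsg.Agent.S4652.result p M hM _).mpr ⟨P, rfl⟩
  have hdef : InducedBlockDefined M (Blocks.D1.cC P) (principalBlock M (Blocks.D1.cC P)) :=
    Blocks.exists_inducedBlock hM P.2 S.P_le_cC le_rfl (Subgroup.centralizer_le_normalizer _)
      Blocks.isPBlock_principalBlock
  have hind := (Blocks.third_main hM hdef).mpr rfl
  have key := fun (c : Blocks.D1.cC P) (hc : S.ell c ≠ 0) => Blocks.D1.apply_singular S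
    (CT.trivIrr (Blocks.D1.cC P)) (fun c _ => rfl) hM hBP hind Blocks.trivIrr_mem_principalBlock hχ (c := c) hc
  have hxC : x ∈ Blocks.D1.cC P := S.P_le_cC hx
  have hy0 : S.ell ⟨y, hy⟩ = 0 := (S.ell_eq_zero_iff _).mpr hyr
  have hx0 : S.ell ⟨x, hxC⟩ ≠ 0 := fun h => by
    have := (S.ell_eq_zero_iff _).1 h
    refine this ?_
    show p ∣ orderOf x
    have hd : orderOf x ∣ p := hP ▸ Subgroup.orderOf_dvd_natCard _ hx
    rcases (Nat.dvd_prime hp.out).1 hd with e | e
    · exact absurd (orderOf_eq_one_iff.1 e) hx1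
    · rw [e]
  have h1 := key (⟨x, hxC⟩ * ⟨y, hy⟩) (by rw [S.ell_mul, hy0, add_zero]; exact hx0)
  have h2 := key ⟨x, hxC⟩ hx0
  simp only [CT.trivIrr_apply, S.ell_mul, hy0, add_zero] at h1 h2
  exact mul_left_cancel₀ (Nat.cast_ne_zero.mpr Nat.card_pos.ne') (h1.trans h2.symm)

/-- A small degree in the principal block forces a self-centralizing Sylow subgroup. -/
theorem card_centralizer_of_small (hnc : ¬ IsMulCommutative G) {p : ℕ} [hp : Fact p.Prime]
    (P : Sylow p G) (hP : Nat.card P = p) {M : Ideal AlgInt} [M.IsPrime] (hM : IsPModular p M)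
    {χ : IrrCharacter G} (hχB : χ ∈ principalBlock M G) (hχ : χ ≠ CT.trivIrr G)
    (hsmall : charDegree (χ : G → ℂ) < 2 * p) :
    Nat.card (Subgroup.centralizer ((P : Subgroup G) : Set G)) = p := by
  classical
  haveI := Fintype.ofFinite G
  haveI : IsCyclic (P : Subgroup G) := isCyclic_of_prime_card hP
  set C := Subgroup.centralizer ((P : Subgroup G) : Set G) with hC
  have hPC : (P : Subgroup G) ≤ C := Subgroup.le_centralizer _
  obtain ⟨x₀, hx₀⟩ := exists_prime_orderOf_dvd_card' (G := (P : Subgroup G)) p (by rw [hP])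
  set x : G := (x₀ : G) with hxdef
  have hxo : orderOf x = p := by rw [hxdef, Subgroup.orderOf_coe, hx₀]
  have h := Subgroup.card_mul_index ((P : Subgroup G).subgroupOf C)
  rw [Nat.card_congr (Subgroup.subgroupOfEquivOfLe hPC).toEquiv, hP] at h
  have hidx : ¬ p ∣ ((P : Subgroup G).subgroupOf C).index := fun hd => P.not_dvd_index
    (hd.trans (Subgroup.relIndex_dvd_index_of_le hPC))
  by_contra hne
  obtain ⟨q, hq, hqd⟩ := Nat.exists_prime_and_dvd (n := ((P : Subgroup G).subgroupOf C).index) (fun h1 => by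
    rw [h1, mul_one] at h; exact hne h.symm)
  haveI : Fact q.Prime := ⟨hq⟩
  obtain ⟨y₀, hy₀⟩ := exists_prime_orderOf_dvd_card' (G := C) q (hqd.trans (Subgroup.index_dvd_card _))
  set y : G := (y₀ : G) with hydef
  have hyo : orderOf y = q := by rw [hydef, Subgroup.orderOf_coe, hy₀]
  have hqp : ¬ p ∣ q := fun hd => hidx (((Nat.prime_dvd_prime_iff_eq hp.out hq).1 hd) ▸ hqd)
  have hxy : Commute x y := Subgroup.mem_centralizer_iff.1 y₀.2 x x₀.2
  have hy1 := eq_one_of_small_degree hnc χ hχ hsmall hxo (by rw [hyo]; exact hqp) hxy fun i k hi => by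
    refine principal_value_const hM P hP hχB (pow_mem x₀.2 i) (fun h1 => hi (hxo ▸ orderOf_dvd_of_pow_eq_one h1))
      (pow_mem y₀.2 k) fun hd => hqp ?_
    exact hd.trans ((orderOf_pow_dvd k).trans hyo.dvd)
  rw [hy1, orderOf_one] at hyo
  exact hq.one_lt.ne hyo

/-- The search restricted to a list of candidates, with a lower bound on the last degree. -/
def searchL (l : List ℤ) (L N p e : ℕ) : ℕ → ℤ → ℤ → Bool
  | 0, sum, sq => decide (L ≤ sum.natAbs ∧ sum.natAbs ∣ N ∧ (sum - e) % (p : ℤ) = 0 ∧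
      sq + (((p - 1) / e : ℕ) : ℤ) * sum ^ 2 ≤ (N : ℤ))
  | k + 1, sum, sq => l.any fun s => decide (sq + s * s ≤ (N : ℤ)) && searchL l L N p e k (sum + s) (sq + s * s)

theorem searchL_of_sol {l : List ℤ} {L N p e : ℕ} : ∀ (k : ℕ) (s : Fin k → ℤ) (sum sq : ℤ),
    (∀ i, s i ∈ l) → L ≤ (sum + ∑ i, s i).natAbs → (sum + ∑ i, s i).natAbs ∣ N →
    (sum + ∑ i, s i - e) % (p : ℤ) = 0 →
    sq + ∑ i, s i * s i + (((p - 1) / e : ℕ) : ℤ) * (sum + ∑ i, s i) ^ 2 ≤ (N : ℤ) →
    searchL l L N p e k sum sq = true := by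
  intro k
  induction k with
  | zero =>
    intro s sum sq _ h1 h2 h3 h4
    simp only [Fin.sum_univ_zero, add_zero] at h1 h2 h3 h4
    rw [searchL]
    exact decide_eq_true ⟨h1, h2, h3, h4⟩
  | succ k ih =>
    intro s sum sq hs h1 h2 h3 h4
    rw [Fin.sum_univ_succ, ← add_assoc] at h1 h2 h3
    rw [Fin.sum_univ_succ, Fin.sum_univ_succ, ← add_assoc, ← add_assoc] at h4
    rw [searchL, List.any_eq_true]
    refine ⟨s 0, hs 0, ?_⟩
    rw [Bool.and_eq_true]
    refine ⟨decide_eq_true ?_, ih (fun i => s i.succ) _ _ (fun i => hs _) h1 h2 h3 h4⟩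
    have hn : 0 ≤ ∑ i : Fin k, s i.succ * s i.succ := Finset.sum_nonneg fun i _ => mul_self_nonneg _
    have ht : (0 : ℤ) ≤ (((p - 1) / e : ℕ) : ℤ) * (sum + s 0 + ∑ i : Fin k, s i.succ) ^ 2 := by positivity
    linarith

/-- The candidates of absolute value at least `2p`. -/
def bigCands (N p B : ℕ) : List ℤ := (cands N p B).filter fun s => decide (2 * p ≤ s.natAbs)

/-- If the centralizer is larger than the Sylow subgroup, all degrees are at least `2p`. -/
theorem search_big (hnc : ¬ IsMulCommutative G) {p : ℕ} [hp : Fact p.Prime] {N B e c : ℕ}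
    (hN : Nat.card G = N) (hB : N < (B + 1) * (B + 1)) (P : Sylow p G) (hP : Nat.card P = p)
    (he1 : e ≠ 1)
    (hNc : Nat.card (Subgroup.normalizer ((P : Subgroup G) : Set G)) = e * (p * c))
    (hCc : Nat.card (Subgroup.centralizer ((P : Subgroup G) : Set G)) = p * c) (hc : c ≠ 1) :
    searchL (bigCands N p B) (2 * p) N p e (e - 1) 1 1 = true := by
  have hne : Nat.card (Subgroup.centralizer ((P : Subgroup G) : Set G)) ≠ p := fun h => by
    rw [hCc] at h
    exact hc ((mul_right_eq_self₀.1 h).resolve_right hp.out.ne_zero)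
  obtain ⟨s, d, hs, hd2, hdN, hde, hsum, hsq, hLs, hLd, hdeg⟩ := signed_degrees_aux hnc P hP he1
    (by rw [hCc, hNc]) (2 * p) fun M _ hM χ hχ hχt => by
      by_contra hlt
      exact hne (card_centralizer_of_small hnc P hP hM hχ hχt (not_le.1 hlt))
  rw [hN] at hs hdN hsq
  have hsB : ∀ i, (s i).natAbs ≤ B := fun i => by
    by_contra hlt
    have h1 : s i ^ 2 ≤ ∑ j, s j ^ 2 := Finset.single_le_sum (fun j _ => sq_nonneg (s j)) (Finset.mem_univ i)
    have h2 : (0 : ℤ) ≤ (((p - 1) / e : ℕ) : ℤ) * d ^ 2 := by positivity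
    have h3 : ((B + 1) * (B + 1) : ℤ) ≤ ((s i).natAbs : ℤ) * ((s i).natAbs : ℤ) := by
      have : B + 1 ≤ (s i).natAbs := by omega
      exact_mod_cast Nat.mul_le_mul this this
    rw [Int.natAbs_mul_self', ← pow_two] at h3
    have hB' : (N : ℤ) < (B + 1) * (B + 1) := by exact_mod_cast hB
    linarith
  refine searchL_of_sol _ s 1 1 (fun i => ?_) ?_ ?_ ?_ ?_
  · obtain ⟨h2, hd, hm1⟩ := hs i
    rw [bigCands, List.mem_filter, cands, List.mem_flatMap]
    refine ⟨⟨(s i).natAbs, ?_, ?_⟩, decide_eq_true (hLs i)⟩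
    · rw [List.mem_filter, List.mem_range]
      exact ⟨by have := hsB i; omega, decide_eq_true ⟨h2, hd⟩⟩
    · rw [List.mem_filter]
      refine ⟨?_, decide_eq_true (Int.emod_eq_zero_of_dvd (Int.ModEq.dvd hm1.symm))⟩
      rcases Int.natAbs_eq (s i) with h | h
      · exact List.mem_cons.2 (Or.inl h)
      · exact List.mem_cons.2 (Or.inr (List.mem_singleton.2 h))
  · rwa [hsum]
  · rwa [hsum]
  · rw [hsum]; exact Int.emod_eq_zero_of_dvd (Int.ModEq.dvd hde.symm)
  · rw [hsum]
    simp only [← pow_two]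
    exact hsq

/-- As above, with a condition known to hold for all character degrees. -/
theorem search_big_filter (hnc : ¬ IsMulCommutative G) {p : ℕ} [hp : Fact p.Prime] {N B e c : ℕ}
    (hN : Nat.card G = N) (hB : N < (B + 1) * (B + 1)) (P : Sylow p G) (hP : Nat.card P = p)
    (he1 : e ≠ 1)
    (hNc : Nat.card (Subgroup.normalizer ((P : Subgroup G) : Set G)) = e * (p * c))
    (hCc : Nat.card (Subgroup.centralizer ((P : Subgroup G) : Set G)) = p * c) (hc : c ≠ 1)
    (q : ℕ → Bool) (hq : ∀ χ : IrrCharacter G, q (charDegree (χ : G → ℂ)) = true) :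
    searchL ((bigCands N p B).filter fun s => q s.natAbs) (2 * p) N p e (e - 1) 1 1 = true := by
  have hne : Nat.card (Subgroup.centralizer ((P : Subgroup G) : Set G)) ≠ p := fun h => by
    rw [hCc] at h
    exact hc ((mul_right_eq_self₀.1 h).resolve_right hp.out.ne_zero)
  obtain ⟨s, d, hs, hd2, hdN, hde, hsum, hsq, hLs, hLd, hdeg⟩ := signed_degrees_aux hnc P hP he1
    (by rw [hCc, hNc]) (2 * p) fun M _ hM χ hχ hχt => by
      by_contra hlt
      exact hne (card_centralizer_of_small hnc P hP hM hχ hχt (not_le.1 hlt))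
  rw [hN] at hs hdN hsq
  have hsB : ∀ i, (s i).natAbs ≤ B := fun i => by
    by_contra hlt
    have h1 : s i ^ 2 ≤ ∑ j, s j ^ 2 := Finset.single_le_sum (fun j _ => sq_nonneg (s j)) (Finset.mem_univ i)
    have h2 : (0 : ℤ) ≤ (((p - 1) / e : ℕ) : ℤ) * d ^ 2 := by positivity
    have h3 : ((B + 1) * (B + 1) : ℤ) ≤ ((s i).natAbs : ℤ) * ((s i).natAbs : ℤ) := by
      have : B + 1 ≤ (s i).natAbs := by omega
      exact_mod_cast Nat.mul_le_mul this this
    rw [Int.natAbs_mul_self', ← pow_two] at h3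
    have hB' : (N : ℤ) < (B + 1) * (B + 1) := by exact_mod_cast hB
    linarith
  refine searchL_of_sol _ s 1 1 (fun i => ?_) ?_ ?_ ?_ ?_
  · obtain ⟨h2, hd, hm1⟩ := hs i
    obtain ⟨χ, hχ⟩ := hdeg.1 i
    rw [List.mem_filter, bigCands, List.mem_filter, cands, List.mem_flatMap]
    refine ⟨⟨⟨(s i).natAbs, ?_, ?_⟩, decide_eq_true (hLs i)⟩, hχ ▸ hq χ⟩
    · rw [List.mem_filter, List.mem_range]
      exact ⟨by have := hsB i; omega, decide_eq_true ⟨h2, hd⟩⟩
    · rw [List.mem_filter]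
      refine ⟨?_, decide_eq_true (Int.emod_eq_zero_of_dvd (Int.ModEq.dvd hm1.symm))⟩
      rcases Int.natAbs_eq (s i) with h | h
      · exact List.mem_cons.2 (Or.inl h)
      · exact List.mem_cons.2 (Or.inr (List.mem_singleton.2 h))
  · rwa [hsum]
  · rwa [hsum]
  · rw [hsum]; exact Int.emod_eq_zero_of_dvd (Int.ModEq.dvd hde.symm)
  · rw [hsum]
    simp only [← pow_two]
    exact hsq

/-- The search restricted to a list of candidates, with a condition and a lower bound on the last degree. -/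
def searchQ (q : ℕ → Bool) (l : List ℤ) (L N p e : ℕ) : ℕ → ℤ → ℤ → Bool
  | 0, sum, sq => q sum.natAbs && decide (L ≤ sum.natAbs ∧ sum.natAbs ∣ N ∧ (sum - e) % (p : ℤ) = 0 ∧
      sq + (((p - 1) / e : ℕ) : ℤ) * sum ^ 2 ≤ (N : ℤ))
  | k + 1, sum, sq => l.any fun s => decide (sq + s * s ≤ (N : ℤ)) && searchQ q l L N p e k (sum + s) (sq + s * s)

theorem searchQ_of_sol {q : ℕ → Bool} {l : List ℤ} {L N p e : ℕ} : ∀ (k : ℕ) (s : Fin k → ℤ) (sum sq : ℤ),
    (∀ i, s i ∈ l) → L ≤ (sum + ∑ i, s i).natAbs → q (sum + ∑ i, s i).natAbs = true → (sum + ∑ i, s i).natAbs ∣ N →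
    (sum + ∑ i, s i - e) % (p : ℤ) = 0 →
    sq + ∑ i, s i * s i + (((p - 1) / e : ℕ) : ℤ) * (sum + ∑ i, s i) ^ 2 ≤ (N : ℤ) →
    searchQ q l L N p e k sum sq = true := by
  intro k
  induction k with
  | zero =>
    intro s sum sq _ h1 hq h2 h3 h4
    simp only [Fin.sum_univ_zero, add_zero] at h1 hq h2 h3 h4
    rw [searchQ]
    rw [hq, Bool.true_and]
    exact decide_eq_true ⟨h1, h2, h3, h4⟩
  | succ k ih =>
    intro s sum sq hs h1 hq h2 h3 h4
    rw [Fin.sum_univ_succ, ← add_assoc] at h1 hq h2 h3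
    rw [Fin.sum_univ_succ, Fin.sum_univ_succ, ← add_assoc, ← add_assoc] at h4
    rw [searchQ, List.any_eq_true]
    refine ⟨s 0, hs 0, ?_⟩
    rw [Bool.and_eq_true]
    refine ⟨decide_eq_true ?_, ih (fun i => s i.succ) _ _ (fun i => hs _) h1 hq h2 h3 h4⟩
    have hn : 0 ≤ ∑ i : Fin k, s i.succ * s i.succ := Finset.sum_nonneg fun i _ => mul_self_nonneg _
    have ht : (0 : ℤ) ≤ (((p - 1) / e : ℕ) : ℤ) * (sum + s 0 + ∑ i : Fin k, s i.succ) ^ 2 := by positivity
    linarith

/-- The plain search, with a condition known to hold for all character degrees. -/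
theorem search_filter (hnc : ¬ IsMulCommutative G) {p : ℕ} [hp : Fact p.Prime] {N B e c : ℕ}
    (hN : Nat.card G = N) (hB : N < (B + 1) * (B + 1)) (P : Sylow p G) (hP : Nat.card P = p)
    (he1 : e ≠ 1)
    (hNc : Nat.card (Subgroup.normalizer ((P : Subgroup G) : Set G)) = e * (p * c))
    (hCc : Nat.card (Subgroup.centralizer ((P : Subgroup G) : Set G)) = p * c) 
    (L : ℕ) (hL : 2 ≤ L)
    (hLd : ∀ (M : Ideal AlgInt) [M.IsPrime], IsPModular p M → ∀ χ ∈ principalBlock M G,
      χ ≠ CT.trivIrr G → L ≤ charDegree (χ : G → ℂ))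
    (q : ℕ → Bool) (hq : ∀ χ : IrrCharacter G, q (charDegree (χ : G → ℂ)) = true) :
    searchQ q ((cands N p B).filter fun s => decide (L ≤ s.natAbs) && q s.natAbs) L N p e (e - 1) 1 1 = true := by
  obtain ⟨s, d, hs, hd2, hdN, hde, hsum, hsq, hLs, hLd', hdeg⟩ := signed_degrees_aux hnc P hP he1
    (by rw [hCc, hNc]) L hLd
  rw [hN] at hs hdN hsq
  have hsB : ∀ i, (s i).natAbs ≤ B := fun i => by
    by_contra hlt
    have h1 : s i ^ 2 ≤ ∑ j, s j ^ 2 := Finset.single_le_sum (fun j _ => sq_nonneg (s j)) (Finset.mem_univ i)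
    have h2 : (0 : ℤ) ≤ (((p - 1) / e : ℕ) : ℤ) * d ^ 2 := by positivity
    have h3 : ((B + 1) * (B + 1) : ℤ) ≤ ((s i).natAbs : ℤ) * ((s i).natAbs : ℤ) := by
      have : B + 1 ≤ (s i).natAbs := by omega
      exact_mod_cast Nat.mul_le_mul this this
    rw [Int.natAbs_mul_self', ← pow_two] at h3
    have hB' : (N : ℤ) < (B + 1) * (B + 1) := by exact_mod_cast hB
    linarith
  refine searchQ_of_sol _ s 1 1 (fun i => ?_) ?_ ?_ ?_ ?_ ?_
  · obtain ⟨h2, hd, hm1⟩ := hs i
    obtain ⟨χ, hχ⟩ := hdeg.1 i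
    rw [List.mem_filter, cands, List.mem_flatMap, Bool.and_eq_true]
    refine ⟨⟨(s i).natAbs, ?_, ?_⟩, decide_eq_true (hLs i), hχ ▸ hq χ⟩
    · rw [List.mem_filter, List.mem_range]
      exact ⟨by have := hsB i; omega, decide_eq_true ⟨h2, hd⟩⟩
    · rw [List.mem_filter]
      refine ⟨?_, decide_eq_true (Int.emod_eq_zero_of_dvd (Int.ModEq.dvd hm1.symm))⟩
      rcases Int.natAbs_eq (s i) with h | h
      · exact List.mem_cons.2 (Or.inl h)
      · exact List.mem_cons.2 (Or.inr (List.mem_singleton.2 h))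
  · rwa [hsum]
  · rw [hsum]
    obtain ⟨χ, hχ⟩ := hdeg.2
    exact hχ ▸ hq χ
  · rwa [hsum]
  · rw [hsum]; exact Int.emod_eq_zero_of_dvd (Int.ModEq.dvd hde.symm)
  · rw [hsum]
    simp only [← pow_two]
    exact hsq

end Cfsg.Agent.SmallSimple
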