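import Cfsg.Agent.S0144
import Cfsg.Agent.S0992
import Cfsg.Agent.S0999
import Cfsg.Agent.Lib.SmallSimple.Alternating
import Cfsg.Agent.Lib.SmallSimple.BlockRigid
import Cfsg.Agent.Lib.SmallSimple.RecognizePrime
import Cfsg.Agent.Lib.PermGp.ZassenhausEven.Iso

/-!
# A checker for the orders of simple groups in a range

`killB N c` verifies, from a small certificate `c`, that no non-abelian simple group has order `N`.
-/

set_option autoImplicit false

namespace Cfsg.Agent.SmallSimple.Range

open Subgroup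

/-- Primality for numbers below `6400`, by trial division. -/
def primeB (p : ℕ) : Bool :=
  decide (2 ≤ p ∧ p < 6400) && (List.range' 2 78).all fun d => decide (p ≤ d ∨ p % d ≠ 0)

theorem prime_of_primeB {p : ℕ} (h : primeB p = true) : p.Prime := by
  simp only [primeB, Bool.and_eq_true, decide_eq_true_eq, List.all_eq_true] at h
  obtain ⟨⟨h2, hlt⟩, hall⟩ := h
  rw [Nat.prime_def_le_sqrt]
  refine ⟨h2, fun m hm2 hms hdvd => ?_⟩
  have hsq : p.sqrt < 80 := Nat.sqrt_lt.2 (by omega)
  have hmlt : m < p := lt_of_le_of_lt hms (Nat.sqrt_lt_self (by omega))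
  rcases hall m (List.mem_range'_1.2 ⟨hm2, by omega⟩) with h | h
  · omega
  · exact h (Nat.mod_eq_zero_of_dvd hdvd)

/-- Whether `N` divides `n!/2`. -/
def factOK (N n : ℕ) : Bool :=
  decide ((List.range' 3 (n - 2)).foldl (fun r i => r * i % N) (1 % N) = 0)

theorem foldl_mod (N : ℕ) : ∀ (l : List ℕ) (a : ℕ),
    l.foldl (fun r i => r * i % N) (a % N) = (l.foldl (· * ·) a) % N := by
  intro l
  induction l with
  | nil => intro a; rfl
  | cons x l ih =>
    intro a
    rw [List.foldl_cons, List.foldl_cons, ← ih, Nat.mod_mul_mod]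

theorem foldl_range' : ∀ k : ℕ, 2 * (List.range' 3 k).foldl (· * ·) 1 = (k + 2).factorial := by
  intro k
  induction k with
  | zero => rfl
  | succ k ih =>
    rw [List.range'_concat, List.foldl_append, List.foldl_cons, List.foldl_nil, ← mul_assoc, ih,
      show k + 1 + 2 = (k + 2) + 1 from rfl, Nat.factorial_succ (k + 2)]
    ring

theorem factOK_of_dvd {N n : ℕ} (hn : 2 ≤ n) (h : 2 * N ∣ n.factorial) : factOK N n = true := by
  have e := foldl_range' (n - 2)
  rw [show n - 2 + 2 = n by omega] at e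
  rw [← e] at h
  rw [factOK, decide_eq_true_eq, foldl_mod]
  exact Nat.mod_eq_zero_of_dvd (Nat.dvd_of_mul_dvd_mul_left two_pos h)

variable {G : Type*} [Group G] [Finite G] [IsSimpleGroup G]

theorem factOK_sylow (hnc : ¬ IsMulCommutative G) {N p : ℕ} [Fact p.Prime] (hN : Nat.card G = N)
    (hp : p ∣ N) : factOK N (Nat.card (Sylow p G)) = true := by
  classical
  obtain ⟨P⟩ : Nonempty (Sylow p G) := inferInstance
  have hp' : p ∣ Nat.card G := hN ▸ hp
  have hne := normalizer_sylow_ne_top hnc hp' P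
  have h1 := card_sylow_ne_one hnc hp'
  have h2 : 2 ≤ Nat.card (Sylow p G) := by
    have : 0 < Nat.card (Sylow p G) := Nat.card_pos
    omega
  refine factOK_of_dvd h2 ?_
  obtain ⟨f, hf⟩ := exists_hom_alternating hnc hne
  have hd := Subgroup.card_dvd_of_injective f hf
  rw [hN] at hd
  rw [P.card_eq_index_normalizer] at h2 ⊢
  change 2 * N ∣ (normalizer ((P : Subgroup G) : Set G)).index.factorial
  change 2 ≤ (normalizer ((P : Subgroup G) : Set G)).index at h2
  haveI : Nontrivial (Fin (normalizer ((P : Subgroup G) : Set G)).index) := Fin.nontrivial_iff_two_le.2 h2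
  have h3 := two_mul_nat_card_alternatingGroup (α := Fin (normalizer ((P : Subgroup G) : Set G)).index)
  rw [Nat.card_perm, Nat.card_fin] at h3
  rw [← h3]
  exact mul_dvd_mul_left 2 hd

/-- All Sylow numbers are excluded. -/
def sylB (N p m : ℕ) : Bool :=
  (List.range (m / p + 1)).all fun k => decide (¬ (1 + p * (k + 1)) ∣ m) || !factOK N (1 + p * (k + 1))

/-- All normalizers of a Sylow subgroup of prime order are excluded by the principal block. -/
def blockB (N p m B : ℕ) : Bool :=
  (List.range (m / p + 1)).all fun k =>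
    decide (¬ (1 + p * (k + 1)) ∣ m) || !factOK N (1 + p * (k + 1)) ||
      (List.range p).all fun e => decide (e < 2 ∨ ¬ e ∣ p - 1 ∨ ¬ e ∣ m / (1 + p * (k + 1))) ||
        bif decide (m / (1 + p * (k + 1)) / e = 1) then !search N p B e (e - 1) 1 1
        else !searchL (bigCands N p B) (2 * p) N p e (e - 1) 1 1

/-- The checker. -/
def killB (N : ℕ) : ℕ × ℕ × ℕ × ℕ × ℕ → Bool
  | (0, p, a, q, b) => primeB p && primeB q && decide (N = p ^ a * q ^ b)
  | (1, _) => decide (N % 4 = 2)
  | (2, p, _) => primeB p && decide (p ∣ N ∧ ¬ p ∣ N / p) &&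
      (List.range p).all fun d => decide (d < 2 ∨ N % d ≠ 0)
  | (3, p, a, _) => primeB p && decide (1 ≤ a ∧ p ^ a ∣ N ∧ ¬ p ∣ N / p ^ a) && sylB N p (N / p ^ a)
  | (4, p, _) => primeB p && decide (p ∣ N ∧ N < p ^ 3 ∧ 2 * N ≠ p * (p - 1) * (p + 1) ∧ N ≠ p * (p - 1) * (p - 2))
  | (5, p, B, _) => primeB p && decide (p ∣ N ∧ ¬ p ∣ N / p ∧ N < (B + 1) * (B + 1)) && blockB N p (N / p) B
  | _ => false

theorem exists_index {m p n : ℕ} (hp : 0 < p) (hm : 0 < m) (hnm : n ∣ m) (hn1 : n ≠ 1) (hmod : n % p = 1) :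
    ∃ k ∈ List.range (m / p + 1), 1 + p * (k + 1) = n := by
  have hn0 : 0 < n := Nat.pos_of_dvd_of_pos hnm hm
  have hle := Nat.le_of_dvd hm hnm
  have hdm := Nat.div_add_mod n p
  obtain ⟨k, hk⟩ : ∃ k, n / p = k + 1 := by
    refine ⟨n / p - 1, ?_⟩
    rcases Nat.eq_zero_or_pos (n / p) with h | h
    · rw [h, mul_zero, hmod] at hdm; omega
    · omega
  rw [hk, hmod] at hdm
  refine ⟨k, List.mem_range.2 ?_, by omega⟩
  have : k + 1 ≤ m / p := (Nat.le_div_iff_mul_le hp).2 (by rw [mul_comm]; omega)
  omega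

theorem not_simple_of_killB (hnc : ¬ IsMulCommutative G) {N : ℕ} (hN : Nat.card G = N)
    {c : ℕ × ℕ × ℕ × ℕ × ℕ} (h : killB N c = true) : False := by
  classical
  have hN0 : 0 < N := hN ▸ Nat.card_pos
  obtain ⟨t, p, a, q, b⟩ := c
  match t, h with
  | 0, h =>
    simp only [killB, Bool.and_eq_true, decide_eq_true_eq] at h
    obtain ⟨⟨hp, hq⟩, hf⟩ := h
    have hs := S0144.result p q a b (prime_of_primeB hp) (prime_of_primeB hq) (hN.trans hf)
    haveI := hs
    exact hnc ⟨⟨IsSimpleGroup.comm_iff_isSolvable.2 hs⟩⟩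
  | 1, h =>
    simp only [killB, decide_eq_true_eq] at h
    haveI : Fact (Nat.Prime 2) := ⟨Nat.prime_two⟩
    obtain ⟨T⟩ : Nonempty (Sylow 2 G) := inferInstance
    have h4 := (S0992.result hnc (by rw [hN, Nat.even_iff]; omega) (by rw [hN]; omega) T).1.card_four
    have hd := Subgroup.card_subgroup_dvd_card (T : Subgroup G)
    rw [h4, hN] at hd
    omega
  | 2, h =>
    simp only [killB, Bool.and_eq_true, decide_eq_true_eq, List.all_eq_true, List.mem_range] at h
    obtain ⟨⟨hp, hpN, hpm⟩, hall⟩ := h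
    haveI : Fact p.Prime := ⟨prime_of_primeB hp⟩
    have hN1 : N ≠ 1 := fun e => (Fact.out : p.Prime).one_lt.ne' (Nat.dvd_one.1 (e ▸ hpN))
    have hmf : (Nat.card G).minFac = p := by
      rw [hN]
      refine le_antisymm (Nat.minFac_le_of_dvd (Fact.out : p.Prime).two_le hpN) ?_
      by_contra hlt
      have h2 := (Nat.minFac_prime hN1).two_le
      rcases hall N.minFac (by omega) with h | h
      · omega
      · exact h (Nat.mod_eq_zero_of_dvd (Nat.minFac_dvd N))
    obtain ⟨P⟩ : Nonempty (Sylow p G) := inferInstance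
    have hPc : Nat.card P = p := by
      simpa using card_sylow_of_eq (k := 1) (m := N / p) P
        (by rw [hN, pow_one, Nat.mul_div_cancel' hpN]) hpm
    exact not_normalizer_le_centralizer hnc (hN ▸ hpN) P
      (IsCyclic.normalizer_le_centralizer hmf (isCyclic_of_prime_card hPc))
  | 3, h =>
    simp only [killB, Bool.and_eq_true, decide_eq_true_eq] at h
    obtain ⟨⟨hp, ha, hpN, hpm⟩, hs⟩ := h
    haveI : Fact p.Prime := ⟨prime_of_primeB hp⟩
    obtain ⟨P⟩ : Nonempty (Sylow p G) := inferInstance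
    have hp' : p ∣ N := (dvd_pow_self p (by omega)).trans hpN
    have hPc := card_sylow_of_eq (k := a) (m := N / p ^ a) P (by rw [hN, Nat.mul_div_cancel' hpN]) hpm
    have hnm : Nat.card (Sylow p G) ∣ N / p ^ a := by
      have h1 := P.card_dvd_index
      have h2 := Subgroup.card_mul_index (P : Subgroup G)
      rw [hPc, hN, ← Nat.mul_div_cancel' hpN] at h2
      rwa [Nat.eq_of_mul_eq_mul_left (pow_pos (Fact.out : p.Prime).pos a) h2] at h1
    have hmod : Nat.card (Sylow p G) % p = 1 := by
      have := card_sylow_modEq_one p G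
      rwa [Nat.ModEq, Nat.mod_eq_of_lt (Fact.out : p.Prime).one_lt] at this
    obtain ⟨k, hk, hke⟩ := exists_index (Fact.out : p.Prime).pos
      (Nat.div_pos (Nat.le_of_dvd hN0 hpN) (pow_pos (Fact.out : p.Prime).pos a)) hnm
      (card_sylow_ne_one hnc (hN ▸ hp')) hmod
    have := (List.all_eq_true.1 hs) k hk
    simp only [hke, hnm, not_true, decide_false, Bool.false_or, factOK_sylow hnc hN hp'] at this
    exact Bool.false_ne_true this
  | 4, h =>
    simp only [killB, Bool.and_eq_true, decide_eq_true_eq] at h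
    obtain ⟨hp, hpN, hbig, hne1, hne2⟩ := h
    have hcy : ¬ IsCyclic G := fun hc => hnc ⟨⟨fun a b => (IsCyclic.commGroup (α := G)).mul_comm a b⟩⟩
    rcases S0999.result hcy p (prime_of_primeB hp) (hN ▸ hpN) (hN ▸ hbig) with
      ⟨K, _, _, hK, hp3, ⟨e⟩⟩ | ⟨m, K, _, _, hK, hm, hp3, ⟨e⟩⟩
    · have hodd := (prime_of_primeB hp).eq_two_or_odd.resolve_left (by omega)
      have h2 := RecognizePSL.natCard_PSL2 (F := K) (by rw [hK]; exact hodd)
      rw [← Nat.card_congr e.toEquiv, hN, hK] at h2
      exact hne1 (by rw [mul_comm]; exact h2)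
    · have hm1 : 1 ≤ m := by
        rcases Nat.eq_zero_or_pos m with h0 | h0
        · rw [h0, pow_zero] at hm; omega
        · exact h0
      have h := LinGrp.natCard_PSL_mul (n := Fin 2) (F := K)
      rw [Fintype.card_fin, Nat.card_eq_fintype_card (α := K), PermGp.ZEven.natCard_SL_two_field K, hK,
        show Nat.gcd 2 (2 ^ m - 1) = 1 from (Nat.Prime.coprime_iff_not_dvd Nat.prime_two).2 (fun hd => by
          have : 2 ∣ 2 ^ m := dvd_pow_self 2 (by omega)
          omega), one_mul, ← Nat.card_congr e.toEquiv, hN] at h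
      refine hne2 ?_
      rw [h, show p - 1 = 2 ^ m by omega, show p - 2 = 2 ^ m - 1 by omega, hm]
  | 5, h =>
    simp only [killB, Bool.and_eq_true, decide_eq_true_eq] at h
    obtain ⟨⟨hp, hpN, hpm, hB⟩, hs⟩ := h
    haveI : Fact p.Prime := ⟨prime_of_primeB hp⟩
    have hp0 := (Fact.out : p.Prime).pos
    have hnp : ¬ N.Prime := fun h => by
      haveI : IsCyclic G := isCyclic_of_prime_card (hp := ⟨h⟩) hN
      exact hnc ⟨⟨fun a b => (IsCyclic.commGroup (α := G)).mul_comm a b⟩⟩
    obtain ⟨n, e, c, hn, hnm, hn1, he, he1, hnec, hsr, P, hcard, hNc, hCc⟩ :=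
      block_data p (m := N / p) (B := a) hN (Nat.mul_div_cancel' hpN).symm hpm hB hnp
    obtain ⟨k, hk, hke⟩ := exists_index hp0 (Nat.div_pos (Nat.le_of_dvd hN0 hpN) hp0) hn hn1 hnm
    have hall := (List.all_eq_true.1 hs) k hk
    have hn0 : 0 < n := Nat.pos_of_ne_zero fun h => by simp [h] at hnm
    have hp2 := (Fact.out : p.Prime).two_le
    have he0 : 0 < e := Nat.pos_of_dvd_of_pos he (by omega)
    have hep : e ∈ List.range p := List.mem_range.2 (by have := Nat.le_of_dvd (by omega) he; omega)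
    have hd : N / p / n = e * c := by rw [← hnec, Nat.mul_div_cancel_left _ hn0]
    simp only [hke, hn, not_true, decide_false, Bool.false_or,
      factOK_sylow hnc hN hpN ▸ (by rw [hcard] : factOK N (Nat.card (Sylow p G)) = factOK N n) |>.symm] at hall
    have hall2 := (List.all_eq_true.1 hall) e hep
    rw [hd, Nat.mul_div_cancel_left _ he0] at hall2
    simp only [he, dvd_mul_right, not_true, or_false, show ¬ e < 2 by omega, decide_false, Bool.false_or] at hall2
    by_cases hc : c = 1
    · simp [hc, hsr] at hall2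
    · have hP : Nat.card P = p := by
        simpa using card_sylow_of_eq (k := 1) (m := N / p) P (by rw [hN, pow_one, Nat.mul_div_cancel' hpN]) hpm
      simp [hc, search_big hnc hN hB P hP he1 hNc hCc hc] at hall2
  | t + 6, h => simp [killB] at h

theorem of_table {lo : ℕ} {exc : List ℕ} (certs : List (ℕ × ℕ × ℕ × ℕ × ℕ))
    (h : (List.zip (List.range' lo certs.length) certs).all
      (fun x => decide (x.1 ∈ exc) || killB x.1 x.2) = true)
    (hnc : ¬ IsMulCommutative G) (h1 : lo ≤ Nat.card G) (h2 : Nat.card G < lo + certs.length) :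
    Nat.card G ∈ exc := by
  by_contra hx
  set i := Nat.card G - lo with hi
  have hlt : i < (List.zip (List.range' lo certs.length) certs).length := by
    rw [List.length_zip, List.length_range']
    omega
  have hmem := List.getElem_mem hlt
  have hall := (List.all_eq_true.1 h) _ hmem
  rw [List.getElem_zip, List.getElem_range'] at hall
  simp only [show lo + 1 * i = Nat.card G by omega, hx, decide_false, Bool.false_or] at hall
  exact not_simple_of_killB hnc rfl hall

end Cfsg.Agent.SmallSimple.Range
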