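import Cfsg.Agent.Lib.SmallSimple.BlockFrobenius
import Cfsg.Agent.Lib.SmallSimple.BlockDihedral
import Cfsg.Agent.Lib.SmallSimple.Range

/-!
# The orders 720, 900 and 960
-/

set_option autoImplicit false

namespace Cfsg.Agent.SmallSimple

open Subgroup

variable {G : Type*} [Group G] [Finite G] [IsSimpleGroup G]

/-- A central involution of a Sylow two-subgroup. -/
theorem exists_central_involution [Fact (Nat.Prime 2)] (h2 : 2 ∣ Nat.card G) :
    ∃ (S : Sylow 2 G) (z : G), z ∈ (S : Subgroup G) ∧ orderOf z = 2 ∧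
      (S : Subgroup G) ≤ centralizer ({z} : Set G) := by
  obtain ⟨S⟩ : Nonempty (Sylow 2 G) := inferInstance
  haveI : Nontrivial (S : Subgroup G) := (Subgroup.nontrivial_iff_ne_bot _).2 (S.ne_bot_of_dvd_card h2)
  haveI := S.2.center_nontrivial
  obtain ⟨w, hw⟩ := exists_prime_orderOf_dvd_card' (G := center (S : Subgroup G)) 2 (by
    obtain ⟨i, hi⟩ := (S.2.to_subgroup (center (S : Subgroup G))).exists_card_eq
    rw [hi]
    refine dvd_pow_self 2 fun h0 => ?_
    rw [h0, pow_zero] at hi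
    exact absurd hi (Finite.one_lt_card_iff_nontrivial.2 inferInstance).ne')
  refine ⟨S, ((w : (S : Subgroup G)) : G), (w : (S : Subgroup G)).2,
    by rw [orderOf_coe, orderOf_coe, hw], fun s hs => ?_⟩
  exact mem_centralizer_singleton_iff.2 (congrArg Subtype.val (mem_center_iff.1 w.2 ⟨s, hs⟩))

/-- An abelian self-normalizing Sylow subgroup is impossible. -/
theorem false_of_self_normalizing (hnc : ¬ IsMulCommutative G) {p : ℕ} [Fact p.Prime] (hp : p ∣ Nat.card G)
    (P : Sylow p G) (hP : Nat.card P = p ^ 2)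
    (hN : Nat.card (normalizer ((P : Subgroup G) : Set G)) = p ^ 2) : False := by
  haveI := IsPGroup.isMulCommutative_of_card_eq_prime_sq hP
  have h : (P : Subgroup G) = normalizer ((P : Subgroup G) : Set G) :=
    eq_of_le_of_card_ge le_normalizer (by rw [hN, hP])
  exact not_normalizer_le_centralizer hnc hp P (h.ge.trans (le_centralizer (P : Subgroup G)))

/-- The numbers of Sylow subgroups allowed by Sylow and the embedding theorem. -/
theorem sylow_number_cases (hnc : ¬ IsMulCommutative G) {N p a m : ℕ} [Fact p.Prime] (hN : Nat.card G = N)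
    (hm : N = p ^ a * m) (ha : a ≠ 0) (hpm : ¬ p ∣ m) (P : Sylow p G) :
    Nat.card (Sylow p G) ∣ m ∧ Nat.card (Sylow p G) % p = 1 ∧ Range.factOK N (Nat.card (Sylow p G)) = true ∧
      Nat.card (Sylow p G) * Nat.card (normalizer ((P : Subgroup G) : Set G)) = N ∧ Nat.card P = p ^ a := by
  have hPc := card_sylow_of_eq (k := a) (m := m) P (hN.trans hm) hpm
  refine ⟨?_, ?_, Range.factOK_sylow hnc hN (hm ▸ (dvd_pow_self p ha).mul_right m), hN ▸ card_sylow_mul P, hPc⟩
  · have h1 := P.card_dvd_index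
    have h2 := card_mul_index (P : Subgroup G)
    rw [hPc, hN, hm] at h2
    rwa [Nat.eq_of_mul_eq_mul_left (pow_pos (Fact.out : p.Prime).pos a) h2] at h1
  · have := card_sylow_modEq_one p G
    rwa [Nat.ModEq, Nat.mod_eq_of_lt (Fact.out : p.Prime).one_lt] at this

theorem not_card_900 (hnc : ¬ IsMulCommutative G) : Nat.card G ≠ 900 := by
  intro hN
  haveI : Fact (Nat.Prime 5) := ⟨by norm_num⟩
  have hne := card_sylow_ne_one (p := 5) hnc (by rw [hN]; norm_num)
  obtain ⟨P⟩ : Nonempty (Sylow 5 G) := inferInstance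
  obtain ⟨hd, hmod, hf, hmul, hP⟩ := sylow_number_cases hnc (a := 2) (m := 36) hN (by norm_num) (by norm_num) (by norm_num) P
  have key : ∀ n ∈ Nat.divisors 36, n % 5 = 1 → n ≠ 1 → Range.factOK 900 n = true → n = 36 := by decide +kernel
  have h36 := key _ (Nat.mem_divisors.2 ⟨hd, by norm_num⟩) hmod hne hf
  rw [h36] at hmul
  exact false_of_self_normalizing hnc (by rw [hN]; norm_num) P hP (by omega)

theorem not_card_720 (hnc : ¬ IsMulCommutative G) : Nat.card G ≠ 720 := by
  intro hN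
  haveI : Fact (Nat.Prime 5) := ⟨by norm_num⟩
  obtain ⟨n, e, c, hn, hnm, hn1, he, he1, hnec, hs, P, hcard, hNc, hCc⟩ :=
    block_data 5 (m := 144) (B := 26) hN (by norm_num) (by norm_num) (by norm_num) (by norm_num)
  have hf : Range.factOK 720 n = true := hcard ▸ Range.factOK_sylow hnc hN (by norm_num)
  have hn0 : 0 < n := Nat.pos_of_ne_zero fun h => by simp [h] at hnm
  have key : ∀ n ∈ Nat.divisors 144, n % 5 = 1 → n ≠ 1 → Range.factOK 720 n = true →
      ∀ e ∈ Nat.divisors (5 - 1), e ≠ 1 → e ∣ 144 / n → search 720 5 26 e (e - 1) 1 1 = true →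
      (144 / n / e ≠ 1 → searchL (bigCands 720 5 26) (2 * 5) 720 5 e (e - 1) 1 1 = false) ∧
      (144 / n / e = 1 → e = 4) := by decide +kernel
  have key2 : searchFive 720 26 = false := by decide +kernel
  obtain ⟨k1, k2⟩ := key n (Nat.mem_divisors.2 ⟨hn, by norm_num⟩) hnm hn1 hf e
    (Nat.mem_divisors.2 ⟨he, by norm_num⟩) he1 ⟨c, by rw [← hnec, Nat.mul_div_cancel_left _ hn0]⟩ hs
  have he0 : 0 < e := Nat.pos_of_ne_zero fun h => by simp [h] at he
  have hP : Nat.card P = 5 := by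
    simpa using card_sylow_of_eq (k := 1) (m := 144) P (by rw [hN]; norm_num) (by norm_num)
  rw [← hnec, Nat.mul_div_cancel_left _ hn0, Nat.mul_div_cancel_left _ he0] at k1 k2
  by_cases hc : c = 1
  swap
  · exact Bool.false_ne_true ((k1 hc).symm.trans (search_big hnc hN (by norm_num) P hP he1 hNc hCc hc))
  obtain rfl := k2 hc
  subst hc
  exact Bool.false_ne_true (key2.symm.trans (searchFive_eq_true hnc hN (by norm_num) P hP (by rw [hCc]) (by rw [hNc])))

theorem not_card_960 (hnc : ¬ IsMulCommutative G) : Nat.card G ≠ 960 := by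
  intro hN
  haveI : Fact (Nat.Prime 5) := ⟨by norm_num⟩
  haveI : Fact (Nat.Prime 2) := ⟨Nat.prime_two⟩
  obtain ⟨n, e, c, hn, hnm, hn1, he, he1, hnec, hsr, P, hcard, hNc, hCc⟩ :=
    block_data 5 (m := 192) (B := 30) hN (by norm_num) (by norm_num) (by norm_num) (by norm_num)
  have hf : Range.factOK 960 n = true := hcard ▸ Range.factOK_sylow hnc hN (by norm_num)
  have hn0 : 0 < n := Nat.pos_of_ne_zero fun h => by simp [h] at hnm
  have key : ∀ n ∈ Nat.divisors 192, n % 5 = 1 → n ≠ 1 → Range.factOK 960 n = true →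
      ∀ e ∈ Nat.divisors (5 - 1), e ≠ 1 → e ∣ 192 / n → search 960 5 30 e (e - 1) 1 1 = true →
      (192 / n / e ≠ 1 → searchL (bigCands 960 5 30) (2 * 5) 960 5 e (e - 1) 1 1 = false) ∧
      (192 / n / e = 1 → e = 2) := by decide +kernel
  obtain ⟨k1, k2⟩ := key n (Nat.mem_divisors.2 ⟨hn, by norm_num⟩) hnm hn1 hf e
    (Nat.mem_divisors.2 ⟨he, by norm_num⟩) he1 ⟨c, by rw [← hnec, Nat.mul_div_cancel_left _ hn0]⟩ hsr
  have he0 : 0 < e := Nat.pos_of_ne_zero fun h => by simp [h] at he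
  have hP : Nat.card P = 5 := by
    simpa using card_sylow_of_eq (k := 1) (m := 192) P (by rw [hN]; norm_num) (by norm_num)
  rw [← hnec, Nat.mul_div_cancel_left _ hn0, Nat.mul_div_cancel_left _ he0] at k1 k2
  by_cases hc : c = 1
  swap
  · exact Bool.false_ne_true ((k1 hc).symm.trans (search_big hnc hN (by norm_num) P hP he1 hNc hCc hc))
  obtain rfl := k2 hc
  subst hc
  obtain ⟨s, d, r, hs2, hsd, hsm, hd2, hdd, hde, hsq, -, hall⟩ :=
    exists_square hnc (p := 5) le_rfl P hP (by rw [hCc]) (by rw [hNc])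
  rw [hN] at hsd hdd hsq hall
  have key3 : ∀ s ∈ Finset.Icc (-30 : ℤ) 30, 2 ≤ s.natAbs → s.natAbs ∣ 960 → (1 - s) % 5 = 0 →
      2 ≤ (1 + s).natAbs → (1 + s).natAbs ∣ 960 → s = -4 := by decide +kernel
  subst hde
  obtain rfl := key3 s (Finset.mem_Icc.2 ⟨by push_cast at hsq; nlinarith, by push_cast at hsq; nlinarith⟩)
    hs2 hsd (Int.emod_eq_zero_of_dvd hsm.dvd) hd2 hdd
  obtain ⟨S, z, hzS, hz, hle⟩ := exists_central_involution (G := G) (by rw [hN]; norm_num)
  obtain ⟨A, hA, hAr⟩ := hall z hz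
  have hS : Nat.card S = 2 ^ 6 := card_sylow_of_eq (k := 6) (m := 15) S (by rw [hN]; norm_num) (by norm_num)
  have hi : (centralizer ({z} : Set G)).index ≤ 15 := by
    obtain ⟨j, hj⟩ := card_dvd_of_le hle
    have h := card_mul_index (centralizer ({z} : Set G))
    rw [hN, hj, hS, mul_assoc, show (960 : ℕ) = 2 ^ 6 * 15 by norm_num] at h
    exact Nat.le_of_dvd (by norm_num) ⟨j, by rw [mul_comm]; exact (Nat.eq_of_mul_eq_mul_left (by norm_num) h).symm⟩
  set i : ℕ := (centralizer ({z} : Set G)).index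
  have h1 : -4 ≤ A ∧ A ≤ 4 := by simp at hA; omega
  have h2 : ((i : ℤ) * (-4 - A)) ^ 2 ≤ 120 ^ 2 := by
    have hi' : (i : ℤ) ≤ 15 := by exact_mod_cast hi
    have hi0 : (0 : ℤ) ≤ i := Int.natCast_nonneg i
    refine sq_le_sq' ?_ ?_ <;> nlinarith
  rw [hAr] at h2
  norm_num at h2

end Cfsg.Agent.SmallSimple
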