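import Cfsg.Agent.Lib.SmallSimple.Range

/-!
# Certificates for the orders from 2 to 1092
-/

set_option autoImplicit false
set_option maxRecDepth 20000

namespace Cfsg.Agent.SmallSimple.Range

def rangeLow0Certs : List (ℕ × ℕ × ℕ × ℕ × ℕ) :=
  [(0,2,1,2,0), (0,3,1,3,0), (0,2,2,2,0), (0,5,1,5,0), (0,2,1,3,1), (0,7,1,7,0),
  (0,2,3,2,0), (0,3,2,3,0), (0,2,1,5,1), (0,11,1,11,0), (0,2,2,3,1), (0,13,1,13,0),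
  (0,2,1,7,1), (0,3,1,5,1), (0,2,4,2,0), (0,17,1,17,0), (0,2,1,3,2), (0,19,1,19,0),
  (0,2,2,5,1), (0,3,1,7,1), (0,2,1,11,1), (0,23,1,23,0), (0,2,3,3,1), (0,5,2,5,0),
  (0,2,1,13,1), (0,3,3,3,0), (0,2,2,7,1), (0,29,1,29,0), (1,0,0,0,0), (0,31,1,31,0),
  (0,2,5,2,0), (0,3,1,11,1), (0,2,1,17,1), (0,5,1,7,1), (0,2,2,3,2), (0,37,1,37,0),
  (0,2,1,19,1), (0,3,1,13,1), (0,2,3,5,1), (0,41,1,41,0), (1,0,0,0,0), (0,43,1,43,0),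
  (0,2,2,11,1), (0,3,2,5,1), (0,2,1,23,1), (0,47,1,47,0), (0,2,4,3,1), (0,7,2,7,0),
  (0,2,1,5,2), (0,3,1,17,1), (0,2,2,13,1), (0,53,1,53,0), (0,2,1,3,3), (0,5,1,11,1),
  (0,2,3,7,1), (0,3,1,19,1), (0,2,1,29,1), (0,59,1,59,0), (9,0,0,0,0), (0,61,1,61,0),
  (0,2,1,31,1), (0,3,2,7,1), (0,2,6,2,0), (0,5,1,13,1), (1,0,0,0,0), (0,67,1,67,0),
  (0,2,2,17,1), (0,3,1,23,1), (1,0,0,0,0), (0,71,1,71,0), (0,2,3,3,2), (0,73,1,73,0),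
  (0,2,1,37,1), (0,3,1,5,2), (0,2,2,19,1), (0,7,1,11,1), (1,0,0,0,0), (0,79,1,79,0),
  (0,2,4,5,1), (0,3,4,3,0), (0,2,1,41,1), (0,83,1,83,0), (3,7,1,0,0), (0,5,1,17,1),
  (0,2,1,43,1), (0,3,1,29,1), (0,2,3,11,1), (0,89,1,89,0), (1,0,0,0,0), (0,7,1,13,1),
  (0,2,2,23,1), (0,3,1,31,1), (0,2,1,47,1), (0,5,1,19,1), (0,2,5,3,1), (0,97,1,97,0),
  (0,2,1,7,2), (0,3,2,11,1), (0,2,2,5,2), (0,101,1,101,0), (1,0,0,0,0), (0,103,1,103,0),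
  (0,2,3,13,1), (2,3,0,0,0), (0,2,1,53,1), (0,107,1,107,0), (0,2,2,3,3), (0,109,1,109,0),
  (1,0,0,0,0), (0,3,1,37,1), (0,2,4,7,1), (0,113,1,113,0), (1,0,0,0,0), (0,5,1,23,1),
  (0,2,2,29,1), (0,3,2,13,1), (0,2,1,59,1), (0,7,1,17,1), (4,5,0,0,0), (0,11,2,11,0),
  (0,2,1,61,1), (0,3,1,41,1), (0,2,2,31,1), (0,5,3,5,0), (1,0,0,0,0), (0,127,1,127,0),
  (0,2,7,2,0), (0,3,1,43,1), (1,0,0,0,0), (0,131,1,131,0), (4,11,0,0,0), (0,7,1,19,1),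
  (0,2,1,67,1), (0,3,3,5,1), (0,2,3,17,1), (0,137,1,137,0), (1,0,0,0,0), (0,139,1,139,0),
  (3,7,1,0,0), (0,3,1,47,1), (0,2,1,71,1), (0,11,1,13,1), (0,2,4,3,2), (0,5,1,29,1),
  (0,2,1,73,1), (0,3,1,7,2), (0,2,2,37,1), (0,149,1,149,0), (1,0,0,0,0), (0,151,1,151,0),
  (0,2,3,19,1), (0,3,2,17,1), (1,0,0,0,0), (0,5,1,31,1), (3,13,1,0,0), (0,157,1,157,0),
  (0,2,1,79,1), (0,3,1,53,1), (0,2,5,5,1), (0,7,1,23,1), (0,2,1,3,4), (0,163,1,163,0),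
  (0,2,2,41,1), (2,3,0,0,0), (0,2,1,83,1), (0,167,1,167,0), (9,0,0,0,0), (0,13,2,13,0),
  (1,0,0,0,0), (0,3,2,19,1), (0,2,2,43,1), (0,173,1,173,0), (1,0,0,0,0), (0,5,2,7,1),
  (0,2,4,11,1), (0,3,1,59,1), (0,2,1,89,1), (0,179,1,179,0), (5,5,13,0,0), (0,181,1,181,0),
  (1,0,0,0,0), (0,3,1,61,1), (0,2,3,23,1), (0,5,1,37,1), (1,0,0,0,0), (0,11,1,17,1),
  (0,2,2,47,1), (0,3,3,7,1), (1,0,0,0,0), (0,191,1,191,0), (0,2,6,3,1), (0,193,1,193,0),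
  (0,2,1,97,1), (2,3,0,0,0), (0,2,2,7,2), (0,197,1,197,0), (1,0,0,0,0), (0,199,1,199,0),
  (0,2,3,5,2), (0,3,1,67,1), (0,2,1,101,1), (0,7,1,29,1), (3,17,1,0,0), (0,5,1,41,1),
  (0,2,1,103,1), (0,3,2,23,1), (0,2,4,13,1), (0,11,1,19,1), (1,0,0,0,0), (0,211,1,211,0),
  (0,2,2,53,1), (0,3,1,71,1), (0,2,1,107,1), (0,5,1,43,1), (0,2,3,3,3), (0,7,1,31,1),
  (0,2,1,109,1), (0,3,1,73,1), (3,11,1,0,0), (0,13,1,17,1), (1,0,0,0,0), (0,223,1,223,0),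
  (0,2,5,7,1), (0,3,2,5,2), (0,2,1,113,1), (0,227,1,227,0), (3,19,1,0,0), (0,229,1,229,0),
  (1,0,0,0,0), (2,3,0,0,0), (0,2,3,29,1), (0,233,1,233,0), (1,0,0,0,0), (0,5,1,47,1),
  (0,2,2,59,1), (0,3,1,79,1), (1,0,0,0,0), (0,239,1,239,0), (5,5,15,0,0), (0,241,1,241,0),
  (0,2,1,11,2), (0,3,5,3,0), (0,2,2,61,1), (0,5,1,7,2), (1,0,0,0,0), (0,13,1,19,1),
  (0,2,3,31,1), (0,3,1,83,1), (0,2,1,5,3), (0,251,1,251,0), (4,7,0,0,0), (0,11,1,23,1),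
  (0,2,1,127,1), (2,3,0,0,0), (0,2,8,2,0), (0,257,1,257,0), (1,0,0,0,0), (0,7,1,37,1),
  (3,13,1,0,0), (0,3,2,29,1), (0,2,1,131,1), (0,263,1,263,0), (4,11,0,0,0), (0,5,1,53,1),
  (1,0,0,0,0), (0,3,1,89,1), (0,2,2,67,1), (0,269,1,269,0), (1,0,0,0,0), (0,271,1,271,0),
  (0,2,4,17,1), (2,3,0,0,0), (0,2,1,137,1)]

theorem rangeLow0 {G : Type*} [Group G] [Finite G] [IsSimpleGroup G] (hnc : ¬ IsMulCommutative G)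
    (h1 : 2 ≤ Nat.card G) (h2 : Nat.card G < 275) : Nat.card G ∈ ([60, 168] : List ℕ) :=
  of_table (lo := 2) rangeLow0Certs (by decide +kernel) hnc h1 (by rw [show rangeLow0Certs.length = 273 from rfl]; omega)

def rangeLow1Certs : List (ℕ × ℕ × ℕ × ℕ × ℕ) :=
  [(0,5,2,11,1), (3,23,1,0,0), (0,277,1,277,0), (0,2,1,139,1), (0,3,2,31,1), (4,7,0,0,0),
  (0,281,1,281,0), (1,0,0,0,0), (0,283,1,283,0), (0,2,2,71,1), (2,3,0,0,0), (1,0,0,0,0),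
  (0,7,1,41,1), (0,2,5,3,2), (0,17,2,17,0), (1,0,0,0,0), (0,3,1,97,1), (0,2,2,73,1),
  (0,293,1,293,0), (1,0,0,0,0), (0,5,1,59,1), (0,2,3,37,1), (0,3,3,11,1), (0,2,1,149,1),
  (0,13,1,23,1), (3,5,2,0,0), (0,7,1,43,1), (0,2,1,151,1), (0,3,1,101,1), (0,2,4,19,1),
  (0,5,1,61,1), (1,0,0,0,0), (0,307,1,307,0), (3,11,1,0,0), (0,3,1,103,1), (1,0,0,0,0),
  (0,311,1,311,0), (3,13,1,0,0), (0,313,1,313,0), (0,2,1,157,1), (4,7,0,0,0), (0,2,2,79,1),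
  (0,317,1,317,0), (1,0,0,0,0), (0,11,1,29,1), (0,2,6,5,1), (0,3,1,107,1), (1,0,0,0,0),
  (0,17,1,19,1), (0,2,2,3,4), (0,5,2,13,1), (0,2,1,163,1), (0,3,1,109,1), (0,2,3,41,1),
  (0,7,1,47,1), (1,0,0,0,0), (0,331,1,331,0), (0,2,2,83,1), (0,3,2,37,1), (0,2,1,167,1),
  (0,5,1,67,1), (4,7,0,0,0), (0,337,1,337,0), (0,2,1,13,2), (0,3,1,113,1), (3,17,1,0,0),
  (0,11,1,31,1), (1,0,0,0,0), (0,7,3,7,0), (0,2,3,43,1), (2,3,0,0,0), (0,2,1,173,1),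
  (0,347,1,347,0), (3,29,1,0,0), (0,349,1,349,0), (1,0,0,0,0), (0,3,3,13,1), (0,2,5,11,1),
  (0,353,1,353,0), (1,0,0,0,0), (0,5,1,71,1), (0,2,2,89,1), (2,3,0,0,0), (0,2,1,179,1),
  (0,359,1,359,0), (9,0,0,0,0), (0,19,2,19,0), (0,2,1,181,1), (0,3,1,11,2), (3,7,1,0,0),
  (0,5,1,73,1), (1,0,0,0,0), (0,367,1,367,0), (0,2,4,23,1), (0,3,2,41,1), (1,0,0,0,0),
  (0,7,1,53,1), (3,31,1,0,0), (0,373,1,373,0), (1,0,0,0,0), (0,3,1,5,3), (0,2,3,47,1),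
  (0,13,1,29,1), (1,0,0,0,0), (0,379,1,379,0), (4,19,0,0,0), (0,3,1,127,1), (0,2,1,191,1),
  (0,383,1,383,0), (0,2,7,3,1), (2,5,0,0,0), (0,2,1,193,1), (0,3,2,43,1), (0,2,2,97,1),
  (0,389,1,389,0), (1,0,0,0,0), (0,17,1,23,1), (0,2,3,7,2), (0,3,1,131,1), (0,2,1,197,1),
  (0,5,1,79,1), (4,11,0,0,0), (0,397,1,397,0), (0,2,1,199,1), (2,3,0,0,0), (0,2,4,5,2),
  (0,401,1,401,0), (1,0,0,0,0), (0,13,1,31,1), (0,2,2,101,1), (0,3,4,5,1), (1,0,0,0,0),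
  (0,11,1,37,1), (3,17,1,0,0), (0,409,1,409,0), (1,0,0,0,0), (0,3,1,137,1), (0,2,2,103,1),
  (0,7,1,59,1), (1,0,0,0,0), (0,5,1,83,1), (0,2,5,13,1), (0,3,1,139,1), (1,0,0,0,0),
  (0,419,1,419,0), (5,7,20,0,0), (0,421,1,421,0), (0,2,1,211,1), (0,3,2,47,1), (0,2,3,53,1),
  (0,5,2,17,1), (1,0,0,0,0), (0,7,1,61,1), (0,2,2,107,1), (2,3,0,0,0), (1,0,0,0,0),
  (0,431,1,431,0), (0,2,4,3,3), (0,433,1,433,0), (1,0,0,0,0), (2,3,0,0,0), (0,2,2,109,1),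
  (0,19,1,23,1), (1,0,0,0,0), (0,439,1,439,0), (3,11,1,0,0), (0,3,2,7,2), (1,0,0,0,0),
  (0,443,1,443,0), (3,37,1,0,0), (0,5,1,89,1), (0,2,1,223,1), (0,3,1,149,1), (0,2,6,7,1),
  (0,449,1,449,0), (1,0,0,0,0), (0,11,1,41,1), (0,2,2,113,1), (0,3,1,151,1), (0,2,1,227,1),
  (2,5,0,0,0), (3,19,1,0,0), (0,457,1,457,0), (0,2,1,229,1), (0,3,3,17,1), (3,23,1,0,0),
  (0,461,1,461,0), (1,0,0,0,0), (0,463,1,463,0), (0,2,4,29,1), (2,3,0,0,0), (0,2,1,233,1),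
  (0,467,1,467,0), (3,13,1,0,0), (0,7,1,67,1), (1,0,0,0,0), (0,3,1,157,1), (0,2,3,59,1),
  (0,11,1,43,1), (1,0,0,0,0), (0,5,2,19,1), (3,17,1,0,0), (0,3,2,53,1), (0,2,1,239,1),
  (0,479,1,479,0), (5,5,21,0,0), (0,13,1,37,1), (0,2,1,241,1), (2,3,0,0,0), (0,2,2,11,2),
  (0,5,1,97,1), (0,2,1,3,5), (0,487,1,487,0), (0,2,3,61,1), (0,3,1,163,1), (1,0,0,0,0),
  (0,491,1,491,0), (3,41,1,0,0), (0,17,1,29,1), (1,0,0,0,0), (4,11,0,0,0), (0,2,4,31,1),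
  (0,7,1,71,1), (1,0,0,0,0), (0,499,1,499,0), (0,2,2,5,3), (0,3,1,167,1), (0,2,1,251,1),
  (0,503,1,503,0), (9,0,0,0,0), (0,5,1,101,1), (1,0,0,0,0), (0,3,1,13,2), (0,2,2,127,1),
  (0,509,1,509,0), (1,0,0,0,0), (0,7,1,73,1), (0,2,9,2,0), (0,3,3,19,1), (0,2,1,257,1),
  (0,5,1,103,1), (3,43,1,0,0), (0,11,1,47,1), (1,0,0,0,0), (0,3,1,173,1), (4,13,0,0,0),
  (0,521,1,521,0), (1,0,0,0,0), (0,523,1,523,0), (0,2,2,131,1), (2,3,0,0,0), (0,2,1,263,1),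
  (0,17,1,31,1), (4,11,0,0,0), (0,23,2,23,0), (1,0,0,0,0), (0,3,2,59,1), (3,19,1,0,0),
  (0,13,1,41,1), (1,0,0,0,0), (0,5,1,107,1), (0,2,3,67,1), (0,3,1,179,1), (0,2,1,269,1),
  (0,7,2,11,1), (5,5,23,0,0), (0,541,1,541,0), (0,2,1,271,1), (0,3,1,181,1), (0,2,5,17,1),
  (0,5,1,109,1), (1,0,0,0,0), (0,547,1,547,0)]

theorem rangeLow1 {G : Type*} [Group G] [Finite G] [IsSimpleGroup G] (hnc : ¬ IsMulCommutative G)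
    (h1 : 275 ≤ Nat.card G) (h2 : Nat.card G < 548) : Nat.card G ∈ ([360, 504] : List ℕ) :=
  of_table (lo := 275) rangeLow1Certs (by decide +kernel) hnc h1 (by rw [show rangeLow1Certs.length = 273 from rfl]; omega)

def rangeLow2Certs : List (ℕ × ℕ × ℕ × ℕ × ℕ) :=
  [(0,2,2,137,1), (0,3,2,61,1), (1,0,0,0,0), (0,19,1,29,1), (4,23,0,0,0), (0,7,1,79,1),
  (0,2,1,277,1), (2,3,0,0,0), (0,2,2,139,1), (0,557,1,557,0), (1,0,0,0,0), (0,13,1,43,1),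
  (5,7,23,0,0), (2,3,0,0,0), (0,2,1,281,1), (0,563,1,563,0), (3,47,1,0,0), (0,5,1,113,1),
  (0,2,1,283,1), (0,3,4,7,1), (0,2,3,71,1), (0,569,1,569,0), (1,0,0,0,0), (0,571,1,571,0),
  (3,13,1,0,0), (0,3,1,191,1), (1,0,0,0,0), (0,5,2,23,1), (0,2,6,3,2), (0,577,1,577,0),
  (0,2,1,17,2), (0,3,1,193,1), (3,29,1,0,0), (0,7,1,83,1), (1,0,0,0,0), (0,11,1,53,1),
  (0,2,3,73,1), (3,13,1,0,0), (0,2,1,293,1), (0,587,1,587,0), (3,7,2,0,0), (0,19,1,31,1),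
  (1,0,0,0,0), (0,3,1,197,1), (0,2,4,37,1), (0,593,1,593,0), (1,0,0,0,0), (2,5,0,0,0),
  (0,2,2,149,1), (0,3,1,199,1), (1,0,0,0,0), (0,599,1,599,0), (3,5,2,0,0), (0,601,1,601,0),
  (1,0,0,0,0), (0,3,2,67,1), (0,2,2,151,1), (0,5,1,11,2), (1,0,0,0,0), (0,607,1,607,0),
  (0,2,5,19,1), (2,3,0,0,0), (1,0,0,0,0), (0,13,1,47,1), (4,17,0,0,0), (0,613,1,613,0),
  (0,2,1,307,1), (2,3,0,0,0), (4,11,0,0,0), (0,617,1,617,0), (1,0,0,0,0), (0,619,1,619,0),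
  (3,31,1,0,0), (0,3,3,23,1), (0,2,1,311,1), (0,7,1,89,1), (3,13,1,0,0), (0,5,4,5,0),
  (0,2,1,313,1), (2,3,0,0,0), (0,2,2,157,1), (0,17,1,37,1), (1,0,0,0,0), (0,631,1,631,0),
  (0,2,3,79,1), (0,3,1,211,1), (0,2,1,317,1), (0,5,1,127,1), (3,53,1,0,0), (0,7,2,13,1),
  (1,0,0,0,0), (0,3,2,71,1), (0,2,7,5,1), (0,641,1,641,0), (1,0,0,0,0), (0,643,1,643,0),
  (3,23,1,0,0), (2,3,0,0,0), (1,0,0,0,0), (0,647,1,647,0), (0,2,3,3,4), (0,11,1,59,1),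
  (1,0,0,0,0), (2,3,0,0,0), (0,2,2,163,1), (0,653,1,653,0), (1,0,0,0,0), (0,5,1,131,1),
  (0,2,4,41,1), (0,3,2,73,1), (1,0,0,0,0), (0,659,1,659,0), (9,0,0,0,0), (0,661,1,661,0),
  (0,2,1,331,1), (2,3,0,0,0), (0,2,3,83,1), (2,5,0,0,0), (1,0,0,0,0), (0,23,1,29,1),
  (0,2,2,167,1), (0,3,1,223,1), (1,0,0,0,0), (0,11,1,61,1), (5,7,25,0,0), (0,673,1,673,0),
  (0,2,1,337,1), (0,3,3,5,2), (0,2,2,13,2), (0,677,1,677,0), (1,0,0,0,0), (0,7,1,97,1),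
  (3,17,1,0,0), (0,3,1,227,1), (1,0,0,0,0), (0,683,1,683,0), (3,19,1,0,0), (0,5,1,137,1),
  (0,2,1,7,3), (0,3,1,229,1), (0,2,4,43,1), (0,13,1,53,1), (1,0,0,0,0), (0,691,1,691,0),
  (0,2,2,173,1), (3,11,1,0,0), (0,2,1,347,1), (0,5,1,139,1), (3,29,1,0,0), (0,17,1,41,1),
  (0,2,1,349,1), (0,3,1,233,1), (3,5,2,0,0), (0,701,1,701,0), (1,0,0,0,0), (0,19,1,37,1),
  (0,2,6,11,1), (2,3,0,0,0), (0,2,1,353,1), (0,7,1,101,1), (3,59,1,0,0), (0,709,1,709,0),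
  (1,0,0,0,0), (0,3,2,79,1), (0,2,3,89,1), (0,23,1,31,1), (1,0,0,0,0), (2,5,0,0,0),
  (0,2,2,179,1), (0,3,1,239,1), (0,2,1,359,1), (0,719,1,719,0), (9,0,0,0,0), (0,7,1,103,1),
  (0,2,1,19,2), (0,3,1,241,1), (0,2,2,181,1), (0,5,2,29,1), (1,0,0,0,0), (0,727,1,727,0),
  (3,7,1,0,0), (0,3,6,3,0), (1,0,0,0,0), (0,17,1,43,1), (3,61,1,0,0), (0,733,1,733,0),
  (0,2,1,367,1), (2,3,0,0,0), (0,2,5,23,1), (0,11,1,67,1), (1,0,0,0,0), (0,739,1,739,0),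
  (3,37,1,0,0), (2,3,0,0,0), (1,0,0,0,0), (0,743,1,743,0), (3,31,1,0,0), (0,5,1,149,1),
  (0,2,1,373,1), (0,3,2,83,1), (3,17,1,0,0), (0,7,1,107,1), (1,0,0,0,0), (0,751,1,751,0),
  (0,2,4,47,1), (0,3,1,251,1), (1,0,0,0,0), (0,5,1,151,1), (5,7,27,0,0), (0,757,1,757,0),
  (0,2,1,379,1), (2,3,0,0,0), (4,19,0,0,0), (0,761,1,761,0), (1,0,0,0,0), (0,7,1,109,1),
  (0,2,2,191,1), (3,17,1,0,0), (0,2,1,383,1), (0,13,1,59,1), (0,2,8,3,1), (0,769,1,769,0),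
  (1,0,0,0,0), (0,3,1,257,1), (0,2,2,193,1), (0,773,1,773,0), (1,0,0,0,0), (0,5,2,31,1),
  (0,2,3,97,1), (2,3,0,0,0), (0,2,1,389,1), (0,19,1,41,1), (3,13,1,0,0), (0,11,1,71,1),
  (1,0,0,0,0), (0,3,3,29,1), (0,2,4,7,2), (0,5,1,157,1), (1,0,0,0,0), (0,787,1,787,0),
  (0,2,2,197,1), (0,3,1,263,1), (1,0,0,0,0), (0,7,1,113,1), (4,11,0,0,0), (0,13,1,61,1),
  (0,2,1,397,1), (2,3,0,0,0), (0,2,2,199,1), (0,797,1,797,0), (1,0,0,0,0), (0,17,1,47,1),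
  (0,2,5,5,2), (0,3,2,89,1), (0,2,1,401,1), (0,11,1,73,1), (3,67,1,0,0), (2,5,0,0,0),
  (1,0,0,0,0), (0,3,1,269,1), (0,2,3,101,1), (0,809,1,809,0), (1,0,0,0,0), (0,811,1,811,0),
  (3,29,1,0,0), (0,3,1,271,1), (1,0,0,0,0), (0,5,1,163,1), (3,17,1,0,0), (0,19,1,43,1),
  (0,2,1,409,1), (3,13,1,0,0), (3,41,1,0,0)]

theorem rangeLow2 {G : Type*} [Group G] [Finite G] [IsSimpleGroup G] (hnc : ¬ IsMulCommutative G)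
    (h1 : 548 ≤ Nat.card G) (h2 : Nat.card G < 821) : Nat.card G ∈ ([660, 720] : List ℕ) :=
  of_table (lo := 548) rangeLow2Certs (by decide +kernel) hnc h1 (by rw [show rangeLow2Certs.length = 273 from rfl]; omega)

def rangeLow3Certs : List (ℕ × ℕ × ℕ × ℕ × ℕ) :=
  [(0,821,1,821,0), (1,0,0,0,0), (0,823,1,823,0), (0,2,3,103,1), (2,3,0,0,0), (1,0,0,0,0),
  (0,827,1,827,0), (3,23,1,0,0), (0,829,1,829,0), (1,0,0,0,0), (0,3,1,277,1), (0,2,6,13,1),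
  (0,7,2,17,1), (1,0,0,0,0), (0,5,1,167,1), (3,19,1,0,0), (0,3,3,31,1), (0,2,1,419,1),
  (0,839,1,839,0), (5,7,28,0,0), (0,29,2,29,0), (0,2,1,421,1), (0,3,1,281,1), (0,2,2,211,1),
  (0,5,1,13,2), (1,0,0,0,0), (0,7,1,11,2), (0,2,4,53,1), (0,3,1,283,1), (1,0,0,0,0),
  (0,23,1,37,1), (3,71,1,0,0), (0,853,1,853,0), (1,0,0,0,0), (3,19,1,0,0), (0,2,3,107,1),
  (0,857,1,857,0), (1,0,0,0,0), (0,859,1,859,0), (3,43,1,0,0), (2,3,0,0,0), (0,2,1,431,1),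
  (0,863,1,863,0), (0,2,5,3,3), (0,5,1,173,1), (0,2,1,433,1), (0,3,1,17,2), (3,31,1,0,0),
  (0,11,1,79,1), (1,0,0,0,0), (0,13,1,67,1), (0,2,3,109,1), (0,3,2,97,1), (1,0,0,0,0),
  (0,5,3,7,1), (3,73,1,0,0), (0,877,1,877,0), (0,2,1,439,1), (0,3,1,293,1), (3,11,1,0,0),
  (0,881,1,881,0), (1,0,0,0,0), (0,883,1,883,0), (3,13,1,0,0), (2,3,0,0,0), (0,2,1,443,1),
  (0,887,1,887,0), (3,37,1,0,0), (0,7,1,127,1), (1,0,0,0,0), (0,3,4,11,1), (0,2,2,223,1),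
  (0,19,1,47,1), (1,0,0,0,0), (0,5,1,179,1), (0,2,7,7,1), (2,3,0,0,0), (0,2,1,449,1),
  (0,29,1,31,1), (9,0,0,0,0), (0,17,1,53,1), (1,0,0,0,0), (2,3,0,0,0), (0,2,3,113,1),
  (0,5,1,181,1), (1,0,0,0,0), (0,907,1,907,0), (0,2,2,227,1), (0,3,2,101,1), (1,0,0,0,0),
  (0,911,1,911,0), (3,19,1,0,0), (0,11,1,83,1), (0,2,1,457,1), (2,3,0,0,0), (0,2,2,229,1),
  (0,7,1,131,1), (1,0,0,0,0), (0,919,1,919,0), (3,23,1,0,0), (0,3,1,307,1), (0,2,1,461,1),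
  (0,13,1,71,1), (4,11,0,0,0), (0,5,2,37,1), (0,2,1,463,1), (0,3,2,103,1), (0,2,5,29,1),
  (0,929,1,929,0), (1,0,0,0,0), (0,7,2,19,1), (0,2,2,233,1), (0,3,1,311,1), (0,2,1,467,1),
  (2,5,0,0,0), (3,13,1,0,0), (0,937,1,937,0), (1,0,0,0,0), (0,3,1,313,1), (3,47,1,0,0),
  (0,941,1,941,0), (1,0,0,0,0), (0,23,1,41,1), (0,2,4,59,1), (3,3,3,0,0), (1,0,0,0,0),
  (0,947,1,947,0), (3,79,1,0,0), (0,13,1,73,1), (1,0,0,0,0), (0,3,1,317,1), (3,17,1,0,0),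
  (0,953,1,953,0), (1,0,0,0,0), (0,5,1,191,1), (0,2,2,239,1), (2,3,0,0,0), (0,2,1,479,1),
  (0,7,1,137,1), (9,0,0,0,0), (0,31,2,31,0), (1,0,0,0,0), (0,3,2,107,1), (0,2,2,241,1),
  (0,5,1,193,1), (1,0,0,0,0), (0,967,1,967,0), (0,2,3,11,2), (2,3,0,0,0), (1,0,0,0,0),
  (0,971,1,971,0), (0,2,2,3,5), (0,7,1,139,1), (0,2,1,487,1), (2,3,0,0,0), (0,2,4,61,1),
  (0,977,1,977,0), (1,0,0,0,0), (0,11,1,89,1), (3,7,2,0,0), (0,3,2,109,1), (0,2,1,491,1),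
  (0,983,1,983,0), (3,41,1,0,0), (0,5,1,197,1), (1,0,0,0,0), (2,3,0,0,0), (3,19,1,0,0),
  (0,23,1,43,1), (1,0,0,0,0), (0,991,1,991,0), (0,2,5,31,1), (0,3,1,331,1), (1,0,0,0,0),
  (0,5,1,199,1), (3,83,1,0,0), (0,997,1,997,0), (0,2,1,499,1), (0,3,3,37,1), (0,2,3,5,3),
  (2,7,0,0,0), (1,0,0,0,0), (0,17,1,59,1), (0,2,2,251,1), (2,3,0,0,0), (0,2,1,503,1),
  (0,19,1,53,1), (5,7,31,0,0), (0,1009,1,1009,0), (1,0,0,0,0), (0,3,1,337,1), (3,23,1,0,0),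
  (0,1013,1,1013,0), (1,0,0,0,0), (2,5,0,0,0), (0,2,3,127,1), (0,3,2,113,1), (0,2,1,509,1),
  (0,1019,1,1019,0), (3,17,1,0,0), (0,1021,1,1021,0), (1,0,0,0,0), (2,3,0,0,0), (0,2,10,2,0),
  (0,5,2,41,1), (1,0,0,0,0), (0,13,1,79,1), (0,2,2,257,1), (0,3,1,7,3), (1,0,0,0,0),
  (0,1031,1,1031,0), (3,43,1,0,0), (0,1033,1,1033,0), (1,0,0,0,0), (3,23,1,0,0), (3,37,1,0,0),
  (0,17,1,61,1), (1,0,0,0,0), (0,1039,1,1039,0), (4,13,0,0,0), (0,3,1,347,1), (0,2,1,521,1),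
  (0,7,1,149,1), (3,29,1,0,0), (2,5,0,0,0), (0,2,1,523,1), (0,3,1,349,1), (0,2,3,131,1),
  (0,1049,1,1049,0), (1,0,0,0,0), (0,1051,1,1051,0), (0,2,2,263,1), (0,3,4,13,1), (1,0,0,0,0),
  (0,5,1,211,1), (4,11,0,0,0), (0,7,1,151,1), (0,2,1,23,2), (0,3,1,353,1), (3,53,1,0,0),
  (0,1061,1,1061,0), (1,0,0,0,0), (0,1063,1,1063,0), (3,19,1,0,0), (2,3,0,0,0), (1,0,0,0,0),
  (0,11,1,97,1), (3,89,1,0,0), (0,1069,1,1069,0), (1,0,0,0,0), (3,17,1,0,0), (0,2,4,67,1),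
  (0,29,1,37,1), (1,0,0,0,0), (0,5,2,43,1), (0,2,2,269,1), (0,3,1,359,1), (1,0,0,0,0),
  (0,13,1,83,1), (5,5,32,0,0), (0,23,1,47,1), (0,2,1,541,1), (0,3,1,19,2), (0,2,2,271,1),
  (2,5,0,0,0), (1,0,0,0,0), (0,1087,1,1087,0), (0,2,6,17,1), (0,3,2,11,2), (1,0,0,0,0),
  (0,1091,1,1091,0), (9,0,0,0,0)]

theorem rangeLow3 {G : Type*} [Group G] [Finite G] [IsSimpleGroup G] (hnc : ¬ IsMulCommutative G)
    (h1 : 821 ≤ Nat.card G) (h2 : Nat.card G < 1093) : Nat.card G ∈ ([900, 960, 1092] : List ℕ) :=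
  of_table (lo := 821) rangeLow3Certs (by decide +kernel) hnc h1 (by rw [show rangeLow3Certs.length = 272 from rfl]; omega)

theorem rangeLow {G : Type*} [Group G] [Finite G] [IsSimpleGroup G] (hnc : ¬ IsMulCommutative G)
    (h1 : 2 ≤ Nat.card G) (h2 : Nat.card G ≤ 1092) : Nat.card G ∈ ([60, 168, 360, 504, 660, 720, 900, 960, 1092] : List ℕ) := by
  by_cases hrangeLow0 : 2 ≤ Nat.card G ∧ Nat.card G < 275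
  · have h := rangeLow0 hnc hrangeLow0.1 hrangeLow0.2
    simp only [List.mem_cons, List.not_mem_nil, or_false] at h ⊢
    omega
  by_cases hrangeLow1 : 275 ≤ Nat.card G ∧ Nat.card G < 548
  · have h := rangeLow1 hnc hrangeLow1.1 hrangeLow1.2
    simp only [List.mem_cons, List.not_mem_nil, or_false] at h ⊢
    omega
  by_cases hrangeLow2 : 548 ≤ Nat.card G ∧ Nat.card G < 821
  · have h := rangeLow2 hnc hrangeLow2.1 hrangeLow2.2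
    simp only [List.mem_cons, List.not_mem_nil, or_false] at h ⊢
    omega
  by_cases hrangeLow3 : 821 ≤ Nat.card G ∧ Nat.card G < 1093
  · have h := rangeLow3 hnc hrangeLow3.1 hrangeLow3.2
    simp only [List.mem_cons, List.not_mem_nil, or_false] at h ⊢
    omega
  exfalso
  omega

end Cfsg.Agent.SmallSimple.Range
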