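import Cfsg.Agent.Lib.SmallSimple.BlockSeven
import Cfsg.Agent.Lib.SmallSimple.BlockRigid

/-!
# Local arguments for order 5040
-/

set_option autoImplicit false

namespace Cfsg.Agent.SmallSimple5040

open Subgroup SmallSimple

variable {G : Type*} [Group G] [Finite G]

/-- Elements of order `p` have conjugate centralizers when the Sylow subgroup has order `p`. -/
theorem card_centralizer_of_order {p : ℕ} [hp : Fact p.Prime] (P : Sylow p G) (hP : Nat.card P = p) {g : G}
    (hg : orderOf g = p) :
    Nat.card (centralizer ({g} : Set G)) = Nat.card (centralizer ((P : Subgroup G) : Set G)) := by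
  have hz : IsPGroup p (zpowers g) := IsPGroup.of_card (n := 1) (by rw [Nat.card_zpowers, hg, pow_one])
  obtain ⟨R, hR⟩ := hz.exists_le_sylow
  have hRc : Nat.card R = p := (Nat.card_congr (Sylow.equiv R P).toEquiv).trans hP
  have hRe : zpowers g = (R : Subgroup G) := eq_of_le_of_card_ge hR (by rw [hRc, Nat.card_zpowers, hg])
  obtain ⟨a, ha⟩ := MulAction.exists_smul_eq G P R
  have h1 : centralizer ({g} : Set G) = centralizer ((R : Subgroup G) : Set G) := by
    refine le_antisymm (fun w hw => mem_centralizer_iff.2 fun y hy => ?_)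
      (centralizer_le (Set.singleton_subset_iff.2 (hR (mem_zpowers g))))
    rw [← hRe] at hy
    obtain ⟨i, rfl⟩ := hy
    exact ((show Commute w g from mem_centralizer_singleton_iff.1 hw).zpow_right i).eq.symm
  have h2 : centralizer ((R : Subgroup G) : Set G) =
      (centralizer ((P : Subgroup G) : Set G)).map (MulAut.conj a).toMonoidHom := by
    ext w
    rw [mem_map_equiv, mem_centralizer_iff, mem_centralizer_iff, MulAut.conj_symm_apply]
    have hmem : ∀ y, y ∈ (R : Subgroup G) ↔ a⁻¹ * y * a ∈ (P : Subgroup G) := fun y => by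
      rw [← ha, Sylow.coe_subgroup_smul, mem_pointwise_smul_iff_inv_smul_mem, MulAut.smul_def]
      simp
    constructor
    · intro h y hy
      have h' := h (a * y * a⁻¹) ((hmem _).2 (by rwa [show a⁻¹ * (a * y * a⁻¹) * a = y by group]))
      calc y * (a⁻¹ * w * a) = a⁻¹ * (a * y * a⁻¹ * w) * a := by group
        _ = a⁻¹ * (w * (a * y * a⁻¹)) * a := by rw [h']
        _ = a⁻¹ * w * a * y := by group
    · intro h y hy
      have h' := h _ ((hmem y).1 hy)
      calc y * w = a * (a⁻¹ * y * a * (a⁻¹ * w * a)) * a⁻¹ := by group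
        _ = a * (a⁻¹ * w * a * (a⁻¹ * y * a)) * a⁻¹ := by rw [h']
        _ = w * y := by group
  rw [h1, h2, card_map_of_injective (MulAut.conj a).injective]

/-- If an element of order `q` centralizes a Sylow `p`-subgroup then conversely `p` divides the order of
the centralizer of a Sylow `q`-subgroup. -/
theorem dvd_centralizer_sylow {p q : ℕ} [hp : Fact p.Prime] [hq : Fact q.Prime] (Q : Sylow q G)
    (hQ : Nat.card Q = q) (P : Sylow p G) (hP : Nat.card P = p)
    (h : q ∣ Nat.card (centralizer ((P : Subgroup G) : Set G))) :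
    p ∣ Nat.card (centralizer ((Q : Subgroup G) : Set G)) := by
  obtain ⟨y, hy⟩ := exists_prime_orderOf_dvd_card' (G := centralizer ((P : Subgroup G) : Set G)) q h
  rw [← card_centralizer_of_order Q hQ (g := (y : G)) (by rw [orderOf_coe, hy])]
  conv_lhs => rw [← hP]
  exact card_dvd_of_le fun a ha => mem_centralizer_singleton_iff.2 (mem_centralizer_iff.1 y.2 a ha)

/-- No element of order three centralizes a Sylow subgroup of order seven. -/
theorem no_three (hN : Nat.card G = 5040) [Fact (Nat.Prime 5)] [Fact (Nat.Prime 7)] (P : Sylow 5 G)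
    (hP : Nat.card P = 5) (hC : Nat.card (centralizer ((P : Subgroup G) : Set G)) = 5 * 2) (Q : Sylow 7 G)
    (hQ : Nat.card Q = 7) {k : ℕ} (hk : Nat.card (normalizer ((Q : Subgroup G) : Set G)) = k)
    (hk9 : ¬ 9 ∣ k) (h3 : 3 ∣ Nat.card (centralizer ((Q : Subgroup G) : Set G))) : False := by
  haveI : Fact (Nat.Prime 3) := ⟨Nat.prime_three⟩
  obtain ⟨y, hy⟩ := exists_prime_orderOf_dvd_card' (G := centralizer ((Q : Subgroup G) : Set G)) 3 h3
  set g : G := (y : G) with hg
  have hgo : orderOf g = 3 := by rw [hg, orderOf_coe, hy]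
  set H := centralizer ({g} : Set G) with hH
  have hQH : (Q : Subgroup G) ≤ H := fun a ha =>
    mem_centralizer_singleton_iff.2 (mem_centralizer_iff.1 y.2 a ha)
  have h5 : ¬ 5 ∣ Nat.card H := fun hd => by
    obtain ⟨w, hw⟩ := exists_prime_orderOf_dvd_card' (G := H) 5 hd
    have hc := card_centralizer_of_order P hP (g := (w : G)) (by rw [orderOf_coe, hw])
    have hgw : g ∈ centralizer ({(w : G)} : Set G) :=
      mem_centralizer_singleton_iff.2 (mem_centralizer_singleton_iff.1 w.2).symm
    have := orderOf_dvd_natCard _ hgw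
    rw [hgo, hc, hC] at this
    norm_num at this
  have h9 : 9 ∣ Nat.card H := by
    have hz : IsPGroup 3 (zpowers g) := IsPGroup.of_card (n := 1) (by rw [Nat.card_zpowers, hgo, pow_one])
    obtain ⟨R, hR⟩ := hz.exists_le_sylow
    have hRc : Nat.card R = 3 ^ 2 :=
      card_sylow_of_eq (k := 2) (m := 560) R (by rw [hN]; norm_num) (by norm_num)
    rw [show (9 : ℕ) = 3 ^ 2 by norm_num, ← hRc]
    refine card_dvd_of_le fun a ha => mem_centralizer_singleton_iff.2 ?_
    have hcomm := IsPGroup.isMulCommutative_of_card_eq_prime_sq hRc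
    exact congrArg Subtype.val (hcomm.is_comm.comm (⟨a, ha⟩ : R) ⟨g, hR (mem_zpowers g)⟩)
  have h := card_sylow_subgroup_mul Q H hQH
  have hmod : Nat.card (Sylow 7 H) % 7 = 1 := card_sylow_modEq_one 7 _
  set j := Nat.card ↥(normalizer ((Q : Subgroup G) : Set G) ⊓ H) with hj
  have hjk : j ∣ k := hk ▸ card_dvd_of_le inf_le_left
  have h21 : 21 ∣ j := by
    have h7 : 7 ∣ j := by
      conv_lhs => rw [← hQ]
      exact card_dvd_of_le (le_inf le_normalizer hQH)
    have h3' : 3 ∣ j := by
      rw [← hgo]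
      exact orderOf_dvd_natCard _ ⟨Subgroup.centralizer_le_normalizer _ y.2, mem_centralizer_singleton_iff.2 rfl⟩
    exact Nat.Coprime.mul_dvd_of_dvd_of_dvd (show Nat.Coprime 3 7 by norm_num) h3' h7
  have hd : Nat.card H ∣ 1008 := by
    have h1 : Nat.card H ∣ 5 * 1008 := by
      rw [show 5 * 1008 = 5040 by norm_num, ← hN]; exact card_subgroup_dvd_card H
    exact (Nat.Coprime.dvd_mul_left ((Nat.Prime.coprime_iff_not_dvd (by norm_num)).2 h5).symm).1 h1
  have hn : Nat.card (Sylow 7 H) ∣ 48 := by
    have h2 : Nat.card (Sylow 7 H) * 21 ∣ 48 * 21 := (mul_dvd_mul_left _ h21).trans (by rw [h]; exact hd)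
    exact Nat.dvd_of_mul_dvd_mul_right (by norm_num) h2
  have key : ∀ n ∈ Nat.divisors 48, n % 7 = 1 → ¬ 3 ∣ n := by decide
  have hn3 := key _ (Nat.mem_divisors.2 ⟨hn, by norm_num⟩) hmod
  rw [← h] at h9
  exact hk9 (((Nat.Coprime.pow_left 2 ((Nat.Prime.coprime_iff_not_dvd Nat.prime_three).2 hn3)).dvd_of_dvd_mul_left
    (by simpa using h9)).trans hjk)

/-- The configuration with a centralizer of order 35. -/
theorem no_centralizer_35 [IsSimpleGroup G] (hnc : ¬ IsMulCommutative G) (hN : Nat.card G = 5040)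
    [Fact (Nat.Prime 5)] [Fact (Nat.Prime 7)] (P : Sylow 5 G)
    (hP : Nat.card P = 5) (hC : Nat.card (centralizer ((P : Subgroup G) : Set G)) = 5 * 7)
    (hNP : Nat.card (normalizer ((P : Subgroup G) : Set G)) = 4 * (5 * 7)) (Q : Sylow 7 G)
    (hQ : Nat.card Q = 7) (hCQ : Nat.card (centralizer ((Q : Subgroup G) : Set G)) = 7 * 10)
    (hNQ : Nat.card (normalizer ((Q : Subgroup G) : Set G)) = 2 * (7 * 10)) : False := by
  classical
  haveI : Fact (Nat.Prime 2) := ⟨Nat.prime_two⟩
  set C7 := centralizer ((Q : Subgroup G) : Set G) with hC7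
  -- a Sylow five-subgroup inside `C(Q)`, normal there
  obtain ⟨R0⟩ : Nonempty (Sylow 5 C7) := inferInstance
  have hR0 : Nat.card R0 = 5 := by
    simpa using card_sylow_of_eq (k := 1) (m := 14) R0 (by rw [hCQ]; norm_num) (by norm_num)
  have hone : Nat.card (Sylow 5 C7) = 1 := by
    have h1 := card_sylow_mul R0
    rw [hCQ] at h1
    have h2 : Nat.card (Sylow 5 C7) ∣ 70 := ⟨_, h1.symm⟩
    have h3 : Nat.card (Sylow 5 C7) % 5 = 1 := card_sylow_modEq_one 5 _
    have key : ∀ n ∈ Nat.divisors 70, n % 5 = 1 → n = 1 := by decide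
    exact key _ (Nat.mem_divisors.2 ⟨h2, by norm_num⟩) h3
  set R : Subgroup G := (R0 : Subgroup C7).map C7.subtype with hR
  have hRc : Nat.card R = 5 := by rw [hR, card_subtype]; exact hR0
  have hRn : C7 ≤ normalizer (R : Set G) := by
    haveI : Subsingleton (Sylow 5 C7) := (Nat.card_eq_one_iff_unique.1 hone).1
    have hnorm : (R0 : Subgroup C7).Normal := Sylow.normal_of_subsingleton R0
    have h := Subgroup.le_normalizer_map (H := (R0 : Subgroup C7)) C7.subtype
    rw [Subgroup.normalizer_eq_top_iff.2 hnorm, ← MonoidHom.range_eq_map, Subgroup.range_subtype] at h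
    exact h
  obtain ⟨a, ha⟩ := exists_prime_orderOf_dvd_card' (G := R) 5 (by rw [hRc])
  set q : G := (a : G) with hq
  have hqo : orderOf q = 5 := by rw [hq, orderOf_coe, ha]
  have hRq : zpowers q = R := eq_of_le_of_card_ge (zpowers_le.2 a.2) (by rw [hRc, Nat.card_zpowers, hqo])
  have hCq : Nat.card (centralizer ({q} : Set G)) = 35 := by
    rw [card_centralizer_of_order P hP hqo, hC]
  -- an involution centralizing `Q`
  obtain ⟨t0, ht0⟩ := exists_prime_orderOf_dvd_card' (G := C7) 2 (by rw [hCQ]; norm_num)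
  set t : G := (t0 : G) with ht
  have hto : orderOf t = 2 := by rw [ht, orderOf_coe, ht0]
  have hinv : ∀ u ∈ normalizer (R : Set G), orderOf u = 2 → u * q * u = q⁻¹ := by
    intro u hu hu2
    have huu : u * u = 1 := by rw [← pow_two, ← hu2, pow_orderOf_eq_one]
    have hui : u⁻¹ = u := inv_eq_of_mul_eq_one_right huu
    have hmem : u * q * u ∈ R := by
      have := (mem_normalizer_iff.1 hu q).1 a.2
      rwa [hui] at this
    by_contra hne
    have hcomm : ∀ b ∈ R, b * q = q * b := fun b hb => by
      rw [← hRq] at hb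
      obtain ⟨i, rfl⟩ := hb
      exact ((Commute.refl q).zpow_left i).eq
    set w := q * (u * q * u) with hw
    have hwR : w ∈ R := mul_mem a.2 hmem
    have hw1 : w ≠ 1 := fun h => hne (eq_inv_of_mul_eq_one_right h)
    have hwz : zpowers w = R := eq_of_le_of_card_ge (zpowers_le.2 hwR) (by
      have hd := orderOf_dvd_natCard _ hwR
      rw [hRc] at hd
      rw [hRc, Nat.card_zpowers, ((Nat.dvd_prime (by norm_num)).1 hd).resolve_left fun h => hw1 (orderOf_eq_one_iff.1 h)])
    have huw : u * w = w * u := by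
      calc u * w = (u * q * u) * q * u := by rw [hw]; group
        _ = q * (u * q * u) * u := by rw [hcomm _ hmem]
    have huq : u ∈ centralizer ({q} : Set G) := by
      rw [mem_centralizer_singleton_iff]
      have hqw : q ∈ zpowers w := hwz ▸ a.2
      obtain ⟨i, hi⟩ := hqw
      have hi' : w ^ i = q := hi
      rw [← hi']
      exact ((show Commute u w from huw).zpow_right i).eq
    have := orderOf_dvd_natCard _ huq
    rw [hu2, hCq] at this
    norm_num at this
  -- the Sylow two-subgroup of `N(R)` over `t`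
  obtain ⟨RP, hRP⟩ := (IsPGroup.of_card (n := 1) (by rw [hRc, pow_one]) : IsPGroup 5 R).exists_le_sylow
  have hRPc : Nat.card RP = 5 := (Nat.card_congr (Sylow.equiv RP P).toEquiv).trans hP
  have hRe : R = (RP : Subgroup G) := eq_of_le_of_card_ge hRP (by rw [hRPc, hRc])
  have hM : Nat.card (normalizer (R : Set G)) = 140 := by
    have e1 : Nat.card (Sylow 5 G) = (normalizer ((P : Subgroup G) : Set G)).index := Sylow.card_eq_index_normalizer P
    have e2 : Nat.card (Sylow 5 G) = (normalizer ((RP : Subgroup G) : Set G)).index := Sylow.card_eq_index_normalizer RP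
    have i1 := card_mul_index (normalizer ((P : Subgroup G) : Set G))
    have i2 := card_mul_index (normalizer ((RP : Subgroup G) : Set G))
    rw [← e1, hNP, hN] at i1
    rw [← e2, hN] at i2
    rw [hRe]
    have h36 : Nat.card (Sylow 5 G) = 36 := by omega
    rw [h36] at i2
    omega
  set M := normalizer (R : Set G) with hMdef
  have htM : t ∈ M := hRn t0.2
  have hz : IsPGroup 2 (zpowers (⟨t, htM⟩ : M)) :=
    IsPGroup.of_card (n := 1) (by rw [Nat.card_zpowers, orderOf_mk, hto, pow_one])
  obtain ⟨T0, hT0⟩ := hz.exists_le_sylow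
  have hT0c : Nat.card T0 = 2 ^ 2 :=
    card_sylow_of_eq (k := 2) (m := 35) T0 (by rw [hM]; norm_num) (by norm_num)
  set T : Subgroup G := (T0 : Subgroup M).map M.subtype with hT
  have hTc : Nat.card T = 2 ^ 2 := by rw [hT, card_subtype]; exact hT0c
  have hTM : T ≤ M := map_subtype_le _
  have htT : t ∈ T := ⟨⟨t, htM⟩, hT0 (mem_zpowers _), rfl⟩
  haveI := IsPGroup.isMulCommutative_of_card_eq_prime_sq hTc
  have hTcomm : ∀ v ∈ T, v * t = t * v := fun v hv =>
    congrArg Subtype.val ((‹IsMulCommutative T›).is_comm.comm (⟨v, hv⟩ : T) ⟨t, htT⟩)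
  have huniq : ∀ v ∈ T, orderOf v = 2 → v = t := by
    intro v hv hv2
    by_contra hne
    have h1 := hinv v (hTM hv) hv2
    have h2 := hinv t htM hto
    have htt : t * t = 1 := by rw [← pow_two, ← hto, pow_orderOf_eq_one]
    have hvv : v * v = 1 := by rw [← pow_two, ← hv2, pow_orderOf_eq_one]
    have hc : v * t ∈ centralizer ({q} : Set G) := by
      rw [mem_centralizer_singleton_iff]
      calc v * t * q = v * (t * q * t) * t := by
            rw [show v * (t * q * t) * t = v * t * q * (t * t) by group, htt, mul_one]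
        _ = v * q⁻¹ * t := by rw [h2]
        _ = (v * q * v)⁻¹ * v * t := by
            rw [mul_inv_rev, mul_inv_rev, inv_eq_of_mul_eq_one_right hvv,
              show v * (q⁻¹ * v) * v * t = v * q⁻¹ * (v * v) * t by group, hvv, mul_one]
        _ = q * (v * t) := by rw [h1, inv_inv, mul_assoc]
    have hvt1 : v * t ≠ 1 := fun h => hne ((eq_inv_of_mul_eq_one_left h).trans (inv_eq_of_mul_eq_one_right htt))
    have h3 : orderOf (v * t) = 2 := by
      refine orderOf_eq_prime ?_ hvt1
      rw [(show Commute v t from hTcomm v hv).mul_pow, pow_two, pow_two, hvv, htt, mul_one]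
    have := orderOf_dvd_natCard _ hc
    rw [h3, hCq] at this
    norm_num at this
  -- the centralizer of `t`
  set H := centralizer ({t} : Set G) with hH
  have hQH : (Q : Subgroup G) ≤ H := fun b hb =>
    mem_centralizer_singleton_iff.2 (mem_centralizer_iff.1 t0.2 b hb)
  have hTH : T ≤ H := fun v hv => mem_centralizer_singleton_iff.2 (hTcomm v hv)
  have h5 : ¬ 5 ∣ Nat.card H := fun hd => by
    obtain ⟨w, hw⟩ := exists_prime_orderOf_dvd_card' (G := H) 5 hd
    have hc := card_centralizer_of_order P hP (g := (w : G)) (by rw [orderOf_coe, hw])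
    have hgw : t ∈ centralizer ({(w : G)} : Set G) :=
      mem_centralizer_singleton_iff.2 (mem_centralizer_singleton_iff.1 w.2).symm
    have := orderOf_dvd_natCard _ hgw
    rw [hto, hc, hC] at this
    norm_num at this
  have h28 : 28 ∣ Nat.card H := Nat.Coprime.mul_dvd_of_dvd_of_dvd (show Nat.Coprime 4 7 by norm_num)
    (by rw [show (4 : ℕ) = 2 ^ 2 by norm_num, ← hTc]; exact card_dvd_of_le hTH)
    (by conv_lhs => rw [← hQ]
        exact card_dvd_of_le hQH)
  have hH1008 : Nat.card H ∣ 1008 := by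
    have h1 : Nat.card H ∣ 5 * 1008 := by
      rw [show 5 * 1008 = 5040 by norm_num, ← hN]; exact card_subgroup_dvd_card H
    exact (Nat.Coprime.dvd_mul_left ((Nat.Prime.coprime_iff_not_dvd (by norm_num)).2 h5).symm).1 h1
  have hne := centralizer_singleton_ne_top hnc (t := t) (fun h => by rw [h, orderOf_one] at hto; norm_num at hto)
  have hH28 : Nat.card H = 28 := by
    have h := card_sylow_subgroup_mul Q H hQH
    have hmod : Nat.card (Sylow 7 H) % 7 = 1 := card_sylow_modEq_one 7 _
    set j := Nat.card ↥(normalizer ((Q : Subgroup G) : Set G) ⊓ H) with hj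
    have hjN : j ∣ 140 := by
      rw [show (140 : ℕ) = 2 * (7 * 10) by norm_num, ← hNQ]; exact card_dvd_of_le inf_le_left
    have hvM : (Q : Subgroup G) ≤ M := by
      haveI : IsCyclic (Q : Subgroup G) := isCyclic_of_prime_card hQ
      exact (le_centralizer (Q : Subgroup G)).trans hRn
    have hMN : M ≤ normalizer ((Q : Subgroup G) : Set G) := by
      have h1 := card_sylow_subgroup_mul Q M hvM
      have hQn : Nat.card (Sylow 7 M) = 1 := by
        rw [hM] at h1
        have h2 : Nat.card (Sylow 7 M) ∣ 140 := ⟨_, h1.symm⟩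
        have h3 : Nat.card (Sylow 7 M) % 7 = 1 := card_sylow_modEq_one 7 _
        have key : ∀ n ∈ Nat.divisors 140, n % 7 = 1 → n = 1 := by decide
        exact key _ (Nat.mem_divisors.2 ⟨h2, by norm_num⟩) h3
      rw [hQn, one_mul] at h1
      exact (eq_of_le_of_card_ge (inf_le_right : normalizer ((Q : Subgroup G) : Set G) ⊓ M ≤ M) h1.ge).ge.trans inf_le_left
    have hj4 : 28 ∣ j := Nat.Coprime.mul_dvd_of_dvd_of_dvd (show Nat.Coprime 4 7 by norm_num)
      (by rw [show (4 : ℕ) = 2 ^ 2 by norm_num, ← hTc]; exact card_dvd_of_le (le_inf (hTM.trans hMN) hTH))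
      (by conv_lhs => rw [← hQ]
          exact card_dvd_of_le (le_inf le_normalizer hQH))
    have hje : j = 28 := by
      refine Nat.dvd_antisymm ?_ hj4
      have := Nat.dvd_gcd hjN ((card_dvd_of_le (inf_le_right : normalizer ((Q : Subgroup G) : Set G) ⊓ H ≤ H)).trans hH1008)
      simpa using this
    rw [hje] at h
    have hd : Nat.card (Sylow 7 H) ∣ 36 := by
      have h2 : Nat.card (Sylow 7 H) * 28 ∣ 36 * 28 := by rw [h]; exact hH1008
      exact Nat.dvd_of_mul_dvd_mul_right (by norm_num) h2
    have key : ∀ n ∈ Nat.divisors 36, n % 7 = 1 → n = 1 ∨ n = 36 := by decide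
    rcases key _ (Nat.mem_divisors.2 ⟨hd, by norm_num⟩) hmod with e | e
    · rw [e, one_mul] at h; exact h.symm
    · exfalso
      have hidx := card_mul_index H
      rw [← h, e, hN] at hidx
      have hdf := card_dvd_factorial_index hne
      rw [show H.index = 5 by omega, hN] at hdf
      exact absurd hdf (by decide)
  obtain ⟨S, hTS⟩ := (IsPGroup.of_card hTc : IsPGroup 2 T).exists_le_sylow
  have hSc : Nat.card S = 2 ^ 4 :=
    card_sylow_of_eq (k := 4) (m := 315) S (by rw [hN]; norm_num) (by norm_num)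
  haveI : Nontrivial (S : Subgroup G) := Finite.one_lt_card_iff_nontrivial.1 (by rw [hSc]; norm_num)
  haveI := S.2.center_nontrivial
  obtain ⟨w, hw⟩ := exists_prime_orderOf_dvd_card' (G := center (S : Subgroup G)) 2 (by
    obtain ⟨i, hi⟩ := (S.2.to_subgroup (center (S : Subgroup G))).exists_card_eq
    rw [hi]
    refine dvd_pow_self 2 fun h0 => ?_
    rw [h0, pow_zero] at hi
    exact absurd hi (Finite.one_lt_card_iff_nontrivial.2 inferInstance).ne')
  set z : G := ((w : (S : Subgroup G)) : G) with hzdef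
  have hzS : ∀ b ∈ (S : Subgroup G), b * z = z * b := fun b hb =>
    congrArg Subtype.val (mem_center_iff.1 w.2 ⟨b, hb⟩)
  have hzo : orderOf z = 2 := by rw [hzdef, orderOf_coe, orderOf_coe, hw]
  have hSH : (S : Subgroup G) ⊓ H = T := by
    refine (eq_of_le_of_card_ge (le_inf hTS hTH) ?_).symm
    obtain ⟨i, hi⟩ := (S.2.to_le (inf_le_left : (S : Subgroup G) ⊓ H ≤ S)).exists_card_eq
    have hd : 2 ^ i ∣ 2 ^ 2 * 7 := by
      rw [← hi, show 2 ^ 2 * 7 = 28 by norm_num, ← hH28]; exact card_dvd_of_le inf_le_right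
    rw [hi, hTc]
    exact Nat.le_of_dvd (by positivity) ((Nat.Coprime.pow_left i (by norm_num)).dvd_of_dvd_mul_right hd)
  have hzT : z ∈ T := hSH ▸ ⟨(w : (S : Subgroup G)).2,
    mem_centralizer_singleton_iff.2 (hzS t (hTS htT)).symm⟩
  have hzt := huniq z hzT hzo
  have hle : (S : Subgroup G) ≤ H := fun b hb => mem_centralizer_singleton_iff.2 (hzt ▸ hzS b hb)
  have := card_dvd_of_le hle
  rw [hSc, hH28] at this
  norm_num at this

end Cfsg.Agent.SmallSimple5040
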