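import Cfsg.Agent.Lib.SmallSimple.SylowFive

/-!
No finite group has exactly 21 Sylow 5-subgroups: the case of Sylow subgroups of order 5.
-/

set_option autoImplicit false
set_option linter.style.haveILetI false
set_option linter.unusedSectionVars false

namespace Cfsg.Agent.SylowFive

open Subgroup SmallSimple MulAction

universe u

variable {G : Type u} [Group G] [Finite G]

/-- The action of the centraliser of `Z` on the orbits of `Z`. -/
def orbitsHom (Z : Subgroup G) :
    centralizer (Z : Set G) →* Equiv.Perm (orbitRel.Quotient Z (Sylow 5 G)) where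
  toFun c :=
    let f : (d : centralizer (Z : Set G)) → orbitRel.Quotient Z (Sylow 5 G) →
        orbitRel.Quotient Z (Sylow 5 G) := fun d =>
      Quotient.map' ((d : G) • ·) (by
        intro a b hab
        obtain ⟨z, hz⟩ := hab
        refine ⟨z, ?_⟩
        show (z : G) • (d : G) • b = (d : G) • a
        rw [← hz, ← mul_smul, mem_centralizer_iff.1 d.2 z z.2, mul_smul]
        rfl)
    { toFun := f c
      invFun := f c⁻¹
      left_inv := fun q => by
        induction q using Quotient.inductionOn' with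
        | h a => exact congrArg Quotient.mk'' (inv_smul_smul (c : G) a)
      right_inv := fun q => by
        induction q using Quotient.inductionOn' with
        | h a => exact congrArg Quotient.mk'' (smul_inv_smul (c : G) a) }
  map_one' := by
    ext q
    induction q using Quotient.inductionOn' with
    | h a => exact congrArg Quotient.mk'' (one_smul G a)
  map_mul' c d := by
    ext q
    induction q using Quotient.inductionOn' with
    | h a => exact congrArg Quotient.mk'' (mul_smul (c : G) (d : G) a)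

theorem orbitsHom_mk (Z : Subgroup G) (c : centralizer (Z : Set G)) (R : Sylow 5 G) :
    orbitsHom Z c (Quotient.mk'' R) = Quotient.mk'' ((c : G) • R) := rfl

theorem mk_eq_mk {Z : Subgroup G} {R R' : Sylow 5 G} :
    (Quotient.mk'' R : orbitRel.Quotient Z (Sylow 5 G)) = Quotient.mk'' R' ↔
      ∃ z ∈ Z, z • R' = R := by
  rw [Quotient.eq'']
  constructor
  · rintro ⟨⟨z, hz⟩, h⟩; exact ⟨z, hz, h⟩
  · rintro ⟨z, hz, h⟩; exact ⟨⟨z, hz⟩, h⟩

variable (hs : Setup G)
include hs

theorem mem_centralizer_self (P : Sylow 5 G) :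
    (P : Subgroup G) ≤ centralizer ((P : Subgroup G) : Set G) :=
  fun x hx => mem_centralizer_iff.2 fun y hy => comm_of_mem hs P hy hx

theorem pow_prime_of_ker {p : ℕ} (Z : Subgroup G) (hZ : ∀ z ∈ Z, z ^ p = 1)
    {c : centralizer (Z : Set G)} (hc : orbitsHom Z c = 1) : (c : G) ^ p = 1 := by
  refine eq_one_of_fixes hs fun R => ?_
  have h : orbitsHom Z c (Quotient.mk'' R) = Quotient.mk'' R := by rw [hc]; rfl
  rw [orbitsHom_mk, mk_eq_mk] at h
  obtain ⟨z, hz, hzR⟩ := h
  have hpow : ∀ n : ℕ, (c : G) ^ n • R = z ^ n • R := by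
    intro n
    induction n with
    | zero => simp
    | succ n ih =>
      rw [pow_succ' (c : G), mul_smul, ih, ← mul_smul,
        ← mem_centralizer_iff.1 c.2 _ (pow_mem hz n), mul_smul, ← hzR, ← mul_smul, ← pow_succ]
  rw [hpow p, hZ z hz, one_smul]

theorem card_fixed_of_mem {P : Sylow 5 G} {x : G} (hx : x ∈ (P : Subgroup G)) (hx1 : x ≠ 1)
    (R : Sylow 5 G) (hR : x • R = R) : R = P := by
  haveI : IsCyclic (P : Subgroup G) := isCyclic_of_prime_card (card_sylow_five hs P)
  have hz : zpowers x = (P : Subgroup G) := by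
    apply eq_of_le_of_card_ge (zpowers_le.2 hx)
    rw [Nat.card_zpowers, card_sylow_five hs P]
    exact (orderOf_eq_prime (pow_five_of_mem hs P hx) hx1).ge
  refine (eq_of_fixes P R fun d hd => ?_).symm
  rw [← hz] at hd
  obtain ⟨k, rfl⟩ := hd
  exact mem_stabilizer_iff.1 (zpow_mem (mem_stabilizer_iff.2 hR) k)

theorem card_orbits (P : Sylow 5 G) :
    Nat.card (orbitRel.Quotient (P : Subgroup G) (Sylow 5 G)) = 5 := by
  classical
  haveI := Fintype.ofFinite (Sylow 5 G)
  haveI := Fintype.ofFinite (P : Subgroup G)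
  haveI := Fintype.ofFinite (orbitRel.Quotient (P : Subgroup G) (Sylow 5 G))
  have h := sum_card_fixedBy_eq_card_orbits_mul_card_group (P : Subgroup G) (Sylow 5 G)
  rw [← Finset.sum_erase_add _ _ (Finset.mem_univ (1 : (P : Subgroup G)))] at h
  have h1 : ∀ x ∈ (Finset.univ : Finset (P : Subgroup G)).erase 1,
      Fintype.card (fixedBy (Sylow 5 G) x) = 1 := by
    intro x hx
    rw [Fintype.card_eq_one_iff]
    refine ⟨⟨P, smul_eq_of_mem P x.2⟩, fun R => Subtype.ext ?_⟩
    exact card_fixed_of_mem hs x.2 (fun h => (Finset.mem_erase.1 hx).1 (Subtype.ext h)) R.1 R.2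
  rw [Finset.sum_congr rfl h1, Finset.sum_const, Finset.card_erase_of_mem (Finset.mem_univ _),
    Finset.card_univ, ← Nat.card_eq_fintype_card, ← Nat.card_eq_fintype_card,
    ← Nat.card_eq_fintype_card, card_sylow_five hs P] at h
  have h2 : Nat.card (fixedBy (Sylow 5 G) (1 : (P : Subgroup G))) = 21 := by
    rw [← hs.card]
    exact Nat.card_congr (Equiv.subtypeUnivEquiv fun R => one_smul _ R)
  simp only [smul_eq_mul] at h
  show Nat.card (Quotient (orbitRel (P : Subgroup G) (Sylow 5 G))) = 5
  omega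

theorem card_centralizer_dvd (P : Sylow 5 G) :
    Nat.card (centralizer ((P : Subgroup G) : Set G)) ∣ 120 := by
  set C := centralizer ((P : Subgroup G) : Set G) with hC
  let q : orbitRel.Quotient (P : Subgroup G) (Sylow 5 G) := Quotient.mk'' P
  have hrange : (orbitsHom (P : Subgroup G)).range ≤
      stabilizer (Equiv.Perm (orbitRel.Quotient (P : Subgroup G) (Sylow 5 G))) q := by
    rintro _ ⟨c, rfl⟩
    show orbitsHom (P : Subgroup G) c q = q
    rw [orbitsHom_mk]
    exact congrArg Quotient.mk''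
      ((smul_sylow_eq P).2 (SmallSimple.centralizer_le_normalizer _ c.2))
  have hst : Nat.card (stabilizer (Equiv.Perm (orbitRel.Quotient (P : Subgroup G) (Sylow 5 G))) q)
      = 24 := by
    have h := card_mul_index
      (stabilizer (Equiv.Perm (orbitRel.Quotient (P : Subgroup G) (Sylow 5 G))) q)
    rw [index_stabilizer_of_transitive, Nat.card_perm, card_orbits hs P] at h
    rw [show (5 : ℕ).factorial = 24 * 5 by rfl] at h
    exact Nat.eq_of_mul_eq_mul_right (by norm_num) h
  have hker : Nat.card (orbitsHom (P : Subgroup G)).ker ∣ 5 := by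
    have hle : (orbitsHom (P : Subgroup G)).ker ≤ (P : Subgroup G).subgroupOf C := by
      intro c hc
      exact sylow_le_of_mem_normalizer P (SmallSimple.centralizer_le_normalizer _ c.2) 1
        (by rw [pow_one]; exact pow_prime_of_ker hs _ (fun z hz => pow_five_of_mem hs P hz) hc)
    have := card_dvd_of_le hle
    rwa [Nat.card_congr (subgroupOfEquivOfLe (mem_centralizer_self hs P)).toEquiv,
      card_sylow_five hs P] at this
  have hr : Nat.card (orbitsHom (P : Subgroup G)).range ∣ 24 := hst ▸ card_dvd_of_le hrange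
  rw [← card_mul_index (orbitsHom (P : Subgroup G)).ker, index_ker]
  exact Nat.mul_dvd_mul hker hr

theorem normalizer_data (P : Sylow 5 G) :
    ∃ e Q : ℕ, (e = 2 ∨ e = 4) ∧ Q ∣ 24 ∧
      Nat.card (centralizer ((P : Subgroup G) : Set G)) = 5 * Q ∧
      Nat.card (normalizer ((P : Subgroup G) : Set G)) = 5 * Q * e ∧
      Nat.card G = 105 * (Q * e) := by
  haveI := hs.simple
  obtain ⟨e, he, he1, heq⟩ := sylow_relIndex hs.notComm P (card_sylow_five hs P)
  have h5 := card_dvd_of_le (mem_centralizer_self hs P)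
  rw [card_sylow_five hs P] at h5
  obtain ⟨Q, hQ⟩ := h5
  have h120 := card_centralizer_dvd hs P
  rw [hQ, show 120 = 5 * 24 from rfl] at h120
  refine ⟨e, Q, ?_, Nat.dvd_of_mul_dvd_mul_left (by norm_num) h120, hQ, ?_, ?_⟩
  · have key : ∀ e ∈ (4 : ℕ).divisors, e ≠ 1 → e = 2 ∨ e = 4 := by decide
    exact key e (Nat.mem_divisors.2 ⟨he, by norm_num⟩) he1
  · rw [← heq, hQ]; ring
  · rw [← card_sylow_mul P, hs.card, ← heq, hQ]; ring

theorem card_normalizer (R : Sylow 5 G) :
    21 * Nat.card (normalizer ((R : Subgroup G) : Set G)) = Nat.card G := by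
  rw [← hs.card]; exact card_sylow_mul R

theorem eq_one_of_smul_all_sign [Fintype (Sylow 5 G)] [DecidableEq (Sylow 5 G)] {u : G} :
    Equiv.Perm.sign (toPermHom G (Sylow 5 G) u) = 1 := by
  haveI := hs.simple
  let f : G →* ℤˣ := Equiv.Perm.sign.comp (toPermHom G (Sylow 5 G))
  rcases (MonoidHom.normal_ker f).eq_bot_or_eq_top with h | h
  · exfalso
    have hinj : Function.Injective f := (MonoidHom.ker_eq_bot_iff f).1 h
    exact hs.notComm ⟨⟨fun a b => hinj (by rw [map_mul, map_mul, mul_comm])⟩⟩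
  · have : u ∈ f.ker := h ▸ mem_top u
    exact this

theorem involution_fix_mod {u : G} (hu1 : u ≠ 1) (hu2 : u * u = 1) :
    {R : Sylow 5 G | u • R = R}.ncard % 4 = 1 := by
  classical
  haveI := Fintype.ofFinite (Sylow 5 G)
  set σ := toPermHom G (Sylow 5 G) u with hσ
  have hσ1 : σ ≠ 1 := fun h => hu1 (faithful hs (by rw [← hσ, h, map_one]))
  have ho : orderOf σ = 2 := orderOf_eq_prime (by rw [sq, hσ, ← map_mul, hu2, map_one]) hσ1
  obtain ⟨n, hn⟩ := Equiv.Perm.cycleType_prime_order (σ := σ) (by rw [ho]; norm_num)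
  have hsum := σ.sum_cycleType
  rw [hn, ho, Multiset.sum_replicate] at hsum
  have hsign := Equiv.Perm.sign_of_cycleType σ
  rw [hn, ho, Multiset.sum_replicate, Multiset.card_replicate] at hsign
  have hs1 : Equiv.Perm.sign σ = 1 := by
    rw [hσ]; exact eq_one_of_smul_all_sign hs (u := u)
  rw [hs1] at hsign
  have heven : Even ((n + 1) • 2 + (n + 1)) := by
    rcases Nat.even_or_odd ((n + 1) • 2 + (n + 1)) with h | h
    · exact h
    · rw [h.neg_one_pow] at hsign
      exact absurd hsign (by decide)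
  have hfix : {R : Sylow 5 G | u • R = R}.ncard = 21 - σ.support.card := by
    rw [← hs.card, Nat.card_eq_fintype_card, ← Finset.card_compl,
      ← Set.ncard_coe_finset]
    congr 1
    ext R
    simp [hσ]
  rw [hfix]
  have hle : σ.support.card ≤ 21 := by
    rw [← hs.card, Nat.card_eq_fintype_card]; exact Finset.card_le_univ _
  simp only [smul_eq_mul] at hsum heven
  obtain ⟨k, hk⟩ := heven
  omega

theorem involution_fix {P : Sylow 5 G} {u : G} (hu1 : u ≠ 1) (hu2 : u * u = 1)
    (huP : u • P = P) :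
    ({R : Sylow 5 G | u • R = R}.ncard = 1 ∨ {R : Sylow 5 G | u • R = R}.ncard = 5) ∧
    (u ∈ centralizer ((P : Subgroup G) : Set G) →
      {R : Sylow 5 G | u • R = R}.ncard = 1) := by
  set F := {R : Sylow 5 G | u • R = R} with hF
  have h4 := involution_fix_mod hs hu1 hu2
  rw [← hF] at h4
  have h21 : F.ncard ≤ 21 := by rw [← hs.card]; exact Set.ncard_le_card _
  have hcent : u ∈ centralizer ((P : Subgroup G) : Set G) → F.ncard = 1 := by
    intro huc
    have hinv : ∀ x ∈ (P : Subgroup G), ∀ R ∈ F, x • R ∈ F := fun x hx R hR => by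
      show u • x • R = x • R
      rw [← mul_smul, ← mem_centralizer_iff.1 huc x hx, mul_smul, show u • R = R from hR]
    letI : MulAction (P : Subgroup G) F :=
      { smul := fun x R => ⟨(x : G) • R.1, hinv x x.2 R.1 R.2⟩
        one_smul := fun R => Subtype.ext (one_smul G R.1)
        mul_smul := fun x y R => Subtype.ext (mul_smul (x : G) (y : G) R.1) }
    have hmod := (P.2).card_modEq_card_fixedPoints F
    have hone : Nat.card (fixedPoints (P : Subgroup G) F) = 1 := by
      rw [Nat.card_eq_one_iff_exists]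
      refine ⟨⟨⟨P, huP⟩, fun x => Subtype.ext (smul_eq_of_mem P x.2)⟩, fun R => ?_⟩
      exact Subtype.ext (Subtype.ext
        (eq_of_fixes P R.1.1 fun d hd => congrArg Subtype.val (R.2 ⟨d, hd⟩)).symm)
    rw [hone, Nat.card_coe_set_eq] at hmod
    unfold Nat.ModEq at hmod
    have hne21 : F.ncard ≠ 21 := by
      intro h
      apply hu1
      refine eq_one_of_fixes hs fun R => ?_
      have : F = Set.univ := Set.eq_of_subset_of_ncard_le (Set.subset_univ _)
        (by rw [Set.ncard_univ, hs.card, h])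
      exact (this ▸ Set.mem_univ R : R ∈ F)
    omega
  refine ⟨?_, hcent⟩
  by_cases huc : u ∈ centralizer ((P : Subgroup G) : Set G)
  · exact Or.inl (hcent huc)
  -- `u` inverts `P`
  obtain ⟨x, hx, hxu⟩ : ∃ x ∈ (P : Subgroup G), u * x ≠ x * u := by
    by_contra hall
    simp only [not_exists, not_and, not_not] at hall
    exact huc (mem_centralizer_iff.2 fun x hx => (hall x hx).symm)
  have huN := (smul_sylow_eq P).1 huP
  have hinvert : ∀ z ∈ (P : Subgroup G), u * z * u⁻¹ = z⁻¹ := by
    intro z hz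
    haveI : IsCyclic (P : Subgroup G) := isCyclic_of_prime_card (card_sylow_five hs P)
    let f := (P : Subgroup G).normalizerMonoidHom
    let uu : normalizer ((P : Subgroup G) : Set G) := ⟨u, huN⟩
    have huu : uu * uu = 1 := Subtype.ext hu2
    obtain ⟨m, hm⟩ := MonoidHom.map_cyclic (f uu).toMonoidHom
    have hm' : ∀ w : (P : Subgroup G), f uu w = w ^ m := hm
    have hmm : ∀ w : (P : Subgroup G), w ^ (m * m) = w := by
      intro w
      rw [zpow_mul, ← hm', ← hm', ← MulAut.mul_apply, ← map_mul, huu, map_one, MulAut.one_apply]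
    have hx5 : orderOf x = 5 := orderOf_eq_prime (pow_five_of_mem hs P hx) (by
      rintro rfl; simp at hxu)
    have hm5 : (m * m - 1) % 5 = 0 := by
      have h1 : x ^ (m * m - 1) = 1 := by
        rw [zpow_sub, zpow_one]
        exact mul_inv_eq_one.2 (congrArg Subtype.val (hmm ⟨x, hx⟩))
      have := orderOf_dvd_iff_zpow_eq_one.2 h1
      rw [hx5] at this
      exact Int.emod_eq_zero_of_dvd this
    have hcases : m % 5 = 1 ∨ m % 5 = 4 := by
      have h1 : m % 5 = 0 ∨ m % 5 = 1 ∨ m % 5 = 2 ∨ m % 5 = 3 ∨ m % 5 = 4 := by omega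
      rw [Int.sub_emod, Int.mul_emod] at hm5
      rcases h1 with h | h | h | h | h <;> rw [h] at hm5 <;> simp_all
    rcases hcases with h | h
    · exfalso
      apply hxu
      have h1 : u * x * u⁻¹ = x ^ m := congrArg Subtype.val (hm' ⟨x, hx⟩)
      rw [← zpow_mod_orderOf, hx5] at h1
      simp only [Nat.cast_ofNat, h, zpow_one] at h1
      exact mul_inv_eq_iff_eq_mul.1 h1
    · have h1 : u * z * u⁻¹ = z ^ m := congrArg Subtype.val (hm' ⟨z, hz⟩)
      rw [h1]
      have hz5 : z ^ (5 : ℤ) = 1 := by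
        rw [show (5 : ℤ) = ((5 : ℕ) : ℤ) from rfl, zpow_natCast]; exact pow_five_of_mem hs P hz
      rw [show m = 5 * (m / 5 + 1) + -1 by omega, zpow_add, zpow_mul, hz5, one_zpow, one_mul,
        zpow_neg, zpow_one]
  have hle : F.ncard ≤ 5 := by
    refine (Nat.card_coe_set_eq F).symm.le.trans (le_trans ?_ (card_orbits hs P).le)
    refine Nat.card_le_card_of_injective
      (fun R : F => (Quotient.mk'' R.1 : orbitRel.Quotient (P : Subgroup G) (Sylow 5 G))) ?_
    rintro ⟨R, hR⟩ ⟨R', hR'⟩ h
    obtain ⟨z, hz, hzR⟩ := mk_eq_mk.1 h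
    replace hzR : z • R' = R := hzR
    apply Subtype.ext
    show R = R'
    have hR0 : u • R = R := hR
    have hR'0 : u • R' = R' := hR'
    have h2 : z⁻¹ • R' = R := by
      rw [← hinvert z hz, mul_smul, mul_smul, inv_smul_eq_iff.2 hR'0.symm, hzR, hR0]
    by_cases hz1 : z = 1
    · rw [← hzR, hz1, one_smul]
    have hz2 : (z * z) • R' = R' := by
      rw [mul_smul, hzR, ← h2, smul_inv_smul]
    have hzz : z * z ≠ 1 := by
      intro h0
      apply hz1
      have h5 := pow_five_of_mem hs P hz
      rw [show 5 = 2 + 2 + 1 from rfl, pow_succ, pow_add, sq, h0, one_mul, one_mul] at h5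
      exact h5
    rw [← hzR, card_fixed_of_mem hs (mul_mem hz hz) hzz R' hz2, smul_eq_of_mem P hz]
  omega

theorem card_centralizer_seven (R : Sylow 7 G) (hR : Nat.card R = 7)
    (hfree : ∀ y : G, orderOf y = 7 → ∀ S : Sylow 5 G, y • S ≠ S)
    (h2 : ∀ u : G, u ≠ 1 → u * u = 1 → ∃ S : Sylow 5 G, u • S = S) :
    Nat.card (centralizer ((R : Subgroup G) : Set G)) ∣ 21 := by
  classical
  haveI : Fact (Nat.Prime 7) := ⟨by norm_num⟩
  set C := centralizer ((R : Subgroup G) : Set G) with hC
  have hRC : (R : Subgroup G) ≤ C := by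
    haveI : IsCyclic (R : Subgroup G) := isCyclic_of_prime_card hR
    exact le_centralizer _
  have hR7 : ∀ z ∈ (R : Subgroup G), z ^ 7 = 1 := by
    intro z hz
    have : (⟨z, hz⟩ : (R : Subgroup G)) ^ 7 = 1 := by
      have h := pow_card_eq_one' (x := (⟨z, hz⟩ : (R : Subgroup G)))
      rwa [hR] at h
    exact congrArg Subtype.val this
  haveI := Fintype.ofFinite (Sylow 5 G)
  haveI := Fintype.ofFinite (R : Subgroup G)
  haveI := Fintype.ofFinite (orbitRel.Quotient (R : Subgroup G) (Sylow 5 G))
  have hk : Nat.card (orbitRel.Quotient (R : Subgroup G) (Sylow 5 G)) = 3 := by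
    have h := sum_card_fixedBy_eq_card_orbits_mul_card_group (R : Subgroup G) (Sylow 5 G)
    rw [← Finset.sum_erase_add _ _ (Finset.mem_univ (1 : (R : Subgroup G)))] at h
    have h1 : ∀ x ∈ (Finset.univ : Finset (R : Subgroup G)).erase 1,
        Fintype.card (fixedBy (Sylow 5 G) x) = 0 := by
      intro x hx
      rw [Fintype.card_eq_zero_iff]
      refine ⟨fun S => hfree (x : G) ?_ S.1 S.2⟩
      exact orderOf_eq_prime (hR7 x x.2) (fun h => (Finset.mem_erase.1 hx).1 (Subtype.ext h))
    rw [Finset.sum_congr rfl h1, Finset.sum_const_zero, zero_add, ← Nat.card_eq_fintype_card,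
      ← Nat.card_eq_fintype_card, ← Nat.card_eq_fintype_card, hR] at h
    have h3 : Nat.card (fixedBy (Sylow 5 G) (1 : (R : Subgroup G))) = 21 := by
      rw [← hs.card]
      exact Nat.card_congr (Equiv.subtypeUnivEquiv fun S => one_smul _ S)
    show Nat.card (Quotient (orbitRel (R : Subgroup G) (Sylow 5 G))) = 3
    omega
  have hker : Nat.card (orbitsHom (R : Subgroup G)).ker ∣ 7 := by
    have hle : (orbitsHom (R : Subgroup G)).ker ≤ (R : Subgroup G).subgroupOf C := by
      intro c hc
      exact sylow_le_of_mem_normalizer R (SmallSimple.centralizer_le_normalizer _ c.2) 1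
        (by rw [pow_one]; exact pow_prime_of_ker hs _ hR7 hc)
    have := card_dvd_of_le hle
    rwa [Nat.card_congr (subgroupOfEquivOfLe hRC).toEquiv, hR] at this
  have h42 : Nat.card C ∣ 7 * 6 := by
    rw [← card_mul_index (orbitsHom (R : Subgroup G)).ker, index_ker]
    refine Nat.mul_dvd_mul hker ((card_subgroup_dvd_card _).trans ?_)
    rw [Nat.card_perm, hk]; rfl
  have hodd : ¬ 2 ∣ Nat.card C := by
    intro heven
    obtain ⟨⟨u, huC⟩, hu⟩ := exists_prime_orderOf_dvd_card' (G := C) 2 heven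
    replace hu : orderOf u = 2 := (orderOf_coe (⟨u, huC⟩ : C)).trans hu
    have hu1 : u ≠ 1 := fun h => by rw [h, orderOf_one] at hu; omega
    have hu2 : u * u = 1 := by
      have := pow_orderOf_eq_one u; rwa [hu, sq] at this
    obtain ⟨S, hS⟩ := h2 u hu1 hu2
    have hF := (involution_fix hs hu1 hu2 hS).1
    obtain ⟨z, hz, hz1⟩ : ∃ z ∈ (R : Subgroup G), z ≠ 1 := by
      by_contra hall
      simp only [not_exists, not_and, not_not] at hall
      have : (R : Subgroup G) = ⊥ := (eq_bot_iff_forall _).2 hall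
      rw [← card_eq_one, hR] at this
      omega
    have hz7 : orderOf z = 7 := orderOf_eq_prime (hR7 z hz) hz1
    have hinv : ∀ r ∈ (R : Subgroup G), ∀ T ∈ {T : Sylow 5 G | u • T = T},
        r • T ∈ {T : Sylow 5 G | u • T = T} := fun r hr T hT => by
      show u • r • T = r • T
      rw [← mul_smul, ← mem_centralizer_iff.1 huC r hr, mul_smul, show u • T = T from hT]
    letI : MulAction (R : Subgroup G) {T : Sylow 5 G | u • T = T} :=
      { smul := fun r T => ⟨(r : G) • T.1, hinv r r.2 T.1 T.2⟩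
        one_smul := fun T => Subtype.ext (one_smul G T.1)
        mul_smul := fun a b T => Subtype.ext (mul_smul (a : G) (b : G) T.1) }
    have hmod := (R.2).card_modEq_card_fixedPoints {T : Sylow 5 G | u • T = T}
    haveI : IsEmpty (fixedPoints (R : Subgroup G) {T : Sylow 5 G | u • T = T}) :=
      ⟨fun T => hfree z hz7 T.1.1 (congrArg Subtype.val (T.2 ⟨z, hz⟩))⟩
    have h0 : Nat.card (fixedPoints (R : Subgroup G) {T : Sylow 5 G | u • T = T}) = 0 :=
      Nat.card_of_isEmpty
    rw [h0, Nat.card_coe_set_eq] at hmod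
    unfold Nat.ModEq at hmod
    omega
  have key : ∀ n ∈ (7 * 6 : ℕ).divisors, ¬ 2 ∣ n → n ∣ 21 := by decide
  exact key _ (Nat.mem_divisors.2 ⟨h42, by norm_num⟩) hodd

theorem order_cases :
    Nat.card G = 210 ∨ Nat.card G = 630 ∨ Nat.card G = 1680 ∨ Nat.card G = 2520 ∨
      Nat.card G = 5040 := by
  haveI := hs.simple
  haveI : Fact (Nat.Prime 7) := ⟨by norm_num⟩
  obtain ⟨P⟩ : Nonempty (Sylow 5 G) := inferInstance
  obtain ⟨e, Q, he, hQ, hC, hN, hG⟩ := normalizer_data hs P
  have hQ0 : Q ≠ 0 := fun h => by rw [h] at hQ; norm_num at hQ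
  obtain ⟨R⟩ : Nonempty (Sylow 7 G) := inferInstance
  have h7 : ¬ 7 ∣ Q * e := by
    have key : ∀ Q ∈ (24 : ℕ).divisors, ¬ 7 ∣ Q * 2 ∧ ¬ 7 ∣ Q * 4 := by decide
    obtain ⟨h2, h4⟩ := key Q (Nat.mem_divisors.2 ⟨hQ, by norm_num⟩)
    rcases he with rfl | rfl <;> assumption
  have hR : Nat.card R = 7 := card_sylow_of_eq (k := 1) (m := 15 * (Q * e)) R (by rw [hG]; ring)
    (fun h => h7 (((Nat.Coprime.dvd_mul_left (by norm_num)).1) h))
  have hfree : ∀ y : G, orderOf y = 7 → ∀ S : Sylow 5 G, y • S ≠ S := by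
    intro y hy S hyS
    have hd := Subgroup.orderOf_dvd_natCard _ ((smul_sylow_eq S).1 hyS)
    have h1 := card_normalizer hs S
    rw [hG] at h1
    have h2 : Nat.card (normalizer ((S : Subgroup G) : Set G)) = 5 * (Q * e) := by omega
    rw [hy, h2] at hd
    exact h7 (((Nat.Coprime.dvd_mul_left (by norm_num)).1) hd)
  -- every involution fixes a point
  have h2fix : ∀ u : G, u ≠ 1 → u * u = 1 → ∃ S : Sylow 5 G, u • S = S := by
    intro u hu1 hu2
    by_contra hall
    simp only [not_exists] at hall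
    have hmod := involution_fix_mod hs hu1 hu2
    have : {R : Sylow 5 G | u • R = R} = ∅ := Set.eq_empty_iff_forall_notMem.2 hall
    rw [this, Set.ncard_empty] at hmod
    omega
  obtain ⟨e7, he7, he71, he7eq⟩ := sylow_relIndex hs.notComm R hR
  obtain ⟨j, hj, hCj⟩ : ∃ j, j ∈ ({1, 3} : Finset ℕ) ∧
      Nat.card (centralizer ((R : Subgroup G) : Set G)) = 7 * j := by
    have h21 := card_centralizer_seven hs R hR hfree h2fix
    haveI : IsCyclic (R : Subgroup G) := isCyclic_of_prime_card hR
    have h7d := card_dvd_of_le (le_centralizer (R : Subgroup G))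
    rw [hR] at h7d
    have key : ∀ n ∈ (21 : ℕ).divisors, 7 ∣ n → n = 7 * 1 ∨ n = 7 * 3 := by decide
    rcases key _ (Nat.mem_divisors.2 ⟨h21, by norm_num⟩) h7d with h | h
    · exact ⟨1, by simp, h⟩
    · exact ⟨3, by simp, h⟩
  have hn7 := card_sylow_mul R
  rw [← he7eq, hCj, hG] at hn7
  have hmul : Nat.card (Sylow 7 G) * (e7 * j) = 15 * (Q * e) := by
    have : 7 * (Nat.card (Sylow 7 G) * (e7 * j)) = 7 * (15 * (Q * e)) := by
      calc 7 * (Nat.card (Sylow 7 G) * (e7 * j)) = Nat.card (Sylow 7 G) * (e7 * (7 * j)) := by ring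
        _ = 105 * (Q * e) := hn7
        _ = 7 * (15 * (Q * e)) := by ring
    omega
  have hmod : Nat.card (Sylow 7 G) % 7 = 1 := card_sylow_modEq_one 7 G
  have key : ∀ Q ∈ (24 : ℕ).divisors, ∀ e ∈ ({2, 4} : Finset ℕ), ∀ a ∈ (6 : ℕ).divisors,
      ∀ j ∈ ({1, 3} : Finset ℕ), a ≠ 1 → 15 * (Q * e) % (a * j) = 0 →
      15 * (Q * e) / (a * j) % 7 = 1 →
      Q * e = 2 ∨ Q * e = 6 ∨ Q * e = 16 ∨ Q * e = 24 ∨ Q * e = 48 := by decide
  have ha0 : 0 < e7 * j := by
    rcases Nat.eq_zero_or_pos (e7 * j) with h | h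
    · rw [h, mul_zero] at hmul
      have : 0 < 15 * (Q * e) := by
        rcases he with rfl | rfl <;> omega
      omega
    · exact h
  have hres := key Q (Nat.mem_divisors.2 ⟨hQ, by norm_num⟩) e
    (by rcases he with rfl | rfl <;> simp) e7 (Nat.mem_divisors.2 ⟨he7, by norm_num⟩) j hj he71
    (by rw [← hmul]; exact Nat.mul_mod_left _ _)
    (by rw [← hmul, Nat.mul_div_cancel _ ha0]; exact hmod)
  omega

theorem not_two_mod_four (h : Nat.card G = 210 ∨ Nat.card G = 630) : False := by
  haveI := hs.simple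
  obtain ⟨S⟩ : Nonempty (Sylow 2 G) := inferInstance
  have hS : Nat.card S = 2 := by
    rcases h with h | h
    · exact card_sylow_of_eq (k := 1) (m := 105) S (by rw [h]; norm_num) (by norm_num)
    · exact card_sylow_of_eq (k := 1) (m := 315) S (by rw [h]; norm_num) (by norm_num)
  obtain ⟨e, he, he1, -⟩ := sylow_relIndex hs.notComm S hS
  exact he1 (Nat.dvd_one.1 he)

theorem not_card_1680 (hG : Nat.card G = 1680) : False := by
  classical
  haveI := hs.simple
  haveI : Fact (Nat.Prime 7) := ⟨by norm_num⟩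
  haveI : Fact (Nat.Prime 3) := ⟨by norm_num⟩
  have hN : ∀ R : Sylow 5 G, Nat.card (normalizer ((R : Subgroup G) : Set G)) = 80 := by
    intro R
    have := card_normalizer hs R
    omega
  have hno : ∀ y : G, (orderOf y = 3 ∨ orderOf y = 7) → ∀ R : Sylow 5 G, y • R ≠ R := by
    intro y hy R hR
    have := Subgroup.orderOf_dvd_natCard _ ((smul_sylow_eq R).1 hR)
    rw [hN R] at this
    rcases hy with hy | hy <;> rw [hy] at this <;> omega
  -- 720 elements of order 7
  have hR7 : ∀ R : Sylow 7 G, Nat.card R = 7 := fun R =>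
    card_sylow_of_eq (k := 1) (m := 240) R (by rw [hG]; norm_num) (by norm_num)
  have h2fix : ∀ u : G, u ≠ 1 → u * u = 1 → ∃ S : Sylow 5 G, u • S = S := by
    intro u hu1 hu2
    by_contra hall
    simp only [not_exists] at hall
    have hmod := involution_fix_mod hs hu1 hu2
    have : {R : Sylow 5 G | u • R = R} = ∅ := Set.eq_empty_iff_forall_notMem.2 hall
    rw [this, Set.ncard_empty] at hmod
    omega
  obtain ⟨R₇⟩ : Nonempty (Sylow 7 G) := inferInstance
  have hn7 : ∀ R : Sylow 7 G, Nat.card (Sylow 7 G) = 120 ∧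
      Nat.card (normalizer ((R : Subgroup G) : Set G)) = 14 := by
    intro R
    obtain ⟨e7, he7, he71, he7eq⟩ := sylow_relIndex hs.notComm R (hR7 R)
    have h21 := card_centralizer_seven hs R (hR7 R) (fun y hy => hno y (Or.inr hy)) h2fix
    haveI : IsCyclic (R : Subgroup G) := isCyclic_of_prime_card (hR7 R)
    have h7d := card_dvd_of_le (le_centralizer (R : Subgroup G))
    rw [hR7 R] at h7d
    have hm := card_sylow_mul R
    rw [← he7eq, hG] at hm
    have hmod : Nat.card (Sylow 7 G) % 7 = 1 := card_sylow_modEq_one 7 G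
    have key : ∀ a ∈ (6 : ℕ).divisors, ∀ c ∈ (21 : ℕ).divisors, a ≠ 1 → 7 ∣ c →
        1680 % (a * c) = 0 → 1680 / (a * c) % 7 = 1 → a * c = 14 := by decide
    have h14 := key e7 (Nat.mem_divisors.2 ⟨he7, by norm_num⟩) _
      (Nat.mem_divisors.2 ⟨h21, by norm_num⟩) he71 h7d
      (by rw [← hm]; exact Nat.mul_mod_left _ _)
      (by
        rw [← hm, Nat.mul_div_cancel _ (by rw [he7eq]; exact Nat.card_pos)]
        exact hmod)
    rw [h14] at hm
    exact ⟨by omega, he7eq ▸ h14⟩
  -- a class of 560 elements of order 3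
  obtain ⟨y, hy⟩ := exists_prime_orderOf_dvd_card' (G := G) 3 (by rw [hG]; norm_num)
  have hy1 : y ≠ 1 := fun h => by rw [h, orderOf_one] at hy; omega
  set Cy := centralizer ({y} : Set G) with hCy
  have hCy3 : Nat.card Cy = 3 := by
    have h3 : 3 ∣ Nat.card Cy := by
      rw [← hy]
      exact Subgroup.orderOf_dvd_natCard _ (mem_centralizer_singleton_iff.2 rfl)
    have h7 : ¬ 7 ∣ Nat.card Cy := by
      intro h
      obtain ⟨⟨z, hz⟩, hzo⟩ := exists_prime_orderOf_dvd_card' (G := Cy) 7 h
      replace hzo : orderOf z = 7 := (orderOf_coe (⟨z, hz⟩ : Cy)).trans hzo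
      have hp : IsPGroup 7 (zpowers z) :=
        IsPGroup.of_card (n := 1) (by rw [Nat.card_zpowers, hzo, pow_one])
      obtain ⟨R, hR⟩ := hp.exists_le_sylow
      have hRe : zpowers z = (R : Subgroup G) :=
        eq_of_le_of_card_ge hR (by rw [Nat.card_zpowers, hzo, hR7 R])
      have hyR : y ∈ centralizer ((R : Subgroup G) : Set G) := by
        rw [← hRe]
        refine mem_centralizer_iff.2 fun w hw => ?_
        obtain ⟨k, rfl⟩ := hw
        exact (Commute.zpow_left (mem_centralizer_singleton_iff.1 hz : Commute z y) k).eq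
      have := Subgroup.orderOf_dvd_natCard _ (SmallSimple.centralizer_le_normalizer _ hyR)
      rw [hy, (hn7 R).2] at this
      omega
    have h5 : ¬ 5 ∣ Nat.card Cy := by
      intro h
      obtain ⟨⟨z, hz⟩, hzo⟩ := exists_prime_orderOf_dvd_card' (G := Cy) 5 h
      replace hzo : orderOf z = 5 := (orderOf_coe (⟨z, hz⟩ : Cy)).trans hzo
      have hp : IsPGroup 5 (zpowers z) :=
        IsPGroup.of_card (n := 1) (by rw [Nat.card_zpowers, hzo, pow_one])
      obtain ⟨R, hR⟩ := hp.exists_le_sylow
      apply hno y (Or.inl hy) R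
      have hz1 : z ≠ 1 := fun h => by rw [h, orderOf_one] at hzo; omega
      apply card_fixed_of_mem hs (hR (mem_zpowers z)) hz1
      rw [← mul_smul, mem_centralizer_singleton_iff.1 hz, mul_smul,
        smul_eq_of_mem R (hR (mem_zpowers z))]
    have h2 : ¬ 2 ∣ Nat.card Cy := by
      intro h
      obtain ⟨⟨u, hu⟩, huo⟩ := exists_prime_orderOf_dvd_card' (G := Cy) 2 h
      replace huo : orderOf u = 2 := (orderOf_coe (⟨u, hu⟩ : Cy)).trans huo
      have hu1 : u ≠ 1 := fun h => by rw [h, orderOf_one] at huo; omega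
      have hu2 : u * u = 1 := by have := pow_orderOf_eq_one u; rwa [huo, sq] at this
      obtain ⟨S, hS⟩ := h2fix u hu1 hu2
      have hF := (involution_fix hs hu1 hu2 hS).1
      have hinv : ∀ c ∈ zpowers y, ∀ T ∈ {T : Sylow 5 G | u • T = T},
          c • T ∈ {T : Sylow 5 G | u • T = T} := by
        rintro _ ⟨k, rfl⟩ T hT
        show u • y ^ k • T = y ^ k • T
        rw [← mul_smul, (Commute.zpow_right (mem_centralizer_singleton_iff.1 hu :
          Commute u y) k).eq, mul_smul, show u • T = T from hT]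
      letI : MulAction (zpowers y) {T : Sylow 5 G | u • T = T} :=
        { smul := fun r T => ⟨(r : G) • T.1, hinv r r.2 T.1 T.2⟩
          one_smul := fun T => Subtype.ext (one_smul G T.1)
          mul_smul := fun a b T => Subtype.ext (mul_smul (a : G) (b : G) T.1) }
      have hmod := (IsPGroup.of_card (p := 3) (n := 1)
        (by rw [Nat.card_zpowers, hy, pow_one] : Nat.card (zpowers y) = 3 ^ 1)
        ).card_modEq_card_fixedPoints {T : Sylow 5 G | u • T = T}
      haveI : IsEmpty (fixedPoints (zpowers y) {T : Sylow 5 G | u • T = T}) :=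
        ⟨fun T => hno y (Or.inl hy) T.1.1 (congrArg Subtype.val (T.2 ⟨y, mem_zpowers y⟩))⟩
      have h0 : Nat.card (fixedPoints (zpowers y) {T : Sylow 5 G | u • T = T}) = 0 :=
        Nat.card_of_isEmpty
      rw [h0, Nat.card_coe_set_eq] at hmod
      unfold Nat.ModEq at hmod
      omega
    have hd : Nat.card Cy ∣ 16 * 3 * 5 * 7 := by
      have := card_subgroup_dvd_card Cy
      rwa [hG] at this
    have hd1 := (Nat.Coprime.dvd_mul_right ((Nat.Prime.coprime_iff_not_dvd (by norm_num : Nat.Prime 7)).2 h7).symm).1 hd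
    have hd2 := (Nat.Coprime.dvd_mul_right ((Nat.Prime.coprime_iff_not_dvd (by norm_num : Nat.Prime 5)).2 h5).symm).1 hd1
    have key : ∀ n ∈ (16 * 3 : ℕ).divisors, ¬ 2 ∣ n → 3 ∣ n → n = 3 := by decide
    exact key _ (Nat.mem_divisors.2 ⟨hd2, by norm_num⟩) h2 h3
  haveI := Fintype.ofFinite (Sylow 5 G)
  set A3 := {g : G | orderOf g = 3}
  set A5 := {g : G | orderOf g = 5}
  set A7 := {g : G | orderOf g = 7}
  set B := {g : G | orderOf g ≠ 1 ∧ orderOf g ≠ 3 ∧ orderOf g ≠ 5 ∧ orderOf g ≠ 7}
  have hA3 : 560 ≤ A3.ncard := by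
    have hsub : orbit (ConjAct G) y ⊆ A3 := by
      rintro _ ⟨g, rfl⟩
      show orderOf (g • y) = 3
      rw [ConjAct.smul_def, ← hy]
      exact (MulAut.conj (ConjAct.ofConjAct g)).orderOf_eq y
    have hle := Set.ncard_le_ncard hsub
    have hi := card_mul_index (stabilizer (ConjAct G) y)
    rw [index_stabilizer, show Nat.card (ConjAct G) = Nat.card G from
      Nat.card_congr ConjAct.ofConjAct.toEquiv, hG] at hi
    have hst : Nat.card (stabilizer (ConjAct G) y) = 3 := by
      rw [ConjAct.stabilizer_eq_centralizer]; exact hCy3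
    rw [hst] at hi
    omega
  have hA5 : 84 ≤ A5.ncard := by
    have e1 : Nat.card (Σ R : Sylow 5 G, {x : (R : Subgroup G) // x ≠ 1}) = 84 := by
      have hone : ∀ R : Sylow 5 G, Nat.card {x : (R : Subgroup G) // x ≠ 1} = 4 := fun R => by
        haveI := Fintype.ofFinite (R : Subgroup G)
        rw [Nat.card_eq_fintype_card, Fintype.card_subtype_compl, Fintype.card_subtype_eq,
          ← Nat.card_eq_fintype_card, card_sylow_five hs R]
      rw [Nat.card_sigma]
      simp only [hone, Finset.sum_const, Finset.card_univ, ← Nat.card_eq_fintype_card, hs.card,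
        smul_eq_mul]
    rw [← e1, ← Nat.card_coe_set_eq]
    refine Nat.card_le_card_of_injective
      (fun a => ⟨(a.2.1 : G), orderOf_eq_prime (pow_five_of_mem hs a.1 a.2.1.2)
        (fun h => a.2.2 (Subtype.ext h))⟩) ?_
    rintro ⟨R, x, hx⟩ ⟨R', x', hx'⟩ h
    have hxx : (x : G) = x' := congrArg Subtype.val h
    have : R' = R := card_fixed_of_mem hs x.2 (fun h0 => hx (Subtype.ext h0)) R'
      (hxx ▸ smul_eq_of_mem R' x'.2)
    subst this
    have : x = x' := Subtype.ext hxx
    subst this
    rfl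
  have hA7 : 720 ≤ A7.ncard := by
    have e1 : Nat.card (Σ R : Sylow 7 G, {x : (R : Subgroup G) // x ≠ 1}) = 720 := by
      haveI := Fintype.ofFinite (Sylow 7 G)
      have hone : ∀ R : Sylow 7 G, Nat.card {x : (R : Subgroup G) // x ≠ 1} = 6 := fun R => by
        haveI := Fintype.ofFinite (R : Subgroup G)
        rw [Nat.card_eq_fintype_card, Fintype.card_subtype_compl, Fintype.card_subtype_eq,
          ← Nat.card_eq_fintype_card, hR7 R]
      rw [Nat.card_sigma]
      simp only [hone, Finset.sum_const, Finset.card_univ, ← Nat.card_eq_fintype_card,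
        (hn7 R₇).1, smul_eq_mul]
    rw [← e1, ← Nat.card_coe_set_eq]
    refine Nat.card_le_card_of_injective
      (fun a => ⟨(a.2.1 : G), orderOf_eq_prime
        (by
          have : a.2.1.1 ^ 7 = (1 : G) := by
            have h := congrArg Subtype.val (pow_card_eq_one' (x := a.2.1))
            rw [hR7 a.1] at h
            push_cast at h
            exact h
          exact this)
        (fun h => a.2.2 (Subtype.ext h))⟩) ?_
    rintro ⟨R, x, hx⟩ ⟨R', x', hx'⟩ h
    have hxx : (x : G) = x' := congrArg Subtype.val h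
    have hx7 : orderOf (x : G) = 7 := orderOf_eq_prime
      (by
        have : x ^ 7 = 1 := by
          have h := pow_card_eq_one' (x := x)
          rwa [hR7 R] at h
        exact congrArg Subtype.val this)
      (fun h0 => hx (Subtype.ext h0))
    have h1 : zpowers (x : G) = R :=
      eq_of_le_of_card_ge (zpowers_le.2 x.2) (by rw [Nat.card_zpowers, hx7, hR7 R])
    have h2 : zpowers (x : G) = R' :=
      eq_of_le_of_card_ge (zpowers_le.2 (hxx ▸ x'.2)) (by rw [Nat.card_zpowers, hx7, hR7 R'])
    have : R = R' := Sylow.ext (h1.symm.trans h2)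
    subst this
    have : x = x' := Subtype.ext hxx
    subst this
    rfl
  have hBle : B.ncard ≤ 315 := by
    have hd1 : Disjoint ({1} ∪ A3 ∪ A5 ∪ A7) B := by
      rw [Set.disjoint_left]
      rintro g (((rfl | h) | h) | h) ⟨b1, b3, b5, b7⟩
      · exact b1 orderOf_one
      · exact b3 h
      · exact b5 h
      · exact b7 h
    have h1 : ({1} ∪ A3 ∪ A5 ∪ A7).ncard = 1 + A3.ncard + A5.ncard + A7.ncard := by
      rw [Set.ncard_union_eq, Set.ncard_union_eq, Set.ncard_union_eq, Set.ncard_singleton]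
      · exact Set.disjoint_left.2 fun g hg h => by
          rw [Set.mem_singleton_iff] at hg
          simp only [A3, hg, Set.mem_setOf_eq, orderOf_one] at h
          omega
      · exact Set.disjoint_left.2 fun g hg h => by
          rcases hg with hg | hg
          · rw [Set.mem_singleton_iff] at hg
            simp only [A5, hg, Set.mem_setOf_eq, orderOf_one] at h
            omega
          · simp only [A3, A5, Set.mem_setOf_eq] at hg h
            omega
      · exact Set.disjoint_left.2 fun g hg h => by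
          rcases hg with (hg | hg) | hg
          · rw [Set.mem_singleton_iff] at hg
            simp only [A7, hg, Set.mem_setOf_eq, orderOf_one] at h
            omega
          · simp only [A3, A7, Set.mem_setOf_eq] at hg h
            omega
          · simp only [A5, A7, Set.mem_setOf_eq] at hg h
            omega
    have h2 := Set.ncard_le_card (({1} ∪ A3 ∪ A5 ∪ A7) ∪ B)
    rw [Set.ncard_union_eq hd1, h1, hG] at h2
    omega
  -- every 2-element fixes every point
  have hT : ∀ P : Sylow 5 G, ∀ t : G, orderOf t = 2 → t • P = P := by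
    intro P t ht
    by_contra htP
    let E : Sylow 5 G → Set G := fun R =>
      {g | g ∈ centralizer ((R : Subgroup G) : Set G) ∧ g ^ 16 ≠ 1 ∧ g ^ 5 ≠ 1}
    have h80 : ∀ (R : Sylow 5 G) (g : G), g ∈ normalizer ((R : Subgroup G) : Set G) →
        g ^ 80 = 1 := fun R g hg => by
      apply orderOf_dvd_iff_pow_eq_one.1
      rw [← hN R]
      exact Subgroup.orderOf_dvd_natCard _ hg
    have h16mem : ∀ R, ∀ g ∈ E R, g ^ 16 ∈ (R : Subgroup G) := by
      intro R g hg
      have hgN := SmallSimple.centralizer_le_normalizer _ hg.1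
      refine sylow_le_of_mem_normalizer R (pow_mem hgN 16) 1 ?_
      rw [pow_one, ← pow_mul]
      exact h80 R g hgN
    have hEcard : ∀ R, 12 ≤ (E R).ncard := by
      intro R
      obtain ⟨e, Q, he, hQ, hC, hNR, -⟩ := normalizer_data hs R
      rw [hN R] at hNR
      obtain ⟨k, hkQ, hk2⟩ : ∃ k, Q = 2 ^ k ∧ 2 ≤ k := by
        rcases he with rfl | rfl
        · exact ⟨3, by omega, by omega⟩
        · exact ⟨2, by omega, le_rfl⟩
      haveI : Fact (Nat.Prime 2) := ⟨by norm_num⟩
      obtain ⟨S⟩ : Nonempty (Sylow 2 (centralizer ((R : Subgroup G) : Set G))) := inferInstance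
      have hS : Nat.card S = 2 ^ k :=
        card_sylow_of_eq (m := 5) S (by rw [hC, hkQ, mul_comm]) (by norm_num)
      have hS16 : ∀ q ∈ (S : Subgroup (centralizer ((R : Subgroup G) : Set G))), q ^ 16 = 1 := by
        intro q hq
        apply orderOf_dvd_iff_pow_eq_one.1
        have := Subgroup.orderOf_dvd_natCard _ hq
        rw [hS] at this
        refine this.trans ?_
        have : k ≤ 4 := by
          have h24 := Nat.le_of_dvd (by norm_num) hQ
          rw [hkQ] at h24
          by_contra hk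
          have : 2 ^ 5 ≤ 2 ^ k := Nat.pow_le_pow_right (by norm_num) (by omega)
          omega
        exact pow_dvd_pow 2 this
      have hcard : Nat.card ({x : (R : Subgroup G) // x ≠ 1} ×
          {q : (S : Subgroup (centralizer ((R : Subgroup G) : Set G))) // q ≠ 1}) =
          4 * (2 ^ k - 1) := by
        rw [Nat.card_prod]
        congr 1
        · haveI := Fintype.ofFinite (R : Subgroup G)
          rw [Nat.card_eq_fintype_card, Fintype.card_subtype_compl, Fintype.card_subtype_eq,
            ← Nat.card_eq_fintype_card, card_sylow_five hs R]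
        · haveI := Fintype.ofFinite
            (S : Subgroup (centralizer ((R : Subgroup G) : Set G)))
          rw [Nat.card_eq_fintype_card, Fintype.card_subtype_compl, Fintype.card_subtype_eq,
            ← Nat.card_eq_fintype_card, hS]
      have h12 : 12 ≤ 4 * (2 ^ k - 1) := by
        have : 2 ^ 2 ≤ 2 ^ k := Nat.pow_le_pow_right (by norm_num) hk2
        omega
      refine h12.trans ?_
      rw [← hcard, ← Nat.card_coe_set_eq]
      have hcm : ∀ (x : (R : Subgroup G))
          (q : centralizer ((R : Subgroup G) : Set G)), Commute (x : G) (q : G) :=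
        fun x q => mem_centralizer_iff.1 q.2 x x.2
      have h16 : ∀ (x : (R : Subgroup G))
          (q : (S : Subgroup (centralizer ((R : Subgroup G) : Set G)))),
          ((x : G) * (q : centralizer ((R : Subgroup G) : Set G))) ^ 16 = (x : G) := by
        intro x q
        rw [(hcm x q.1).mul_pow]
        have hq := congrArg Subtype.val (hS16 q.1 q.2)
        push_cast at hq
        rw [hq, mul_one, show 16 = 5 * 3 + 1 from rfl, pow_succ, pow_mul,
          pow_five_of_mem hs R x.2, one_pow, one_mul]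
      refine Nat.card_le_card_of_injective (fun a => ⟨(a.1.1 : G) * (a.2.1.1 : G), ?_, ?_, ?_⟩) ?_
      · exact mul_mem (mem_centralizer_self hs R a.1.1.2) a.2.1.1.2
      · rw [h16]
        exact fun h => a.1.2 (Subtype.ext h)
      · rw [(hcm a.1.1 a.2.1.1).mul_pow, pow_five_of_mem hs R a.1.1.2, one_mul]
        intro h
        apply a.2.2
        have h16' : (a.2.1.1 : G) ^ 16 = 1 := by
          have := congrArg Subtype.val (hS16 a.2.1.1 a.2.1.2); push_cast at this; exact this
        have : (a.2.1.1 : G) = 1 := by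
          rw [show 16 = 5 * 3 + 1 from rfl, pow_succ, pow_mul, h, one_pow, one_mul] at h16'
          exact h16'
        exact Subtype.ext (Subtype.ext this)
      · intro a b h
        have hv : (a.1.1 : G) * (a.2.1.1 : G) = (b.1.1 : G) * (b.2.1.1 : G) :=
          congrArg Subtype.val h
        have h1 : (a.1.1 : G) = b.1.1 := by rw [← h16 a.1.1 a.2.1, hv, h16]
        rw [h1] at hv
        exact Prod.ext (Subtype.ext (Subtype.ext h1))
          (Subtype.ext (Subtype.ext (Subtype.ext (mul_left_cancel hv))))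
    have hEB : ∀ R, E R ⊆ B := by
      intro R g hg
      refine ⟨fun h => ?_, fun h => ?_, fun h => ?_, fun h => ?_⟩
      · rw [orderOf_eq_one_iff] at h
        exact hg.2.1 (by rw [h, one_pow])
      · exact hno g (Or.inl h) R ((smul_sylow_eq R).2 (SmallSimple.centralizer_le_normalizer _ hg.1))
      · exact hg.2.2 (h ▸ pow_orderOf_eq_one g)
      · exact hno g (Or.inr h) R ((smul_sylow_eq R).2 (SmallSimple.centralizer_le_normalizer _ hg.1))
    let X : Set G := (normalizer ((P : Subgroup G) : Set G) : Set G) \ ((P : Subgroup G) : Set G)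
    have hXB : X ⊆ B := by
      rintro g ⟨hgN, hgP⟩
      refine ⟨fun h => ?_, fun h => ?_, fun h => ?_, fun h => ?_⟩
      · rw [orderOf_eq_one_iff] at h
        exact hgP (h ▸ one_mem _)
      · exact hno g (Or.inl h) P ((smul_sylow_eq P).2 hgN)
      · exact hgP (sylow_le_of_mem_normalizer P hgN 1 (by rw [pow_one, ← h, pow_orderOf_eq_one]))
      · exact hno g (Or.inr h) P ((smul_sylow_eq P).2 hgN)
    have htB : t ∈ B := by
      refine ⟨?_, ?_, ?_, ?_⟩ <;> omega
    have hXc : X.ncard = 75 := by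
      show ((normalizer ((P : Subgroup G) : Set G) : Set G) \ ((P : Subgroup G) : Set G)).ncard = 75
      rw [Set.ncard_diff le_normalizer, ← Nat.card_coe_set_eq, ← Nat.card_coe_set_eq,
        SetLike.coe_sort_coe, SetLike.coe_sort_coe, hN P, card_sylow_five hs P]
    -- disjoint pieces
    let s := (Finset.univ : Finset (Sylow 5 G)).erase P
    have hsc : s.card = 20 := by
      rw [Finset.card_erase_of_mem (Finset.mem_univ _), Finset.card_univ,
        ← Nat.card_eq_fintype_card, hs.card]
    have hdisj : Set.PairwiseDisjoint (s : Set (Sylow 5 G)) E := by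
      intro R _ R' _ hne
      rw [Function.onFun, Set.disjoint_left]
      intro g hg hg'
      exact hne (card_fixed_of_mem hs (h16mem R g hg) hg.2.1 R'
        (smul_eq_of_mem R' (h16mem R' g hg'))).symm
    have hU : 240 ≤ (⋃ R ∈ s, E R).ncard := by
      have h := Set.Finite.ncard_biUnion (t := (s : Set (Sylow 5 G))) (Finset.finite_toSet s)
        (fun R _ => Set.toFinite (E R)) hdisj
      rw [finsum_mem_coe_finset] at h
      have hb : s.card • 12 ≤ ∑ R ∈ s, (E R).ncard :=
        Finset.card_nsmul_le_sum s _ _ fun R _ => hEcard R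
      rw [hsc, smul_eq_mul] at hb
      have he : (⋃ R ∈ (s : Set (Sylow 5 G)), E R) = ⋃ R ∈ s, E R := rfl
      rw [← he, h]
      omega
    have hdX : Disjoint X (⋃ R ∈ s, E R) := by
      rw [Set.disjoint_left]
      rintro g ⟨hgN, -⟩ hgU
      rw [Set.mem_iUnion₂] at hgU
      obtain ⟨R, hRs, hgR⟩ := hgU
      apply (Finset.mem_erase.1 hRs).1
      refine (card_fixed_of_mem hs (h16mem R g hgR) hgR.2.1 P ?_).symm
      exact (smul_sylow_eq P).2 (pow_mem hgN 16)
    have htU : t ∉ X ∪ ⋃ R ∈ s, E R := by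
      rintro (⟨h, -⟩ | h)
      · exact htP ((smul_sylow_eq P).2 h)
      · rw [Set.mem_iUnion₂] at h
        obtain ⟨R, -, hR⟩ := h
        apply hR.2.1
        apply orderOf_dvd_iff_pow_eq_one.1
        rw [ht]; norm_num
    have hsub : insert t (X ∪ ⋃ R ∈ s, E R) ⊆ B :=
      Set.insert_subset htB (Set.union_subset hXB (Set.iUnion₂_subset fun R _ => hEB R))
    have := Set.ncard_le_ncard hsub
    rw [Set.ncard_insert_of_notMem htU, Set.ncard_union_eq hdX, hXc] at this
    omega
  obtain ⟨t, ht⟩ := exists_prime_orderOf_dvd_card' (G := G) 2 (by rw [hG]; norm_num)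
  have : t = 1 := eq_one_of_fixes hs fun R => hT R t ht
  rw [this, orderOf_one] at ht
  omega

theorem not_card_1260_mul {e : ℕ} (he : e = 2 ∨ e = 4) (hG : Nat.card G = 1260 * e) : False := by
  classical
  haveI := hs.simple
  haveI : Fact (Nat.Prime 3) := ⟨by norm_num⟩
  obtain ⟨P⟩ : Nonempty (Sylow 5 G) := inferInstance
  obtain ⟨e', Q, he', hQ, hC, hH, hG'⟩ := normalizer_data hs P
  set H := normalizer ((P : Subgroup G) : Set G) with hHd
  set C := centralizer ((P : Subgroup G) : Set G) with hCd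
  have hCH : C ≤ H := SmallSimple.centralizer_le_normalizer _
  have hQe : Q * e' = 12 * e := by omega
  have h3Q : 3 ∣ Q := by
    rcases he' with rfl | rfl <;> omega
  obtain ⟨⟨y, hyC⟩, hy⟩ := exists_prime_orderOf_dvd_card' (G := C) 3
    (by rw [hC]; exact Dvd.dvd.mul_left h3Q 5)
  replace hy : orderOf y = 3 := (orderOf_coe (⟨y, hyC⟩ : C)).trans hy
  have hy1 : y ≠ 1 := fun h => by rw [h, orderOf_one] at hy; omega
  have hy3 : y ^ 3 = 1 := hy ▸ pow_orderOf_eq_one y
  have hyP : y • P = P := (smul_sylow_eq P).2 (hCH hyC)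
  set Y := zpowers y with hY
  have hYc : Nat.card Y = 3 := by rw [Nat.card_zpowers, hy]
  have hYC : Y ≤ C := zpowers_le.2 hyC
  -- the six fixed points of `y`
  set F := {R : Sylow 5 G | y • R = R} with hF
  obtain ⟨x, hx, hx1⟩ : ∃ x ∈ (P : Subgroup G), x ≠ 1 := by
    by_contra hall
    simp only [not_exists, not_and, not_not] at hall
    exact P.ne_bot_of_dvd_card (five_dvd hs) ((eq_bot_iff_forall _).2 hall)
  have hx5 : orderOf x = 5 := orderOf_eq_prime (pow_five_of_mem hs P hx) hx1
  obtain ⟨c, hcP, hFc⟩ : ∃ c : Sylow 5 G, c ≠ P ∧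
      F = insert P (orbit (P : Subgroup G) c) := by
    haveI := Fintype.ofFinite (orbitRel.Quotient (P : Subgroup G) (Sylow 5 G))
    set σ := orbitsHom (P : Subgroup G) ⟨y, hyC⟩ with hσ
    let q₀ : orbitRel.Quotient (P : Subgroup G) (Sylow 5 G) := Quotient.mk'' P
    have hσq : σ q₀ = q₀ := by
      rw [hσ, orbitsHom_mk]; exact congrArg Quotient.mk'' hyP
    have hσ1 : σ ≠ 1 := by
      intro h
      have h5 : y ^ 5 = 1 :=
        pow_prime_of_ker hs _ (fun z hz => pow_five_of_mem hs P hz) (hσ ▸ h :)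
      have := orderOf_dvd_of_pow_eq_one h5
      rw [hy] at this
      omega
    have hσ3 : orderOf σ = 3 := orderOf_eq_prime
      (by rw [hσ, ← map_pow, ← map_one (orbitsHom (P : Subgroup G))]
          exact congrArg _ (Subtype.ext hy3)) hσ1
    obtain ⟨n, hn⟩ := Equiv.Perm.cycleType_prime_order (σ := σ) (by rw [hσ3]; norm_num)
    have hsum := σ.sum_cycleType
    rw [hn, hσ3, Multiset.sum_replicate, smul_eq_mul] at hsum
    have hle : σ.support.card ≤ 4 := by
      have hsub : σ.support ⊆ Finset.univ.erase q₀ := by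
        intro q hq
        refine Finset.mem_erase.2 ⟨?_, Finset.mem_univ _⟩
        rintro rfl
        exact (Equiv.Perm.mem_support.1 hq) hσq
      have := Finset.card_le_card hsub
      rw [Finset.card_erase_of_mem (Finset.mem_univ _), Finset.card_univ,
        ← Nat.card_eq_fintype_card, card_orbits hs P] at this
      exact this
    have hsupp : σ.support.card = 3 := by omega
    obtain ⟨q₁, hq₁, hq₁u⟩ : ∃ q₁, q₁ ≠ q₀ ∧ ∀ q, σ q = q ↔ (q = q₀ ∨ q = q₁) := by
      have hc : σ.supportᶜ.card = 2 := by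
        rw [Finset.card_compl, ← Nat.card_eq_fintype_card, card_orbits hs P, hsupp]
      obtain ⟨a, b, hab, hset⟩ := Finset.card_eq_two.1 hc
      have hmem : ∀ q, σ q = q ↔ (q = a ∨ q = b) := fun q => by
        rw [← Equiv.Perm.notMem_support, ← Finset.mem_compl, hset]; simp
      rcases (hmem q₀).1 hσq with h | h
      · exact ⟨b, h ▸ hab.symm, fun q => h ▸ hmem q⟩
      · exact ⟨a, h ▸ hab, fun q => by rw [hmem q, h]; exact or_comm⟩
    obtain ⟨c, rfl⟩ := Quotient.mk''_surjective q₁
    have hcne : c ≠ P := fun h => hq₁ (by rw [h])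
    refine ⟨c, hcne, ?_⟩
    have hmove : ∀ z ∈ (P : Subgroup G), ∀ R : Sylow 5 G, y • R = R → y • z • R = z • R :=
      fun z hz R hR => by
        rw [← mul_smul, ← mem_centralizer_iff.1 hyC z hz, mul_smul, hR]
    have hfc : y • c = c := by
      have := (hq₁u (Quotient.mk'' c)).2 (Or.inr rfl)
      rw [hσ, orbitsHom_mk, mk_eq_mk] at this
      obtain ⟨z, hz, hzc⟩ := this
      have hpow : ∀ n : ℕ, y ^ n • c = z ^ n • c := by
        intro n
        induction n with
        | zero => simp
        | succ n ih =>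
          rw [pow_succ' y, mul_smul, ih, ← mul_smul,
            ← mem_centralizer_iff.1 hyC _ (pow_mem hz n), mul_smul, ← hzc, ← mul_smul, ← pow_succ]
      have h3 := hpow 3
      rw [hy3, one_smul] at h3
      by_cases hz1 : z = 1
      · rw [← hzc, hz1, one_smul]
      · exfalso
        have hz3 : z ^ 3 ≠ 1 := fun h => by
          have := orderOf_dvd_of_pow_eq_one h
          rw [orderOf_eq_prime (pow_five_of_mem hs P hz) hz1] at this
          omega
        exact hcne (card_fixed_of_mem hs (pow_mem hz 3) hz3 c h3.symm)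
    ext R
    constructor
    · intro hR
      have : σ (Quotient.mk'' R) = Quotient.mk'' R := by
        rw [hσ, orbitsHom_mk]; exact congrArg Quotient.mk'' hR
      rcases (hq₁u _).1 this with h | h
      · obtain ⟨z, hz, hzR⟩ := mk_eq_mk.1 h
        left
        rw [← hzR, smul_eq_of_mem P hz]
      · obtain ⟨z, hz, hzR⟩ := mk_eq_mk.1 h
        right
        exact ⟨⟨z, hz⟩, hzR⟩
    · rintro (rfl | ⟨z, rfl⟩)
      · exact hyP
      · exact hmove z z.2 c hfc
  have hF6 : F.ncard = 6 := by
    rw [hFc, Set.ncard_insert_of_notMem, ← Nat.card_coe_set_eq, orbit_five hs P c hcP]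
    rintro ⟨z, hz⟩
    exact hcP (smul_left_cancel (z : G) (hz.trans (smul_eq_of_mem P z.2).symm))
  set M := normalizer (Y : Set G) with hM
  have hMfix : ∀ (α : Type u) [MulAction G α], ∀ m ∈ M, ∀ a : α, y • a = a → y • m • a = m • a := by
    intro α _ m hm a ha
    have h : m⁻¹ * y * m ∈ Y := by
      simpa using (mem_normalizer_iff.1 (inv_mem hm) y).1 (mem_zpowers y)
    have hst : Y ≤ stabilizer G a := zpowers_le.2 ha
    have h1 : (m⁻¹ * y * m) • a = a := hst h
    rw [mul_smul, mul_smul, inv_smul_eq_iff] at h1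
    exact h1
  -- `N_C(Y)` has order 15
  have hNC : Nat.card ↥(M ⊓ C) = 15 := by
    have hodd : ¬ 2 ∣ Nat.card ↥(M ⊓ C) := by
      intro h2
      obtain ⟨⟨τ, hτ⟩, hτo⟩ := exists_prime_orderOf_dvd_card' (G := ↥(M ⊓ C)) 2 h2
      replace hτo : orderOf τ = 2 := (orderOf_coe (⟨τ, hτ⟩ : ↥(M ⊓ C))).trans hτo
      have hτ1 : τ ≠ 1 := fun h => by rw [h, orderOf_one] at hτo; omega
      have hτ2 : τ * τ = 1 := by have := pow_orderOf_eq_one τ; rwa [hτo, sq] at this
      have hτP : τ • P = P := (smul_sylow_eq P).2 (hCH hτ.2)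
      have h1 := (involution_fix hs hτ1 hτ2 hτP).2 hτ.2
      have hcF : c ∈ F := by rw [hFc]; exact Or.inr (mem_orbit_self c)
      have hτc : τ • c ∈ F := hMfix _ τ hτ.1 c hcF
      rw [hFc] at hτc
      rcases hτc with h | ⟨⟨z, hz⟩, h⟩
      · exact hcP (smul_left_cancel τ (h.trans hτP.symm))
      · change z • c = τ • c at h
        have hzz : (z * z) • c = c := by
          calc (z * z) • c = z • τ • c := by rw [mul_smul, h]
            _ = (τ * z) • c := by rw [← mul_smul, mem_centralizer_iff.1 hτ.2 z hz]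
            _ = c := by rw [mul_smul, h, ← mul_smul, hτ2, one_smul]
        have hz1 : z = 1 := by
          by_contra hz1
          have hz2 : z * z ≠ 1 := fun h0 => by
            have := orderOf_dvd_of_pow_eq_one (show z ^ 2 = 1 by rw [sq, h0])
            rw [orderOf_eq_prime (pow_five_of_mem hs P hz) hz1] at this
            omega
          exact hcP (card_fixed_of_mem hs (mul_mem hz hz) hz2 c hzz)
        rw [hz1, one_smul] at h
        have h2' : 1 < {R : Sylow 5 G | τ • R = R}.ncard :=
          (Set.one_lt_ncard_iff (Set.toFinite _)).2 ⟨P, c, hτP, h.symm, hcP.symm⟩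
        omega
    have h3 : 3 ∣ Nat.card ↥(M ⊓ C) := by
      rw [← hYc]; exact card_dvd_of_le (le_inf le_normalizer hYC)
    have h5 : 5 ∣ Nat.card ↥(M ⊓ C) := by
      rw [← card_sylow_five hs P]
      refine card_dvd_of_le (le_inf ?_ (mem_centralizer_self hs P))
      intro z hz
      exact SmallSimple.centralizer_le_normalizer _ (mem_centralizer_iff.2 fun w hw => by
        obtain ⟨k, rfl⟩ := hw
        exact (Commute.zpow_left (mem_centralizer_iff.1 hyC z hz).symm k).eq)
    have hd : Nat.card ↥(M ⊓ C) ∣ 120 := (card_dvd_of_le inf_le_right).trans (card_centralizer_dvd hs P)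
    have key : ∀ n ∈ (120 : ℕ).divisors, ¬ 2 ∣ n → 3 ∣ n → 5 ∣ n → n = 15 := by decide
    exact key _ (Nat.mem_divisors.2 ⟨hd, by norm_num⟩) hodd h3 h5
  -- Sylow 3-subgroups of `H`
  have hQ24 : Q ≤ 24 := Nat.le_of_dvd (by norm_num) hQ
  have h9 : ¬ 9 ∣ 5 * Q * e' := by
    have key : ∀ Q ∈ (24 : ℕ).divisors, ¬ 9 ∣ 5 * Q * 2 ∧ ¬ 9 ∣ 5 * Q * 4 := by decide
    obtain ⟨h2, h4⟩ := key Q (Nat.mem_divisors.2 ⟨hQ, by norm_num⟩)
    rcases he' with rfl | rfl <;> assumption
  have hYH : Y ≤ H := hYC.trans hCH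
  have hYidx : ¬ 3 ∣ (Y.subgroupOf H).index := by
    intro h
    apply h9
    have := card_mul_index (Y.subgroupOf H)
    rw [Nat.card_congr (subgroupOfEquivOfLe hYH).toEquiv, hYc, hH] at this
    rw [← this, show 9 = 3 * 3 from rfl]
    exact Nat.mul_dvd_mul_left 3 h
  have hYp : IsPGroup 3 (Y.subgroupOf H) :=
    (IsPGroup.of_card (n := 1) (by rw [hYc, pow_one]) : IsPGroup 3 Y).comap_subtype
  let Y' : Sylow 3 H := hYp.toSylow hYidx
  haveI : (C.subgroupOf H).Normal := by
    rw [hCd, hHd]
    exact normalizerMonoidHom_ker (H := (P : Subgroup G)) ▸ MonoidHom.normal_ker _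
  have hY'C : (Y' : Subgroup H) ≤ C.subgroupOf H := fun h hh => hYC hh
  have hn := card_sylow_of_normal Y' (C.subgroupOf H) hY'C
  have hm1 := card_sylow_subgroup_mul Y' (C.subgroupOf H) hY'C
  have hm2 := card_sylow_mul Y'
  have hN' : normalizer (((Y' : Subgroup H)) : Set H) = M.subgroupOf H :=
    (subgroupOf_normalizer_eq hYH).symm
  rw [hN'] at hm1 hm2
  rw [hn, Nat.card_congr (subgroupOfEquivOfLe hCH).toEquiv, hC,
    show M.subgroupOf H ⊓ C.subgroupOf H = (M ⊓ C).subgroupOf H from rfl,
    Nat.card_congr (subgroupOfEquivOfLe (inf_le_right.trans hCH)).toEquiv, hNC] at hm1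
  rw [hH, ← inf_subgroupOf_right M H,
    Nat.card_congr (subgroupOfEquivOfLe (inf_le_right : M ⊓ H ≤ H)).toEquiv] at hm2
  have hmod : Nat.card (Sylow 3 H) % 3 = 1 := card_sylow_modEq_one 3 H
  have hQ12 : Q = 12 := by
    have key : ∀ Q ∈ (24 : ℕ).divisors, ∀ e ∈ ({2, 4} : Finset ℕ), (Q * e = 24 ∨ Q * e = 48) →
        Q / 3 % 3 = 1 → Q = 12 := by decide
    refine key Q (Nat.mem_divisors.2 ⟨hQ, by norm_num⟩) e'
      (by rcases he' with rfl | rfl <;> simp) (by omega) ?_
    have : Nat.card (Sylow 3 H) = Q / 3 := by omega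
    rw [← this]; exact hmod
  subst hQ12
  have hn4 : Nat.card (Sylow 3 H) = 4 := by omega
  rw [hn4] at hm2
  -- the order of `M`
  have horbM : orbit M P = F := by
    ext R
    constructor
    · rintro ⟨m, rfl⟩
      exact hMfix _ m.1 m.2 P hyP
    · intro hR
      have hcen : ∀ S : Sylow 5 G, y • S = S → (S : Subgroup G) ≤ M := by
        intro S hS z hz
        have hyc := mem_centralizer_of_mem_normalizer (q := 5) (S : Subgroup G)
          (card_sylow_five hs S) ((smul_sylow_eq S).1 hS) (by rw [hy]; norm_num)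
        exact SmallSimple.centralizer_le_normalizer _ (mem_centralizer_iff.2 fun w hw => by
          obtain ⟨k, rfl⟩ := hw
          exact (Commute.zpow_left (mem_centralizer_iff.1 hyc z hz).symm k).eq)
      obtain ⟨m, hm, hmR⟩ := exists_conj_of_sylow_le P R M (hcen P hyP) (hcen R hR)
      exact ⟨⟨m, hm⟩, hmR⟩
  have hMc : Nat.card M = 6 * Nat.card ↥(M ⊓ H) := by
    have h := card_mul_index (stabilizer M P)
    rw [index_stabilizer, horbM, hF6, mul_comm] at h
    rw [← h]
    congr 1
    rw [← Nat.card_congr (subgroupOfEquivOfLe (inf_le_left : M ⊓ H ≤ M)).toEquiv,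
      inf_subgroupOf_left]
    exact Nat.card_congr (Equiv.setCongr (by
      ext m
      exact (smul_sylow_eq P)))
  have hidx : M.index = 14 := by
    have h := card_mul_index M
    rw [hMc, hG'] at h
    have h5 : Nat.card ↥(M ⊓ H) = 15 * e' := by omega
    rw [h5] at h
    rcases he' with rfl | rfl <;> omega
  have hMtop : M ≠ ⊤ := fun h => by rw [h, index_top] at hidx; omega
  -- the action on the cosets of `M`
  set o : G ⧸ M := QuotientGroup.mk 1 with ho
  have hsmulo : ∀ g : G, g • o = QuotientGroup.mk g := fun g => by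
    rw [ho, Quotient.smul_mk, smul_eq_mul, mul_one]
  have hfixo : ∀ m ∈ M, m • o = o := fun m hm => by
    rw [hsmulo, ho, QuotientGroup.eq, mul_one]
    exact inv_mem hm
  have hPM : (P : Subgroup G) ≤ M := fun z hz => by
    have : z ∈ centralizer (Y : Set G) := mem_centralizer_iff.2 fun w hw => by
      obtain ⟨k, rfl⟩ := hw
      exact (Commute.zpow_left (mem_centralizer_iff.1 hyC z hz).symm k).eq
    exact SmallSimple.centralizer_le_normalizer _ this
  set Φ : Set (G ⧸ M) := {a | ∀ z ∈ (P : Subgroup G), z • a = a} with hΦ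
  have hΦorb : Φ = orbit H o := by
    ext a
    constructor
    · intro ha
      obtain ⟨g, rfl⟩ := QuotientGroup.mk_surjective a
      have hle : ((g⁻¹ • P : Sylow 5 G) : Subgroup G) ≤ M := by
        intro w hw
        rw [Sylow.coe_subgroup_smul, mem_pointwise_smul_iff_inv_smul_mem] at hw
        have h := ha _ hw
        rw [← hsmulo g] at h
        simp only [MulAut.smul_def] at h
        rw [← mul_smul] at h
        have h' : (g⁻¹ * ((MulAut.conj g⁻¹)⁻¹ w * g)) • o = o := by
          rw [mul_smul, h, inv_smul_smul]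
        rw [show g⁻¹ * ((MulAut.conj g⁻¹)⁻¹ w * g) = w by simp [mul_assoc]] at h'
        rw [hsmulo, ho, QuotientGroup.eq, mul_one] at h'
        exact (inv_mem_iff).1 h'
      obtain ⟨m, hm, hmP⟩ := exists_conj_of_sylow_le P (g⁻¹ • P) M hPM hle
      refine ⟨⟨g * m, (smul_sylow_eq P).1 (by rw [mul_smul, hmP, smul_inv_smul])⟩, ?_⟩
      show (g * m) • o = _
      rw [mul_smul, hfixo m hm, hsmulo]
    · rintro ⟨⟨h, hh⟩, rfl⟩ z hz
      show z • h • o = h • o
      have hz' : h⁻¹ * z * h ∈ (P : Subgroup G) := (mem_normalizer_iff''.1 hh z).1 hz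
      calc z • h • o = h • (h⁻¹ * z * h) • o := by rw [← mul_smul, ← mul_smul]; group
        _ = h • o := by rw [hfixo _ (hPM hz')]
  have hoΦ : o ∈ Φ := fun z hz => hfixo z (hPM hz)
  have hΦc : Φ.ncard = 4 := by
    rw [hΦorb, ← index_stabilizer]
    have hst : stabilizer H o = M.subgroupOf H := by
      ext h
      rw [mem_stabilizer_iff, mem_subgroupOf]
      show (h : G) • o = o ↔ _
      rw [hsmulo, ho, QuotientGroup.eq, mul_one, inv_mem_iff]
    rw [hst]
    have := card_mul_index (M.subgroupOf H)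
    rw [← inf_subgroupOf_right M H,
      Nat.card_congr (subgroupOfEquivOfLe (inf_le_right : M ⊓ H ≤ H)).toEquiv, hH] at this
    have h5 : Nat.card ↥(M ⊓ H) = 15 * e' := by omega
    rw [h5, inf_subgroupOf_right] at this
    rcases he' with rfl | rfl <;> omega
  set W : Set (G ⧸ M) := {a | y • a ≠ a} with hW
  have hyo : y • o = o := hfixo y (le_normalizer (mem_zpowers y))
  have hWx : ∀ a ∈ W, x • a = a := by
    intro a ha
    by_contra hxa
    have hxy : Commute x y := mem_centralizer_iff.1 hyC x hx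
    have hinj : Function.Injective
        (fun ki : Fin 3 × Fin 5 => (y ^ (ki.1 : ℕ) * x ^ (ki.2 : ℕ)) • a) := by
      have hkey : ∀ k : ℕ, ∀ i : ℕ, (y ^ k * x ^ i) • a = a → k % 3 = 0 ∧ i % 5 = 0 := by
        intro k i h
        have hpow : ∀ n, ((y ^ k * x ^ i) ^ n) • a = a := fun n =>
          mem_stabilizer_iff.1 (pow_mem (mem_stabilizer_iff.2 h) n)
        have h5 := hpow 5
        rw [((hxy.pow_pow i k).symm).mul_pow, ← pow_mul, ← pow_mul, mul_comm i 5,
          pow_mul x, show x ^ 5 = 1 from pow_five_of_mem hs P hx, one_pow, mul_one] at h5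
        have hk : k % 3 = 0 := by
          by_contra hk
          apply ha
          have hk5 : (k * 5) % 3 = 1 ∨ (k * 5) % 3 = 2 := by omega
          rw [← pow_mod_orderOf, hy] at h5
          rcases hk5 with h1 | h1 <;> rw [h1] at h5
          · rwa [pow_one] at h5
          · have h6 : (y ^ 2 * y ^ 2) • a = a := by rw [mul_smul, h5, h5]
            rw [← pow_add, show 2 + 2 = 3 + 1 from rfl, pow_succ, hy3, one_mul] at h6
            exact h6
        refine ⟨hk, ?_⟩
        by_contra hi
        apply hxa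
        have h3 := hpow 3
        rw [((hxy.pow_pow i k).symm).mul_pow, ← pow_mul, ← pow_mul, mul_comm k 3,
          pow_mul y, hy3, one_pow, one_mul] at h3
        obtain ⟨n, hn⟩ : ∃ n, i * 3 * n % 5 = 1 := by
          rcases (show i % 5 = 1 ∨ i % 5 = 2 ∨ i % 5 = 3 ∨ i % 5 = 4 by omega) with h | h | h | h
          · exact ⟨2, by omega⟩
          · exact ⟨1, by omega⟩
          · exact ⟨4, by omega⟩
          · exact ⟨3, by omega⟩
        have h4 : (x ^ (i * 3)) ^ n • a = a :=
          mem_stabilizer_iff.1 (pow_mem (mem_stabilizer_iff.2 h3) n)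
        rwa [← pow_mul, ← pow_mod_orderOf, hx5, hn, pow_one] at h4
      rintro ⟨k, i⟩ ⟨k', i'⟩ h
      have h' : (y ^ (k : ℕ) * x ^ (i : ℕ)) • a = (y ^ (k' : ℕ) * x ^ (i' : ℕ)) • a := h
      have hinv : (y ^ ((3 - (k' : ℕ)) + (k : ℕ)) * x ^ ((5 - (i' : ℕ)) + (i : ℕ))) • a = a := by
        have h1 := congrArg (fun b => (y ^ (3 - (k' : ℕ)) * x ^ (5 - (i' : ℕ))) • b) h'
        simp only [← mul_smul] at h1
        rw [show y ^ (3 - (k' : ℕ)) * x ^ (5 - (i' : ℕ)) * (y ^ (k' : ℕ) * x ^ (i' : ℕ)) = 1 by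
          rw [mul_assoc, ← mul_assoc (x ^ _), (hxy.pow_pow _ _).eq, mul_assoc, ← pow_add,
            ← mul_assoc, ← pow_add, Nat.sub_add_cancel k'.2.le, Nat.sub_add_cancel i'.2.le, hy3,
            ← hx5, pow_orderOf_eq_one, mul_one], one_smul] at h1
        rw [show y ^ (3 - (k' : ℕ)) * x ^ (5 - (i' : ℕ)) * (y ^ (k : ℕ) * x ^ (i : ℕ)) =
            y ^ (3 - (k' : ℕ) + (k : ℕ)) * x ^ (5 - (i' : ℕ) + (i : ℕ)) by
          rw [mul_assoc, ← mul_assoc (x ^ _), (hxy.pow_pow _ _).eq, mul_assoc, ← pow_add,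
            ← mul_assoc, ← pow_add]] at h1
        exact h1
      obtain ⟨h1, h2⟩ := hkey _ _ hinv
      have := k.2; have := k'.2; have := i.2; have := i'.2
      exact Prod.ext (Fin.ext (show (k : ℕ) = k' by omega)) (Fin.ext (show (i : ℕ) = i' by omega))
    have hrange : Set.range (fun ki : Fin 3 × Fin 5 =>
        (y ^ (ki.1 : ℕ) * x ^ (ki.2 : ℕ)) • a) ⊆ ({o}ᶜ : Set (G ⧸ M)) := by
      rintro _ ⟨⟨k, i⟩, rfl⟩ h
      rw [Set.mem_singleton_iff] at h
      have hg : (y ^ (k : ℕ) * x ^ (i : ℕ)) ∈ M :=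
        mul_mem (pow_mem (le_normalizer (mem_zpowers y)) _) (pow_mem (hPM hx) _)
      have : a = o := by
        apply smul_left_cancel (y ^ (k : ℕ) * x ^ (i : ℕ))
        rw [hfixo _ hg]; exact h
      exact ha (this ▸ hyo)
    have hle := Set.ncard_le_ncard hrange
    rw [Set.ncard_range_of_injective hinj, Nat.card_prod, Nat.card_fin, Nat.card_fin,
      Set.ncard_compl, Set.ncard_singleton, ← index_eq_card, hidx] at hle
    omega
  have hxgen : ∀ a, x • a = a → a ∈ Φ := by
    intro a ha z hz
    have hzp : zpowers x = (P : Subgroup G) :=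
      eq_of_le_of_card_ge (zpowers_le.2 hx) (by rw [Nat.card_zpowers, hx5, card_sylow_five hs P])
    rw [← hzp] at hz
    obtain ⟨k, rfl⟩ := hz
    exact mem_stabilizer_iff.1 (zpow_mem (mem_stabilizer_iff.2 ha) k)
  obtain ⟨w, hw⟩ : W.Nonempty := by
    by_contra hemp
    rw [Set.not_nonempty_iff_eq_empty, Set.eq_empty_iff_forall_notMem] at hemp
    exact hy1 (toPermHom_injective hMtop (Equiv.ext fun a => by
      simpa [hW] using hemp a))
  have hWeq : W = Φ \ {o} := by
    refine Set.eq_of_subset_of_ncard_le ?_ ?_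
    · intro a ha
      exact ⟨hxgen a (hWx a ha), fun h => ha (by rw [Set.mem_singleton_iff.1 h]; exact hyo)⟩
    · rw [Set.ncard_diff (Set.singleton_subset_iff.2 hoΦ), hΦc, Set.ncard_singleton]
      have hy_w : y • w ∈ W := fun h => hw (smul_left_cancel y h)
      have hy2w : y • y • w ∈ W := fun h => hy_w (smul_left_cancel y h)
      have hne2 : y • y • w ≠ w := fun h => by
        apply hw
        calc y • w = y • y • y • w := by rw [h]
          _ = w := by rw [← mul_smul, ← mul_smul, show y * y * y = y ^ 3 by rw [pow_succ, pow_two], hy3, one_smul]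
      have : ({w, y • w, y • y • w} : Set (G ⧸ M)).ncard = 3 :=
        Set.ncard_eq_three.2 ⟨w, y • w, y • y • w, fun h => hw h.symm, hne2.symm,
          fun h => hw (smul_left_cancel y h).symm, rfl⟩
      have hle : ({w, y • w, y • y • w} : Set (G ⧸ M)).ncard ≤ W.ncard :=
        Set.ncard_le_ncard (by
          rintro a (rfl | rfl | rfl)
          · exact hw
          · exact hy_w
          · exact hy2w)
      omega
  -- `Φ` is invariant under `H` and `M`, so under `G`
  have hinvH : ∀ h ∈ H, ∀ a ∈ Φ, h • a ∈ Φ := by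
    intro h hh a ha
    rw [hΦorb] at ha ⊢
    obtain ⟨k, rfl⟩ := ha
    exact ⟨⟨h, hh⟩ * k, mul_smul h (k : G) o⟩
  have hinvM : ∀ m ∈ M, ∀ a ∈ Φ, m • a ∈ Φ := by
    intro m hm a ha
    by_cases hao : a = o
    · rw [hao, hfixo m hm]; exact hoΦ
    · have : a ∈ W := hWeq ▸ ⟨ha, hao⟩
      have hm' : m • a ∈ W := fun h => this (by
        have := hMfix (G ⧸ M) m⁻¹ (inv_mem hm) (m • a) h
        rwa [inv_smul_smul] at this)
      rw [hWeq] at hm'
      exact hm'.1
  let S : Subgroup G :=
    { carrier := {g | ∀ a, g • a ∈ Φ ↔ a ∈ Φ}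
      one_mem' := fun a => by rw [one_smul]
      mul_mem' := fun {g h} hg hh a => by rw [mul_smul, hg, hh]
      inv_mem' := fun {g} hg a => by rw [← hg (g⁻¹ • a), smul_inv_smul] }
  have hHS : H ≤ S := fun h hh a => ⟨fun ha => by
    simpa using hinvH h⁻¹ (inv_mem hh) _ ha, hinvH h hh a⟩
  have hMS : M ≤ S := fun m hm a => ⟨fun ha => by
    simpa using hinvM m⁻¹ (inv_mem hm) _ ha, hinvM m hm a⟩
  have hStop : S = ⊤ := by
    rcases (hs.coatom P).le_iff.1 hHS with h | h
    · exact h
    · exfalso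
      have hle : M ≤ H := hMS.trans h.le
      rw [inf_eq_left.2 hle] at hMc
      have := Nat.card_pos (α := M)
      omega
  have : Φ = Set.univ := Set.eq_univ_of_forall fun a => by
    obtain ⟨g, rfl⟩ := QuotientGroup.mk_surjective a
    rw [← hsmulo g]
    exact ((hStop ▸ mem_top g : g ∈ S) o).2 hoΦ
  rw [this, Set.ncard_univ, ← index_eq_card, hidx] at hΦc
  omega

theorem setup_false : False := by
  rcases order_cases hs with h | h | h | h | h
  · exact not_two_mod_four hs (Or.inl h)
  · exact not_two_mod_four hs (Or.inr h)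
  · exact not_card_1680 hs h
  · exact not_card_1260_mul hs (Or.inl rfl) h
  · exact not_card_1260_mul hs (Or.inr rfl) h

omit hs in
/-- No finite group has exactly 21 Sylow 5-subgroups. -/
theorem card_sylow_five_ne : ∀ (n : ℕ) (G : Type u) [Group G] [Finite G], Nat.card G = n →
    Nat.card (Sylow 5 G) ≠ 21 := by
  intro n
  induction n using Nat.strong_induction_on with
  | _ n ih =>
    intro G _ _ hn h
    exact setup_false (setup_of_minimal h fun K _ _ hK => ih _ (hn ▸ hK) K rfl)

end Cfsg.Agent.SylowFive
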