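import Cfsg.Agent.Lib.Blocks.DefectOnePrincipal
import Cfsg.Agent.Lib.Blocks.Knorr
import Cfsg.Agent.Lib.Glauberman.Reduction
import Cfsg.Agent.Lib.SmallSimple.Basic

/-!
# Degrees in the principal block of a simple group
-/

set_option autoImplicit false

namespace Cfsg.Agent.SmallSimple

open Cfsg

universe u

variable {G : Type u} [Group G] [Finite G] [IsSimpleGroup G]

theorem eq_trivIrr_of_charDegree_one
    (hnc : ¬ IsMulCommutative G) {χ : IrrCharacter G} (hd : charDegree (χ : G → ℂ) = 1) :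
    χ = CT.trivIrr G := by
  refine Subtype.ext (funext fun g => ?_)
  have hc : _root_.commutator G = ⊤ := by
    rcases (inferInstance : (_root_.commutator G).Normal).eq_bot_or_eq_top with h1 | h1
    · exact absurd ⟨⟨fun a b => by
        have hm : a * b * a⁻¹ * b⁻¹ ∈ (⊥ : Subgroup G) :=
          h1 ▸ Subgroup.commutator_mem_commutator (Subgroup.mem_top a) (Subgroup.mem_top b)
        calc a * b = (a * b * a⁻¹ * b⁻¹) * (b * a) := by group
          _ = b * a := by rw [Subgroup.mem_bot.mp hm, one_mul]⟩⟩ hnc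
    · exact h1
  have h1 : (χ : G → ℂ) 1 = 1 := by
    rw [CT.deg_eq (CT.isCharacter_of_isIrr χ.2), show CT.deg (χ : G → ℂ) = 1 from hd, Nat.cast_one]
  rw [CT.linear_trivial_on_commutator (CT.isCharacter_of_isIrr χ.2) h1 g (hc ▸ Subgroup.mem_top g),
    h1, CT.trivIrr_apply]

theorem two_le_charDegree (hnc : ¬ IsMulCommutative G) {χ : IrrCharacter G} (hχ : χ ≠ CT.trivIrr G) :
    2 ≤ charDegree (χ : G → ℂ) := by
  have h1 : charDegree (χ : G → ℂ) ≠ 1 := fun h => hχ (eq_trivIrr_of_charDegree_one hnc h)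
  have h0 : charDegree (χ : G → ℂ) ≠ 0 := fun h => by
    haveI := Fintype.ofFinite G
    have hd := Glauberman.deg_dvd_card χ
    rw [show CT.deg (χ : G → ℂ) = 0 from h, zero_dvd_iff] at hd
    exact Nat.card_pos.ne' hd
  omega

theorem charDegree_apply_one (χ : IrrCharacter G) :
    (χ : G → ℂ) 1 = ((charDegree (χ : G → ℂ) : ℤ) : ℂ) := by
  rw [CT.deg_eq (CT.isCharacter_of_isIrr χ.2), Int.cast_natCast]
  rfl

theorem assemble [Fintype G] (hnc : ¬ IsMulCommutative G) {p e t L : ℕ} {S T : Finset (IrrCharacter G)}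
    {σ : IrrCharacter G → ℤ} {θ : IrrCharacter G} {δ : ℤ}
    (hS : S.card = e - 1) (hT : T.card = t) (hθ : θ ∈ T) (hdis : Disjoint S T)
    (htS : CT.trivIrr G ∉ S) (htT : CT.trivIrr G ∉ T)
    (hσ : ∀ χ ∈ S, (σ χ = 1 ∨ σ χ = -1) ∧ σ χ * (charDegree (χ : G → ℂ) : ℤ) ≡ 1 [ZMOD p])
    (hδ : δ = 1 ∨ δ = -1) (hδe : δ * (charDegree (θ : G → ℂ) : ℤ) ≡ e [ZMOD p])
    (hTd : ∀ θ' ∈ T, charDegree (θ' : G → ℂ) = charDegree (θ : G → ℂ))
    (hsum : 1 + ∑ χ ∈ S, σ χ * (charDegree (χ : G → ℂ) : ℤ) = δ * (charDegree (θ : G → ℂ) : ℤ))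
    (hL : ∀ χ ∈ S ∪ T, L ≤ charDegree (χ : G → ℂ)) :
    ∃ (s : Fin (e - 1) → ℤ) (d : ℤ),
      (∀ i, 2 ≤ (s i).natAbs ∧ (s i).natAbs ∣ Nat.card G ∧ s i ≡ 1 [ZMOD p]) ∧
      2 ≤ d.natAbs ∧ d.natAbs ∣ Nat.card G ∧ d ≡ e [ZMOD p] ∧ 1 + ∑ i, s i = d ∧
      1 + ∑ i, s i ^ 2 + (t : ℤ) * d ^ 2 ≤ (Nat.card G : ℤ) ∧
      (∀ i, L ≤ (s i).natAbs) ∧ L ≤ d.natAbs ∧
      (∀ i, ∃ χ : IrrCharacter G, charDegree (χ : G → ℂ) = (s i).natAbs) ∧
      ∃ χ : IrrCharacter G, charDegree (χ : G → ℂ) = d.natAbs := by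
  classical
  let f : Fin (e - 1) ≃ S := ((Finset.equivFin _).trans (finCongr hS)).symm
  have hθt : θ ≠ CT.trivIrr G := fun h => htT (h ▸ hθ)
  have hne : ∀ i, (f i : IrrCharacter G) ≠ CT.trivIrr G := fun i h => htS (h ▸ (f i).2)
  have habs : ∀ (a : ℤ) (n : ℕ), a = 1 ∨ a = -1 → (a * (n : ℤ)).natAbs = n := by
    intro a n ha
    rcases ha with h | h <;> simp [h]
  have hsq : ∀ (a : ℤ) (n : ℤ), a = 1 ∨ a = -1 → (a * n) ^ 2 = n ^ 2 := by
    intro a n ha
    rcases ha with h | h <;> simp [h]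
  refine ⟨fun i => σ (f i) * (charDegree ((f i : IrrCharacter G) : G → ℂ) : ℤ),
    δ * (charDegree (θ : G → ℂ) : ℤ), fun i => ?_, ?_, ?_, hδe, ?_, ?_, fun i => ?_, ?_, fun i => ⟨(f i : IrrCharacter G), (habs _ _ (hσ _ (f i).2).1).symm⟩, θ, (habs _ _ hδ).symm⟩
  · rw [habs _ _ (hσ _ (f i).2).1]
    exact ⟨two_le_charDegree hnc (hne i), Glauberman.deg_dvd_card _, (hσ _ (f i).2).2⟩
  · rw [habs _ _ hδ]; exact two_le_charDegree hnc hθt
  · rw [habs _ _ hδ]; exact Glauberman.deg_dvd_card _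
  · rw [← hsum, ← Finset.sum_coe_sort S, ← f.sum_comp]
  · have htot : ∑ χ : IrrCharacter G, (charDegree (χ : G → ℂ) : ℤ) ^ 2 = (Nat.card G : ℤ) := by
      have h : ∑ χ : IrrCharacter G, (χ : G → ℂ) 1 ^ 2 = (Nat.card G : ℂ) := CT.sum_degree_sq
      simp only [charDegree_apply_one] at h
      exact_mod_cast h
    rw [← htot]
    have htriv : (charDegree ((CT.trivIrr G : IrrCharacter G) : G → ℂ) : ℤ) = 1 := by
      simp [charDegree, CT.trivIrr_apply]
    refine le_trans (le_of_eq ?_) (Finset.sum_le_sum_of_subset_of_nonneg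
      (Finset.subset_univ (insert (CT.trivIrr G) (S ∪ T))) fun χ _ _ => sq_nonneg _)
    rw [Finset.sum_insert (by simp [htS, htT]), Finset.sum_union hdis, htriv, hsq _ _ hδ,
      Finset.sum_congr rfl (fun θ' hθ' => by rw [hTd θ' hθ'] :
        ∀ θ' ∈ T, (charDegree (θ' : G → ℂ) : ℤ) ^ 2 = (charDegree (θ : G → ℂ) : ℤ) ^ 2),
      Finset.sum_const, hT, nsmul_eq_mul, ← Finset.sum_coe_sort S, ← f.sum_comp, one_pow]
    simp only [hsq _ _ (hσ _ (f _).2).1]
    ring
  · rw [habs _ _ (hσ _ (f i).2).1]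
    exact hL _ (Finset.mem_union_left _ (f i).2)
  · rw [habs _ _ hδ]
    exact hL _ (Finset.mem_union_right _ hθ)

/-- The signed degrees of the principal block, with a lower bound when a Sylow subgroup has prime order. -/
theorem signed_degrees_aux
    (hnc : ¬ IsMulCommutative G) {p : ℕ} [hp : Fact p.Prime] (P : Sylow p G)
    (hP : Nat.card P = p) {e : ℕ} (he1 : e ≠ 1)
    (he : e * Nat.card (Subgroup.centralizer ((P : Subgroup G) : Set G)) =
        Nat.card (Subgroup.normalizer ((P : Subgroup G) : Set G)))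
    (L : ℕ) (hL : ∀ (M : Ideal AlgInt) [M.IsPrime], IsPModular p M → ∀ χ ∈ principalBlock M G,
      χ ≠ CT.trivIrr G → L ≤ charDegree (χ : G → ℂ)) :
    ∃ (s : Fin (e - 1) → ℤ) (d : ℤ),
      (∀ i, 2 ≤ (s i).natAbs ∧ (s i).natAbs ∣ Nat.card G ∧ s i ≡ 1 [ZMOD p]) ∧
      2 ≤ d.natAbs ∧ d.natAbs ∣ Nat.card G ∧ d ≡ e [ZMOD p] ∧ 1 + ∑ i, s i = d ∧
      1 + ∑ i, s i ^ 2 + (((p - 1) / e : ℕ) : ℤ) * d ^ 2 ≤ (Nat.card G : ℤ) ∧
      (∀ i, L ≤ (s i).natAbs) ∧ L ≤ d.natAbs ∧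
      (∀ i, ∃ χ : IrrCharacter G, charDegree (χ : G → ℂ) = (s i).natAbs) ∧
      ∃ χ : IrrCharacter G, charDegree (χ : G → ℂ) = d.natAbs := by
  classical
  haveI := Fintype.ofFinite G
  obtain ⟨M, hM⟩ := Blocks.exists_isPModular hp.out
  haveI := hM.2.1.isPrime
  have hrel : (Blocks.D1.cC P).relIndex (Blocks.D1.cN P) = e := by
    have hle : Subgroup.centralizer ((P : Subgroup G) : Set G) ≤
        Subgroup.normalizer ((P : Subgroup G) : Set G) := Subgroup.centralizer_le_normalizer _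
    have h := Subgroup.card_mul_index ((Subgroup.centralizer ((P : Subgroup G) : Set G)).subgroupOf
      (Subgroup.normalizer ((P : Subgroup G) : Set G)))
    rw [Nat.card_congr (Subgroup.subgroupOfEquivOfLe hle).toEquiv, ← he, mul_comm] at h
    exact Nat.eq_of_mul_eq_mul_right Nat.card_pos h
  obtain ⟨X, Y, εX, ε, hdvd, hXY, hdis, hXc, hYc, hX, hε, hY, hag, hrel'⟩ :=
    Blocks.D1.exists_principal_structure hM P hP hrel
  have hp2 := hp.out.two_le
  have he0 : 0 < e := Nat.pos_of_ne_zero fun h => by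
    rw [h, zero_dvd_iff] at hdvd
    omega
  obtain ⟨k, hk⟩ := hdvd
  have hkt : (p - 1) / e = k := by rw [hk, Nat.mul_div_cancel_left _ he0]
  have hk0 : 0 < k := Nat.pos_of_ne_zero fun h => by rw [h, mul_zero] at hk; omega
  set triv := CT.trivIrr G with htriv
  have hdeg1 : charDegree (triv : G → ℂ) = 1 := by simp [charDegree, htriv, CT.trivIrr_apply]
  obtain ⟨x, hxP, hx1⟩ : ∃ x ∈ (P : Subgroup G), x ≠ 1 := by
    by_contra h
    push Not at h
    have hb : (P : Subgroup G) = ⊥ := (Subgroup.eq_bot_iff_forall _).2 h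
    have h1 : Nat.card (P : Subgroup G) = 1 := by rw [hb, Subgroup.card_bot]
    exact hp.out.one_lt.ne' (hP.symm.trans h1)
  have hreg : ¬ p ∣ orderOf (1 : G) := by rw [orderOf_one]; exact hp.out.not_dvd_one
  obtain ⟨⟨θ, hθ⟩⟩ := (Nat.card_pos_iff.1 (show 0 < Nat.card Y by rw [hYc, hkt]; exact hk0)).1
  have hTd : ∀ θ' ∈ Y, charDegree (θ' : G → ℂ) = charDegree (θ : G → ℂ) := fun θ' hθ' => by
    unfold charDegree
    rw [hag θ' hθ' θ hθ 1 hreg]
  have hlin : ∀ θ' ∈ Y, ε * (charDegree (θ' : G → ℂ) : ℤ) = ∑ χ ∈ X.toFinset, εX χ * (charDegree (χ : G → ℂ) : ℤ) := by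
    intro θ' hθ'
    have h1 := hrel' θ' hθ' 1 hreg
    rw [finsum_mem_eq_toFinset_sum] at h1
    simp only [charDegree_apply_one] at h1
    exact_mod_cast h1
  have hXcard : X.toFinset.card = e := by
    rw [← Set.ncard_eq_toFinset_card', ← Nat.card_coe_set_eq, hXc]
  have hsig : ∀ χ ∈ X, εX χ * (charDegree (χ : G → ℂ) : ℤ) ≡ 1 [ZMOD p] := fun χ hχ => by
    obtain ⟨hs, hm, -⟩ := hX χ hχ
    refine (hm.mul_left _).trans ?_
    rcases hs with h | h <;> simp [h]
  by_cases htX : triv ∈ X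
  · have hεt : εX triv = 1 := by
      have h := (hX triv htX).2.2 x hxP hx1 1 (one_mem _) hreg
      rw [htriv, CT.trivIrr_apply] at h
      exact_mod_cast h.symm
    rw [hkt]
    refine assemble hnc (L := L) (S := X.toFinset.erase triv) (T := Y.toFinset) (σ := εX) (θ := θ) (δ := ε)
      (by rw [Finset.card_erase_of_mem (Set.mem_toFinset.2 htX), hXcard])
      (by rw [← Set.ncard_eq_toFinset_card', ← Nat.card_coe_set_eq, hYc, hkt])
      (Set.mem_toFinset.2 hθ) ?_ (Finset.notMem_erase _ _)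
      (fun h => Set.disjoint_left.1 hdis htX (Set.mem_toFinset.1 h))
      (fun χ hχ => ⟨(hX χ (Set.mem_toFinset.1 (Finset.mem_of_mem_erase hχ))).1,
        hsig χ (Set.mem_toFinset.1 (Finset.mem_of_mem_erase hχ))⟩) hε ?_
      (fun θ' hθ' => hTd θ' (Set.mem_toFinset.1 hθ')) ?_ ?_
    · exact Finset.disjoint_of_subset_left (Finset.erase_subset _ _) (Set.disjoint_toFinset.2 hdis)
    · refine ((hY θ hθ).mul_left ε).trans ?_
      rcases hε with h | h <;> simp [h]
    · rw [hlin θ hθ, ← Finset.add_sum_erase _ _ (Set.mem_toFinset.2 htX), hεt, hdeg1]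
      simp
    · intro χ hχ
      rcases Finset.mem_union.1 hχ with h | h
      · exact hL M hM χ (hXY ▸ Or.inl (Set.mem_toFinset.1 (Finset.mem_of_mem_erase h)))
          (Finset.ne_of_mem_erase h)
      · exact hL M hM χ (hXY ▸ Or.inr (Set.mem_toFinset.1 h))
          (fun h' => Set.disjoint_left.1 hdis htX (h' ▸ Set.mem_toFinset.1 h))
  · -- only possible for `e = p - 1`; then the roles of the characters are exchanged
    have htY : triv ∈ Y := by
      have hm : triv ∈ X ∪ Y := hXY ▸ Blocks.trivIrr_mem_principalBlock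
      exact hm.resolve_left htX
    have hk1 : k = 1 := by
      have hsub : ∀ θ' ∈ Y, θ' = triv := fun θ' hθ' => eq_trivIrr_of_charDegree_one hnc (by
        rw [hTd θ' hθ', ← hTd triv htY, hdeg1])
      have h1 : Nat.card Y ≤ 1 := by
        rw [Nat.card_coe_set_eq]
        exact (Set.ncard_le_one (Set.toFinite _)).2 fun a ha b hb => (hsub a ha).trans (hsub b hb).symm
      rw [hYc, hkt] at h1
      omega
    have hpe : (p : ℤ) = e + 1 := by
      rw [hk1, mul_one] at hk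
      omega
    have hε1 : ε = -1 := by
      rcases hε with h | h
      · exfalso
        have hm := hY triv htY
        rw [hdeg1, h, one_mul, Int.modEq_iff_dvd, hpe] at hm
        have h2 : ((e : ℤ) + 1) ∣ 2 := by
          have := dvd_sub (dvd_refl ((e : ℤ) + 1)) hm
          simpa using this
        have := Int.le_of_dvd two_pos h2
        omega
      · exact h
    have hl := hlin triv htY
    rw [hdeg1, hε1] at hl
    obtain ⟨χ₀, hχ₀⟩ : X.toFinset.Nonempty := Finset.card_pos.1 (by omega)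
    have hχ₀X := Set.mem_toFinset.1 hχ₀
    rw [← Finset.add_sum_erase _ _ hχ₀] at hl
    rw [hkt, hk1]
    refine assemble hnc (L := L) (S := X.toFinset.erase χ₀) (T := {χ₀}) (σ := εX) (θ := χ₀) (δ := -εX χ₀)
      (by rw [Finset.card_erase_of_mem hχ₀, hXcard]) (Finset.card_singleton _)
      (Finset.mem_singleton_self _) (Finset.disjoint_singleton_right.2 (Finset.notMem_erase _ _))
      (fun h => htX (Set.mem_toFinset.1 (Finset.mem_of_mem_erase h)))
      (fun h => htX (by rw [htriv, Finset.mem_singleton.1 h]; exact hχ₀X))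
      (fun χ hχ => ⟨(hX χ (Set.mem_toFinset.1 (Finset.mem_of_mem_erase hχ))).1,
        hsig χ (Set.mem_toFinset.1 (Finset.mem_of_mem_erase hχ))⟩) ?_ ?_
      (fun θ' hθ' => by rw [Finset.mem_singleton.1 hθ']) ?_ ?_
    · rcases (hX χ₀ hχ₀X).1 with h | h <;> simp [h]
    · have h := (hsig χ₀ hχ₀X).neg
      rw [neg_mul]
      refine h.trans ?_
      rw [Int.modEq_iff_dvd, hpe]
      simp
    · push_cast at hl ⊢
      linarith
    · intro χ hχ
      have hχX : χ ∈ X := by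
        rcases Finset.mem_union.1 hχ with h | h
        · exact Set.mem_toFinset.1 (Finset.mem_of_mem_erase h)
        · exact Finset.mem_singleton.1 h ▸ hχ₀X
      exact hL M hM χ (hXY ▸ Or.inl hχX) fun h' => htX (h' ▸ hχX)

/-- The signed degrees of the principal block when a Sylow subgroup has prime order. -/
theorem signed_degrees
    (hnc : ¬ IsMulCommutative G) {p : ℕ} [hp : Fact p.Prime] (P : Sylow p G)
    (hP : Nat.card P = p) {e : ℕ} (he1 : e ≠ 1)
    (he : e * Nat.card (Subgroup.centralizer ((P : Subgroup G) : Set G)) =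
        Nat.card (Subgroup.normalizer ((P : Subgroup G) : Set G))) :
    ∃ (s : Fin (e - 1) → ℤ) (d : ℤ),
      (∀ i, 2 ≤ (s i).natAbs ∧ (s i).natAbs ∣ Nat.card G ∧ s i ≡ 1 [ZMOD p]) ∧
      2 ≤ d.natAbs ∧ d.natAbs ∣ Nat.card G ∧ d ≡ e [ZMOD p] ∧ 1 + ∑ i, s i = d ∧
      1 + ∑ i, s i ^ 2 + (((p - 1) / e : ℕ) : ℤ) * d ^ 2 ≤ (Nat.card G : ℤ) := by
  obtain ⟨s, d, h1, h2, h3, h4, h5, h6, -, -, -⟩ :=
    signed_degrees_aux hnc P hP he1 he 0 fun _ _ _ _ _ _ => Nat.zero_le _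
  exact ⟨s, d, h1, h2, h3, h4, h5, h6⟩

end Cfsg.Agent.SmallSimple
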