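import Cfsg.Agent.Lib.SmallSimple.BlockRigid
import Cfsg.Agent.Lib.Blocks.DihedralOrder
import Cfsg.Agent.Lib.Blocks.FrobNormalizerThree

/-!
# A full Frobenius normalizer of a Sylow subgroup of prime order

If `C(P) = P` and `|N(P)| = p(p-1)`, the principal block consists of `p` rational-valued characters
and the pairs of involutions with a product of order `p` tie their degrees to their values at an
involution.
-/

set_option autoImplicit false

namespace Cfsg.Agent.SmallSimple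

open Cfsg

universe u

variable {G : Type u} [Group G] [Finite G] [IsSimpleGroup G]

/-- A character value at an involution is congruent to the degree modulo four. -/
theorem value_involution_modEq (hnc : ¬ IsMulCommutative G) (χ : IrrCharacter G) {u : G}
    (hu : orderOf u = 2) : ∃ A : ℤ, (χ : G → ℂ) u = (A : ℂ) ∧ A.natAbs ≤ charDegree (χ : G → ℂ) ∧
      A ≡ (charDegree (χ : G → ℂ) : ℤ) [ZMOD 4] := by
  classical
  obtain ⟨r, ρ, hρ, hρc⟩ := χ.2
  obtain ⟨b, ω, hb, hω⟩ := CT.exists_eigenbasis (ρ u) (m := 2) two_pos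
    (by rw [← map_pow, ← hu, pow_orderOf_eq_one, map_one])
  set S := Finset.univ.filter (fun i => ω i = -1) with hS
  have hcase : ∀ i, i ∉ S → ω i = 1 := fun i hi =>
    (sq_eq_one_iff.1 (hω i)).resolve_right fun h => hi (Finset.mem_filter.2 ⟨Finset.mem_univ _, h⟩)
  have hdiag : LinearMap.toMatrix b b (ρ u) = Matrix.diagonal ω := by
    ext i j
    rw [LinearMap.toMatrix_apply, hb, map_smul, b.repr_self, Finsupp.smul_single, smul_eq_mul,
      mul_one, Matrix.diagonal_apply, Finsupp.single_apply]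
    by_cases h : i = j
    · subst h; simp
    · simp [h, Ne.symm h]
  have hprod : ∏ i, ω i = (-1) ^ S.card := by
    rw [← Finset.prod_filter_mul_prod_filter_not Finset.univ (fun i => ω i = -1),
      Finset.prod_congr rfl (fun i hi => (Finset.mem_filter.1 hi).2), Finset.prod_const,
      Finset.prod_eq_one (fun i hi => hcase i (by
        rw [Finset.mem_filter] at hi
        exact fun h => hi.2 (Finset.mem_filter.1 h).2)),
      mul_one]
  have heven : Even S.card := by
    refine (neg_one_pow_eq_one_iff_even (R := ℂ) (by norm_num)).1 ?_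
    rw [← hprod, ← det_rep_eq_one hnc ρ u, ← LinearMap.det_toMatrix b, hdiag, Matrix.det_diagonal]
  have hd : charDegree (χ : G → ℂ) = Module.finrank ℂ (Fin r → ℂ) := by
    rw [← hρc]; exact CT.deg_eq_finrank ρ
  have hsum : ∑ i, ω i = (((Module.finrank ℂ (Fin r → ℂ) : ℤ) - 2 * S.card : ℤ) : ℂ) := by
    have h : ∀ i, ω i = 1 - (if i ∈ S then 2 else 0) := fun i => by
      split_ifs with hi
      · rw [(Finset.mem_filter.1 hi).2]; norm_num
      · rw [hcase i hi]; norm_num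
    rw [Finset.sum_congr rfl (fun i _ => h i), Finset.sum_sub_distrib, Finset.sum_ite_mem, Finset.univ_inter,
      Finset.sum_const, Finset.sum_const, Finset.card_univ, Fintype.card_fin, nsmul_eq_mul, nsmul_eq_mul]
    push_cast
    ring
  refine ⟨(Module.finrank ℂ (Fin r → ℂ) : ℤ) - 2 * S.card, ?_, ?_, ?_⟩
  · rw [← hρc, ← hsum]
    exact CT.trace_eq_sum_of_eigenbasis (ρ u) b ω hb
  · have : S.card ≤ Module.finrank ℂ (Fin r → ℂ) := (Finset.card_le_univ S).trans_eq (Fintype.card_fin _)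
    rw [hd]; omega
  · obtain ⟨j, hj⟩ := heven
    rw [hd, Int.modEq_iff_dvd]
    exact ⟨j, by rw [hj]; push_cast; ring⟩

/-- The signed degrees and the values at an involution when `|N(P)| = p(p-1)`. -/
theorem rational_block (hnc : ¬ IsMulCommutative G) {p : ℕ} [hp : Fact p.Prime] (hp5 : 5 ≤ p)
    (P : Sylow p G) (hP : Nat.card P = p)
    (hC : Nat.card (Subgroup.centralizer ((P : Subgroup G) : Set G)) = p)
    (hN : Nat.card (Subgroup.normalizer ((P : Subgroup G) : Set G)) = p * (p - 1)) :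
    ∃ (d x : Fin (p - 1) → ℤ) (C : ℕ), C ∣ Nat.card G ∧ 2 ∣ C ∧ ¬ p ∣ C ∧
      (∀ i, 2 ≤ (d i).natAbs ∧ (d i).natAbs ∣ Nat.card G ∧ d i ≡ 1 [ZMOD p] ∧
        (x i).natAbs ≤ (d i).natAbs ∧ x i ≡ d i [ZMOD 4]) ∧
      1 + ∑ i, d i = 0 ∧ 1 + ∑ i, x i = 0 ∧ 1 + ∑ i, d i ^ 2 ≤ (Nat.card G : ℤ) ∧
      1 + ∑ i, x i ^ 2 ≤ (C : ℤ) ∧
      (Nat.card G : ℚ) * (1 + ∑ i, (x i : ℚ) ^ 2 / (d i : ℚ)) = (p : ℚ) * (C : ℚ) ^ 2 := by
  classical
  haveI := Fintype.ofFinite G
  obtain ⟨M, hM⟩ := Blocks.exists_isPModular hp.out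
  haveI := hM.2.1.isPrime
  have hrel : (Blocks.D1.cC P).relIndex (Blocks.D1.cN P) = p - 1 := by
    have hle : Subgroup.centralizer ((P : Subgroup G) : Set G) ≤
        Subgroup.normalizer ((P : Subgroup G) : Set G) := Subgroup.centralizer_le_normalizer _
    have h := Subgroup.card_mul_index ((Subgroup.centralizer ((P : Subgroup G) : Set G)).subgroupOf
      (Subgroup.normalizer ((P : Subgroup G) : Set G)))
    rw [Nat.card_congr (Subgroup.subgroupOfEquivOfLe hle).toEquiv, hC, hN] at h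
    exact Nat.eq_of_mul_eq_mul_left hp.out.pos h
  obtain ⟨X, Y, εX, ε, hdvd, hXY, hdis, hXc, hYc, hX, hε, hY, hag, hrel'⟩ :=
    Blocks.D1.exists_principal_structure hM P hP hrel
  rw [Nat.div_self (by omega)] at hYc
  set triv := CT.trivIrr G with htriv
  have hdeg1 : charDegree (triv : G → ℂ) = 1 := by simp [charDegree, htriv, CT.trivIrr_apply]
  have hreg1 : ¬ p ∣ orderOf (1 : G) := by rw [orderOf_one]; exact hp.out.not_dvd_one
  have hPC : (P : Subgroup G) = Subgroup.centralizer ((P : Subgroup G) : Set G) := by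
    haveI : IsCyclic (P : Subgroup G) := isCyclic_of_prime_card hP
    exact Subgroup.eq_of_le_of_card_ge (Subgroup.le_centralizer _) (by rw [hC, hP])
  obtain ⟨x₁, hxP, hx1⟩ : ∃ x ∈ (P : Subgroup G), x ≠ 1 := by
    by_contra h
    push Not at h
    have hb : (P : Subgroup G) = ⊥ := (Subgroup.eq_bot_iff_forall _).2 h
    have h1 : Nat.card (P : Subgroup G) = 1 := by rw [hb, Subgroup.card_bot]
    exact hp.out.one_lt.ne' (hP.symm.trans h1)
  obtain ⟨θ, hθ⟩ := Finset.card_eq_one.1 (show Y.toFinset.card = 1 by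
    rw [← Set.ncard_eq_toFinset_card', ← Nat.card_coe_set_eq, hYc])
  have hθY : θ ∈ Y := Set.mem_toFinset.1 (hθ ▸ Finset.mem_singleton_self θ)
  have hθX : θ ∉ X.toFinset := fun h => Set.disjoint_left.1 hdis (Set.mem_toFinset.1 h) hθY
  -- the coefficients
  set τ : IrrCharacter G → ℤ := fun χ => if χ = θ then -ε else εX χ with hτ
  set B : Finset (IrrCharacter G) := insert θ X.toFinset with hBdef
  have hBc : B.card = p := by
    rw [hBdef, Finset.card_insert_of_notMem hθX, ← Set.ncard_eq_toFinset_card', ← Nat.card_coe_set_eq, hXc]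
    omega
  have hτpm : ∀ χ ∈ B, τ χ * τ χ = 1 := by
    intro χ hχ
    simp only [hτ]
    split_ifs with h
    · rcases hε with e | e <;> simp [e]
    · rcases (hX χ (Set.mem_toFinset.1 ((Finset.mem_insert.1 hχ).resolve_left h))).1 with e | e <;> simp [e]
  have hτmod : ∀ χ ∈ B, τ χ * (charDegree (χ : G → ℂ) : ℤ) ≡ 1 [ZMOD p] := by
    intro χ hχ
    simp only [hτ]
    split_ifs with h
    · subst h
      refine ((hY _ hθY).mul_left _).trans ?_
      rw [Int.modEq_iff_dvd]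
      refine ⟨1, ?_⟩
      rcases hε with e | e <;> rw [e] <;> push_cast [Nat.cast_sub hp.out.one_lt.le] <;> ring
    · obtain ⟨hs, hm, -⟩ := hX χ (Set.mem_toFinset.1 ((Finset.mem_insert.1 hχ).resolve_left h))
      refine (hm.mul_left _).trans ?_
      rcases hs with e | e <;> simp [e]
  set Φ : G → ℂ := fun g => ∑ χ ∈ B, (τ χ : ℂ) * (χ : G → ℂ) g with hΦ
  have hΦreg : ∀ g : G, ¬ p ∣ orderOf g → Φ g = 0 := fun g hg => by
    have hr := hrel' θ hθY g hg
    rw [finsum_mem_eq_toFinset_sum] at hr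
    simp only [hΦ, hBdef]
    rw [Finset.sum_insert hθX, hτ]
    simp only [if_pos rfl]
    rw [Finset.sum_congr rfl (g := fun χ => (εX χ : ℂ) * (χ : G → ℂ) g) fun χ hχ => by
      rw [if_neg (fun e : χ = θ => hθX (e ▸ hχ))], ← hr]
    push_cast
    ring
  have htB : triv ∈ B := by
    have hm : triv ∈ X ∪ Y := hXY ▸ Blocks.trivIrr_mem_principalBlock
    rcases hm with h | h
    · exact Finset.mem_insert_of_mem (Set.mem_toFinset.2 h)
    · exact Finset.mem_insert.2 (Or.inl (Finset.mem_singleton.1 (hθ ▸ Set.mem_toFinset.2 h)))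
  have hτt : τ triv = 1 := by
    have h1 := hτpm triv htB
    have h2 := hτmod triv htB
    rw [hdeg1, Nat.cast_one, mul_one] at h2
    rcases Int.eq_one_or_neg_one_of_mul_eq_one h1 with h | h
    · exact h
    · exfalso
      rw [h, Int.modEq_iff_dvd] at h2
      have := Int.le_of_dvd (by norm_num) h2
      omega
  -- the element inverting `P`
  haveI : Fact (Nat.Prime 2) := ⟨Nat.prime_two⟩
  obtain ⟨u0', hu0'⟩ := exists_prime_orderOf_dvd_card'
    (G := Subgroup.normalizer ((P : Subgroup G) : Set G)) 2 (hN.symm ▸ (Dvd.dvd.mul_left ((hp.out.even_sub_one (by omega)).two_dvd) p))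
  set u0 : G := (u0' : G) with hu0def
  have hu0 : orderOf u0 = 2 := by rw [hu0def, Subgroup.orderOf_coe, hu0']
  have hu00 : u0 * u0 = 1 := by rw [← pow_two, ← hu0, pow_orderOf_eq_one]
  have hu0i : u0⁻¹ = u0 := inv_eq_of_mul_eq_one_right hu00
  have hPc : ∀ a ∈ (P : Subgroup G), ∀ b ∈ (P : Subgroup G), a * b = b * a := fun a ha b hb => by
    rw [hPC] at hb
    exact Subgroup.mem_centralizer_iff.1 hb a ha
  have hgen : ∀ c ∈ (P : Subgroup G), c ≠ 1 → ∀ g : G, g * c = c * g → g ∈ (P : Subgroup G) := by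
    intro c hc hc1 g hg
    have hz : Subgroup.zpowers c = (P : Subgroup G) := Subgroup.eq_of_le_of_card_ge (Subgroup.zpowers_le.2 hc) (by
      rw [Nat.card_zpowers]
      have hd := Subgroup.orderOf_dvd_natCard _ hc
      rw [hP] at hd
      rw [hP, ((Nat.dvd_prime hp.out).1 hd).resolve_left (fun h => hc1 (orderOf_eq_one_iff.1 h))])
    rw [hPC, ← hz]
    refine Subgroup.mem_centralizer_iff.2 fun y hy => ?_
    obtain ⟨i, rfl⟩ := hy
    exact ((show Commute g c from hg).zpow_right i).eq.symm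
  have hu0P : u0 ∉ (P : Subgroup G) := fun h => by
    have := Subgroup.orderOf_dvd_natCard _ h
    rw [hu0, hP] at this
    have := (Nat.prime_dvd_prime_iff_eq Nat.prime_two hp.out).1 this
    omega
  have hinv : ∀ c ∈ (P : Subgroup G), u0 * c * u0 = c⁻¹ := by
    intro c hc
    have hc' : u0 * c * u0 ∈ (P : Subgroup G) := by
      have := (Subgroup.mem_normalizer_iff.1 u0'.2 c).1 hc
      rwa [← hu0def, hu0i] at this
    by_contra hne
    refine hu0P (hgen (c * (u0 * c * u0)) (mul_mem hc hc') (fun h => hne (eq_inv_of_mul_eq_one_right h)) u0 ?_)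
    calc u0 * (c * (u0 * c * u0)) = (u0 * c * u0) * c * u0 := by group
      _ = c * (u0 * c * u0) * u0 := by rw [hPc _ hc' c hc]
  -- the involutions inverting an element of order `p` of `P` are the elements of the coset
  have hcoset : ∀ c ∈ (P : Subgroup G), c ≠ 1 → ∀ u : G, u * u = 1 → u * c * u = c⁻¹ →
      u0 * u ∈ (P : Subgroup G) := by
    intro c hc hc1 u huu hu
    refine hgen c hc hc1 _ ?_
    calc u0 * u * c = u0 * (u * c * u) * u := by
          rw [show u0 * (u * c * u) * u = u0 * u * c * (u * u) by group, huu, mul_one]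
      _ = u0 * c⁻¹ * u := by rw [hu]
      _ = c * u0 * u := by
          have h := hinv c⁻¹ (inv_mem hc)
          rw [inv_inv] at h
          calc u0 * c⁻¹ * u = u0 * c⁻¹ * (u0 * u0) * u := by rw [hu00, mul_one]
            _ = (u0 * c⁻¹ * u0) * u0 * u := by group
            _ = c * u0 * u := by rw [h]
      _ = c * (u0 * u) := mul_assoc _ _ _
  have hcos2 : ∀ c ∈ (P : Subgroup G), IsConj u0 (u0 * c) := by
    intro c hc
    have hcop : (2 : ℕ).Coprime (orderOf c) := by
      have hd := Subgroup.orderOf_dvd_natCard _ hc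
      rw [hP] at hd
      refine Nat.Coprime.coprime_dvd_right hd ((Nat.coprime_primes Nat.prime_two hp.out).2 (by omega))
    obtain ⟨m, hm⟩ := exists_pow_eq_self_of_coprime hcop
    -- `c = (c ^ m) ^ 2`
    set b := c ^ m with hb
    have hbP : b ∈ (P : Subgroup G) := pow_mem hc m
    have hb2 : b * b = c := by
      rw [← hm, ← pow_two, hb, ← pow_mul, ← pow_mul, mul_comm]
    refine isConj_iff.2 ⟨b⁻¹, ?_⟩
    have h := hinv b hbP
    calc b⁻¹ * u0 * b⁻¹⁻¹ = (u0 * b * u0) * u0 * b := by rw [h, inv_inv]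
      _ = u0 * (b * b) := by rw [show u0 * b * u0 * u0 * b = u0 * b * (u0 * u0) * b by group, hu00]; group
      _ = u0 * c := by rw [hb2]
  -- the class of `u0`
  set K : Finset G := Finset.univ.filter (fun v => IsConj u0 v) with hKdef
  have hK : ∀ v, v ∈ K ↔ IsConj u0 v := fun v => by simp [hKdef]
  have hKinv : ∀ v ∈ K, v * v = 1 := by
    intro v hv
    obtain ⟨g, rfl⟩ := isConj_iff.1 ((hK v).1 hv)
    calc g * u0 * g⁻¹ * (g * u0 * g⁻¹) = g * (u0 * u0) * g⁻¹ := by group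
      _ = 1 := by rw [hu00]; group
  -- elements of order divisible by `p`
  have hsing : ∀ w : G, p ∣ orderOf w → ∃ g : G, ∃ c ∈ (P : Subgroup G), c ≠ 1 ∧ w = g * c * g⁻¹ := by
    intro w hw
    obtain ⟨k, hk⟩ := hw
    have hk0 : k ≠ 0 := fun h => (orderOf_pos w).ne' (by rw [hk, h, mul_zero])
    have hwk : orderOf (w ^ k) = p := by
      rw [orderOf_pow' w hk0, hk, Nat.gcd_mul_left_left, Nat.mul_div_cancel _ (Nat.pos_of_ne_zero hk0)]
    have hpg : IsPGroup p (Subgroup.zpowers (w ^ k)) :=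
      IsPGroup.of_card (n := 1) (by rw [Nat.card_zpowers, hwk, pow_one])
    obtain ⟨Q, hQ⟩ := hpg.exists_le_sylow
    obtain ⟨g, hg⟩ := MulAction.exists_smul_eq G P Q
    have hmem : (g⁻¹ * w * g) ^ k ∈ (P : Subgroup G) := by
      have h := hQ (Subgroup.mem_zpowers (w ^ k))
      rw [← hg] at h
      simpa [Sylow.coe_subgroup_smul, Subgroup.mem_pointwise_smul_iff_inv_smul_mem, MulAut.smul_def] using h
    have hmem : g⁻¹ * w ^ k * g ∈ (P : Subgroup G) := by
      have e : (g⁻¹ * w * g) ^ k = g⁻¹ * w ^ k * g := by simpa using conj_pow (i := k) (a := g⁻¹) (b := w)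
      exact e ▸ hmem
    have hne : g⁻¹ * w ^ k * g ≠ 1 := fun h => by
      have h1 : w ^ k = 1 := by
        calc w ^ k = g * (g⁻¹ * w ^ k * g) * g⁻¹ := by group
          _ = 1 := by rw [h]; group
      rw [h1, orderOf_one] at hwk
      exact hp.out.one_lt.ne hwk
    have hwP : g⁻¹ * w * g ∈ (P : Subgroup G) := hgen _ hmem hne _ (by
      calc g⁻¹ * w * g * (g⁻¹ * w ^ k * g) = g⁻¹ * (w * w ^ k) * g := by group
        _ = g⁻¹ * (w ^ k * w) * g := by rw [(Commute.self_pow w k).eq]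
        _ = g⁻¹ * w ^ k * g * (g⁻¹ * w * g) := by group)
    refine ⟨g, _, hwP, fun h => ?_, by group⟩
    have h1 : w = 1 := by
      calc w = g * (g⁻¹ * w * g) * g⁻¹ := by group
        _ = 1 := by rw [h]; group
    rw [h1, one_pow, orderOf_one] at hwk
    exact hp.out.one_lt.ne hwk
  have hcount : ∀ w : G, p ∣ orderOf w → (K.filter fun u => u * w ∈ K).card = p := by
    intro w hw
    obtain ⟨g, c, hc, hc1, rfl⟩ := hsing w hw
    rw [← hP, ← Nat.card_eq_finsetCard]
    symm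
    refine Nat.card_congr (Equiv.ofBijective (fun b : (P : Subgroup G) => ⟨g * (u0 * b) * g⁻¹, ?_⟩) ⟨?_, ?_⟩)
    · rw [Finset.mem_filter, hK, hK]
      refine ⟨(hcos2 b b.2).trans (isConj_iff.2 ⟨g, rfl⟩), ?_⟩
      rw [show g * (u0 * b) * g⁻¹ * (g * c * g⁻¹) = g * (u0 * (b * c)) * g⁻¹ by group]
      exact (hcos2 _ (mul_mem b.2 hc)).trans (isConj_iff.2 ⟨g, rfl⟩)
    · intro a b h
      exact Subtype.ext (mul_left_cancel (mul_left_cancel (mul_right_cancel (congrArg Subtype.val h))))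
    · rintro ⟨v, hv⟩
      rw [Finset.mem_filter] at hv
      have h1 := hKinv v hv.1
      have h2 := hKinv _ hv.2
      set u := g⁻¹ * v * g with hudef
      have huu : u * u = 1 := by
        calc u * u = g⁻¹ * (v * v) * g := by rw [hudef]; group
          _ = 1 := by rw [h1]; group
      have huc : u * c * (u * c) = 1 := by
        calc u * c * (u * c) = g⁻¹ * (v * (g * c * g⁻¹) * (v * (g * c * g⁻¹))) * g := by rw [hudef]; group
          _ = 1 := by rw [h2]; group
      have hucu : u * c * u = c⁻¹ := eq_inv_of_mul_eq_one_left (by rw [← huc]; group)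
      refine ⟨⟨u0 * u, hcoset c hc hc1 u huu hucu⟩, Subtype.ext ?_⟩
      show g * (u0 * (u0 * u)) * g⁻¹ = v
      rw [← mul_assoc u0, hu00, one_mul, hudef]
      group
  have hs0 : ∀ ψ : IrrCharacter G, ψ ≠ triv → ∑ g, (ψ : G → ℂ) g = 0 := by
    intro ψ hψ
    have h := CT.irr_inner_subtype ψ triv
    rw [if_neg hψ, classInner, mul_eq_zero] at h
    have h' := h.resolve_left (inv_ne_zero (Nat.cast_ne_zero.2 Nat.card_pos.ne'))
    simpa [htriv, CT.trivIrr_apply] using h'
  set T := B.erase triv with hTdef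
  have hTc : T.card = p - 1 := by rw [hTdef, Finset.card_erase_of_mem htB, hBc]
  have hT : ∀ χ ∈ T, χ ≠ triv ∧ χ ∈ B := fun χ hχ => ⟨Finset.ne_of_mem_erase hχ, Finset.mem_of_mem_erase hχ⟩
  have hΦsum : ∑ g, Φ g = (Nat.card G : ℂ) := by
    simp only [hΦ]
    rw [Finset.sum_comm, ← Finset.add_sum_erase _ _ htB, Finset.sum_eq_zero (s := B.erase triv) fun χ hχ => by
      rw [← Finset.mul_sum, hs0 χ (Finset.ne_of_mem_erase hχ), mul_zero], add_zero, hτt]
    simp [htriv, CT.trivIrr_apply, Nat.card_eq_fintype_card]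
  have hLHS : ∑ w ∈ K ×ˢ K, Φ (w.1 * w.2) = (p : ℂ) * (Nat.card G : ℂ) := by
    rw [Finset.sum_product]
    have hstep : ∀ u ∈ K, ∑ v ∈ K, Φ (u * v) = ∑ w, if u * w ∈ K then Φ w else 0 := by
      intro u hu
      rw [← Finset.sum_filter]
      refine Finset.sum_nbij' (fun v => u * v) (fun w => u * w) (fun v hv => ?_) (fun w hw => ?_)
        (fun v _ => ?_) (fun w _ => ?_) (fun v _ => rfl)
      · simpa [← mul_assoc, hKinv u hu] using hv
      · simpa using hw
      · simp [← mul_assoc, hKinv u hu]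
      · simp [← mul_assoc, hKinv u hu]
    rw [Finset.sum_congr rfl hstep, Finset.sum_comm, ← hΦsum, Finset.mul_sum]
    refine Finset.sum_congr rfl fun w _ => ?_
    by_cases hw : p ∣ orderOf w
    · rw [← Finset.sum_filter, Finset.sum_const, hcount w hw, nsmul_eq_mul]
    · simp [hΦreg w hw]
  have hsplit : ∑ w ∈ K ×ˢ K, Φ (w.1 * w.2) =
      ∑ χ ∈ B, (τ χ : ℂ) * ((K.card : ℂ) ^ 2 * (χ : G → ℂ) u0 ^ 2 / (χ : G → ℂ) 1) := by
    simp only [hΦ]
    rw [Finset.sum_comm]
    refine Finset.sum_congr rfl fun χ _ => ?_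
    rw [← Finset.mul_sum, Blocks.sum_pairs_class χ K hK]
  have hval := fun χ : IrrCharacter G => value_involution_modEq hnc χ hu0
  choose A hA hAle hAmod using hval
  set Cu := Subgroup.centralizer ({u0} : Set G) with hCu
  have hu0reg : ¬ p ∣ orderOf u0 := by
    rw [hu0]
    intro h
    have := Nat.le_of_dvd two_pos h
    omega
  have hKC : K.card * Nat.card Cu = Nat.card G := by
    have h1 : {v : G | IsConj u0 v}.ncard = Cu.index := by
      rw [show {v : G | IsConj u0 v} = (ConjClasses.mk u0).carrier from Set.ext fun v => by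
          rw [ConjClasses.mem_carrier_iff_mk_eq, ConjClasses.mk_eq_mk_iff_isConj, Set.mem_setOf_eq]
          exact isConj_comm,
        ← ConjAct.orbit_eq_carrier_conjClasses, ← MulAction.index_stabilizer,
        ConjAct.stabilizer_eq_centralizer]
      rfl
    have hset : (K : Set G) = {v | IsConj u0 v} := Set.ext fun v => hK v
    rw [← Set.ncard_coe_finset K, hset, h1, mul_comm, Subgroup.card_mul_index]
  have hcol : ∑ χ : IrrCharacter G, (A χ : ℤ) ^ 2 = (Nat.card Cu : ℤ) := by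
    have h := CT.column_orthogonality u0 u0
    rw [if_pos (IsConj.refl u0)] at h
    simp only [hA, map_intCast, ← pow_two] at h
    exact_mod_cast h
  have hsq1 : ∑ χ : IrrCharacter G, (charDegree (χ : G → ℂ) : ℤ) ^ 2 = (Nat.card G : ℤ) := by
    have h : ∑ χ : IrrCharacter G, (χ : G → ℂ) 1 ^ 2 = (Nat.card G : ℂ) := CT.sum_degree_sq
    simp only [charDegree_apply_one] at h
    exact_mod_cast h
  have hAt : A triv = 1 := by
    have h := hA triv
    rw [htriv, CT.trivIrr_apply] at h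
    exact_mod_cast h.symm
  let f : Fin (p - 1) ≃ T := ((Finset.equivFin _).trans (finCongr hTc)).symm
  have hf : ∀ F : IrrCharacter G → ℤ, ∑ i, F (f i) = ∑ χ ∈ T, F χ := fun F => by
    rw [← Finset.sum_coe_sort T, ← f.sum_comp]
  have hfQ : ∀ F : IrrCharacter G → ℚ, ∑ i, F (f i) = ∑ χ ∈ T, F χ := fun F => by
    rw [← Finset.sum_coe_sort T, ← f.sum_comp]
  have habs : ∀ χ ∈ B, ∀ n : ℤ, (τ χ * n).natAbs = n.natAbs := fun χ hχ n => by
    rcases Int.eq_one_or_neg_one_of_mul_eq_one (hτpm χ hχ) with h | h <;> simp [h]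
  have hsqτ : ∀ χ ∈ B, ∀ n : ℤ, (τ χ * n) ^ 2 = n ^ 2 := fun χ hχ n => by
    rw [mul_pow, pow_two (τ χ), hτpm χ hχ, one_mul]
  have hlin : ∀ g : G, ¬ p ∣ orderOf g → ∀ F : IrrCharacter G → ℤ,
      (∀ χ : IrrCharacter G, (χ : G → ℂ) g = (F χ : ℂ)) → F triv + ∑ χ ∈ T, τ χ * F χ = 0 := by
    intro g hg F hF
    have h := hΦreg g hg
    simp only [hΦ, hF] at h
    rw [← Finset.add_sum_erase _ _ htB, hτt] at h
    have h' : ((1 * F triv + ∑ χ ∈ T, τ χ * F χ : ℤ) : ℂ) = 0 := by push_cast; exact_mod_cast h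
    rw [one_mul] at h'
    exact_mod_cast h'
  refine ⟨fun i => τ (f i) * (charDegree ((f i : IrrCharacter G) : G → ℂ) : ℤ),
    fun i => τ (f i) * A (f i), Nat.card Cu, Subgroup.card_subgroup_dvd_card _, ?_, ?_, fun i => ?_, ?_, ?_, ?_, ?_, ?_⟩
  · rw [← hu0]
    exact Subgroup.orderOf_dvd_natCard _ (Subgroup.mem_centralizer_singleton_iff.2 rfl)
  · intro hd
    obtain ⟨w, hw⟩ := exists_prime_orderOf_dvd_card' (G := Cu) p hd
    obtain ⟨g, c, hc, hc1, hwe⟩ := hsing (w : G) (by rw [Subgroup.orderOf_coe, hw])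
    have hcm := Subgroup.mem_centralizer_singleton_iff.1 w.2
    rw [hwe] at hcm
    have hmem := hgen c hc hc1 (g⁻¹ * u0 * g) (by
      calc g⁻¹ * u0 * g * c = g⁻¹ * (u0 * (g * c * g⁻¹)) * g := by group
        _ = g⁻¹ * (g * c * g⁻¹ * u0) * g := by rw [hcm]
        _ = c * (g⁻¹ * u0 * g) := by group)
    have h2 := Subgroup.orderOf_dvd_natCard _ hmem
    have he : orderOf (g⁻¹ * u0 * g) = 2 := by
      have h3 := (MulAut.conj g⁻¹).orderOf_eq u0
      rw [MulAut.conj_apply, inv_inv] at h3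
      rw [h3, hu0]
    rw [he, hP] at h2
    have := (Nat.prime_dvd_prime_iff_eq Nat.prime_two hp.out).1 h2
    omega
  · obtain ⟨hne, hmB⟩ := hT _ (f i).2
    rw [habs _ hmB, habs _ hmB, Int.natAbs_natCast]
    exact ⟨two_le_charDegree hnc hne, Glauberman.deg_dvd_card _, hτmod _ hmB, hAle _, (hAmod _).mul_left _⟩
  · rw [hf (fun χ => τ χ * (charDegree (χ : G → ℂ) : ℤ))]
    have h := hlin 1 hreg1 _ charDegree_apply_one
    rwa [hdeg1, Nat.cast_one] at h
  · rw [hf (fun χ => τ χ * A χ)]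
    have h := hlin u0 hu0reg _ hA
    rwa [hAt] at h
  · rw [hf (fun χ => (τ χ * (charDegree (χ : G → ℂ) : ℤ)) ^ 2), ← hsq1,
      Finset.sum_congr rfl fun χ hχ => hsqτ χ (hT χ hχ).2 _]
    have h := Finset.sum_le_sum_of_subset_of_nonneg (Finset.subset_univ B)
      (f := fun χ : IrrCharacter G => (charDegree (χ : G → ℂ) : ℤ) ^ 2) fun χ _ _ => sq_nonneg _
    rw [← Finset.add_sum_erase _ _ htB, hdeg1] at h
    simpa using h
  · rw [hf (fun χ => (τ χ * A χ) ^ 2), ← hcol, Finset.sum_congr rfl fun χ hχ => hsqτ χ (hT χ hχ).2 _]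
    have h := Finset.sum_le_sum_of_subset_of_nonneg (Finset.subset_univ B)
      (f := fun χ : IrrCharacter G => A χ ^ 2) fun χ _ _ => sq_nonneg _
    rw [← Finset.add_sum_erase _ _ htB, hAt] at h
    simpa using h
  · rw [hfQ (fun χ => ((τ χ * A χ : ℤ) : ℚ) ^ 2 / ((τ χ * (charDegree (χ : G → ℂ) : ℤ) : ℤ) : ℚ))]
    apply Rat.cast_injective (α := ℂ)
    push_cast
    rw [hsplit, ← Finset.add_sum_erase _ _ htB, hτt] at hLHS
    have hterm : ∀ χ ∈ T, ((τ χ : ℂ) * (A χ : ℂ)) ^ 2 / ((τ χ : ℂ) * (charDegree (χ : G → ℂ) : ℂ)) =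
        (τ χ : ℂ) * ((A χ : ℂ) ^ 2 / (charDegree (χ : G → ℂ) : ℂ)) := by
      intro χ hχ
      rcases Int.eq_one_or_neg_one_of_mul_eq_one (hτpm χ (hT χ hχ).2) with h | h <;> simp [h, div_neg]
    rw [Finset.sum_congr rfl hterm]
    have hK0 : (K.card : ℂ) ≠ 0 := Nat.cast_ne_zero.2 (Finset.card_ne_zero.2 ⟨u0, (hK u0).2 (IsConj.refl u0)⟩)
    have hGc : (Nat.card G : ℂ) = (K.card : ℂ) * (Nat.card Cu : ℂ) := by rw [← hKC]; push_cast; ring
    refine mul_left_cancel₀ hK0 ?_
    simp only [hA, charDegree_apply_one, Int.cast_natCast] at hLHS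
    rw [hAt, hdeg1] at hLHS
    push_cast at hLHS
    have hrw : ∑ χ ∈ B.erase triv, (τ χ : ℂ) * ((K.card : ℂ) ^ 2 * (A χ : ℂ) ^ 2 / (charDegree (χ : G → ℂ) : ℂ)) =
        (K.card : ℂ) ^ 2 * ∑ χ ∈ T, (τ χ : ℂ) * ((A χ : ℂ) ^ 2 / (charDegree (χ : G → ℂ) : ℂ)) := by
      rw [Finset.mul_sum]
      exact Finset.sum_congr rfl fun χ _ => by ring
    rw [hrw] at hLHS
    linear_combination (K.card : ℂ) * (1 + ∑ χ ∈ T, (τ χ : ℂ) * ((A χ : ℂ) ^ 2 / (charDegree (χ : G → ℂ) : ℂ))) * hGc +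
      (Nat.card Cu : ℂ) * hLHS + (p : ℂ) * (Nat.card Cu : ℂ) * hGc

/-- The possible values at an involution. -/
def valList (a : ℤ) : List ℤ :=
  (((List.range (2 * a.natAbs + 1)).map fun (j : ℕ) => (j : ℤ) - (a.natAbs : ℤ))).filter
    fun x => decide ((x - a) % 4 = 0)

/-- The search for a principal block of five rational characters. -/
def searchFive (N B : ℕ) : Bool :=
  let cs := cands N 5 B
  let Cs := (List.range (N + 1)).filter fun C => decide (C ∣ N ∧ 2 ∣ C ∧ ¬ 5 ∣ C)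
  cs.any fun a => cs.any fun b => decide (a ≤ b) && cs.any fun c =>
    decide (b ≤ c ∧ c ≤ -1 - a - b - c ∧ -1 - a - b - c ∈ cs ∧
      1 + a * a + b * b + c * c + (-1 - a - b - c) * (-1 - a - b - c) ≤ (N : ℤ)) &&
    (valList a).any fun x => (valList b).any fun y => (valList c).any fun z =>
      decide ((-1 - x - y - z).natAbs ≤ (-1 - a - b - c).natAbs ∧ (-1 - x - y - z - (-1 - a - b - c)) % 4 = 0) &&
      Cs.any fun C => decide (1 + x * x + y * y + z * z + (-1 - x - y - z) * (-1 - x - y - z) ≤ (C : ℤ) ∧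
        (N : ℤ) * (a * b * c * (-1 - a - b - c) + x * x * (b * c * (-1 - a - b - c)) +
          y * y * (a * c * (-1 - a - b - c)) + z * z * (a * b * (-1 - a - b - c)) +
          (-1 - x - y - z) * (-1 - x - y - z) * (a * b * c)) =
        5 * ((C : ℤ) * (C : ℤ)) * (a * b * c * (-1 - a - b - c)))

theorem mem_valList {a x : ℤ} (h1 : x.natAbs ≤ a.natAbs) (h2 : x ≡ a [ZMOD 4]) : x ∈ valList a := by
  rw [valList, List.mem_filter, List.mem_map]
  refine ⟨⟨(x + a.natAbs).toNat, List.mem_range.2 (by omega), by omega⟩,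
    decide_eq_true (Int.emod_eq_zero_of_dvd h2.symm.dvd)⟩

/-- A self-centralizing Sylow subgroup of order five with full normalizer. -/
theorem searchFive_eq_true (hnc : ¬ IsMulCommutative G) [Fact (Nat.Prime 5)] {N B : ℕ}
    (hN : Nat.card G = N) (hB : N < (B + 1) * (B + 1)) (P : Sylow 5 G) (hP : Nat.card P = 5)
    (hC : Nat.card (Subgroup.centralizer ((P : Subgroup G) : Set G)) = 5)
    (hNP : Nat.card (Subgroup.normalizer ((P : Subgroup G) : Set G)) = 5 * (5 - 1)) :
    searchFive N B = true := by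
  obtain ⟨d, x, C, hCd, hC2, hC5, hdx, hds, hxs, hdsq, hxsq, heq⟩ := rational_block hnc le_rfl P hP hC hNP
  rw [hN] at hCd hdsq heq
  set σ : Equiv.Perm (Fin 4) := Tuple.sort d
  have hmono : Monotone (d ∘ σ) := Tuple.monotone_sort d
  have hdsum : ∑ i, d (σ i) = ∑ i, d i := Equiv.sum_comp σ _
  have hxsum : ∑ i, x (σ i) = ∑ i, x i := Equiv.sum_comp σ _
  have hdsq' : ∑ i, d (σ i) ^ 2 = ∑ i, d i ^ 2 := Equiv.sum_comp σ (fun i => d i ^ 2)
  have hxsq' : ∑ i, x (σ i) ^ 2 = ∑ i, x i ^ 2 := Equiv.sum_comp σ (fun i => x i ^ 2)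
  have heq' : ∑ i, (x (σ i) : ℚ) ^ 2 / (d (σ i) : ℚ) = ∑ i, (x i : ℚ) ^ 2 / (d i : ℚ) :=
    Equiv.sum_comp σ (fun i => (x i : ℚ) ^ 2 / (d i : ℚ))
  rw [← hdsum] at hds; rw [← hxsum] at hxs; rw [← hdsq'] at hdsq; rw [← hxsq'] at hxsq
  rw [← heq'] at heq
  have hm : ∀ i, d (σ i) ∈ cands N 5 B := by
    intro i
    obtain ⟨h2, hd, hm1, -, -⟩ := hdx (σ i)
    have hle : (d (σ i)).natAbs ≤ B := by
      by_contra hlt
      have h1 : d (σ i) ^ 2 ≤ ∑ j, d (σ j) ^ 2 :=
        Finset.single_le_sum (fun j _ => sq_nonneg (d (σ j))) (Finset.mem_univ i)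
      have h3 : ((B + 1) * (B + 1) : ℤ) ≤ ((d (σ i)).natAbs : ℤ) * ((d (σ i)).natAbs : ℤ) := by
        have : B + 1 ≤ (d (σ i)).natAbs := by omega
        exact_mod_cast Nat.mul_le_mul this this
      rw [Int.natAbs_mul_self', ← pow_two] at h3
      have hB' : (N : ℤ) < (B + 1) * (B + 1) := by exact_mod_cast hB
      linarith
    rw [cands, List.mem_flatMap]
    refine ⟨(d (σ i)).natAbs, ?_, ?_⟩
    · rw [List.mem_filter, List.mem_range]
      exact ⟨by omega, decide_eq_true ⟨h2, hN ▸ hd⟩⟩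
    · rw [List.mem_filter]
      refine ⟨?_, decide_eq_true (Int.emod_eq_zero_of_dvd (Int.ModEq.dvd hm1.symm))⟩
      rcases Int.natAbs_eq (d (σ i)) with h | h
      · exact List.mem_cons.2 (Or.inl h)
      · exact List.mem_cons.2 (Or.inr (List.mem_singleton.2 h))
  simp only [Fin.sum_univ_four] at hds hxs hdsq hxsq heq
  have e3 : d (σ 3) = -1 - d (σ 0) - d (σ 1) - d (σ 2) := by linarith
  have f3 : x (σ 3) = -1 - x (σ 0) - x (σ 1) - x (σ 2) := by linarith
  have hne : ∀ i, (d (σ i) : ℚ) ≠ 0 := fun i => by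
    have := (hdx (σ i)).1
    have h : d (σ i) ≠ 0 := fun h => by rw [h] at this; simp at this
    exact_mod_cast h
  have n0 := hne 0
  have n1 := hne 1
  have n2 := hne 2
  have n3 := hne 3
  field_simp at heq
  simp only [searchFive, List.any_eq_true, Bool.and_eq_true, decide_eq_true_eq]
  refine ⟨d (σ 0), hm 0, d (σ 1), hm 1, hmono (by decide : (0 : Fin 4) ≤ 1), d (σ 2), hm 2,
    ⟨hmono (by decide : (1 : Fin 4) ≤ 2), ?_, ?_, ?_⟩, x (σ 0), mem_valList (hdx _).2.2.2.1 (hdx _).2.2.2.2,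
    x (σ 1), mem_valList (hdx _).2.2.2.1 (hdx _).2.2.2.2,
    x (σ 2), mem_valList (hdx _).2.2.2.1 (hdx _).2.2.2.2, ⟨?_, ?_⟩, C, ?_, ?_, ?_⟩
  · rw [← e3]; exact hmono (by decide : (2 : Fin 4) ≤ 3)
  · rw [← e3]; exact hm 3
  · rw [← e3]; simp only [← pow_two]; linarith
  · rw [← e3, ← f3]; exact (hdx _).2.2.2.1
  · rw [← e3, ← f3]; exact Int.emod_eq_zero_of_dvd (hdx _).2.2.2.2.symm.dvd
  · rw [List.mem_filter, List.mem_range]
    exact ⟨Nat.lt_succ_of_le (Nat.le_of_dvd (hN ▸ Nat.card_pos) hCd), decide_eq_true ⟨hCd, hC2, hC5⟩⟩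
  · rw [← f3]; simp only [← pow_two]; linarith
  · rw [← e3, ← f3]
    apply Int.cast_injective (α := ℚ)
    push_cast
    linear_combination heq

end Cfsg.Agent.SmallSimple
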