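import Cfsg.Agent.Lib.SmallSimple.BlockDeg
import Cfsg.Agent.Lib.Blocks.Knorr
import Cfsg.Agent.Lib.CT.Integral

/-!
# Simple groups of order `p ^ a * q ^ b * r`

The Sylow subgroup of order `r` is its own centralizer: an element of order `p * r` would give a
relation in the principal `p`-block in which every term but the first is divisible by `q`.
-/

set_option autoImplicit false

namespace Cfsg.Agent.SmallSimple.ThreePrimes

open Cfsg
open scoped ComplexConjugate

universe u

variable {G : Type u} [Group G] [Finite G]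

/-- A character of defect zero vanishes at the singular elements. -/
theorem vanish_of_defect_zero {r : ℕ} [Fact r.Prime] (χ : IrrCharacter G) {k : ℕ}
    (hk : Nat.card G = charDegree (χ : G → ℂ) * k) (hrk : ¬ r ∣ k) {g : G} (hg : r ∣ orderOf g) :
    (χ : G → ℂ) g = 0 := by
  classical
  haveI := Fintype.ofFinite G
  obtain ⟨M, hM⟩ := Blocks.exists_isPModular (p := r) Fact.out
  haveI := hM.2.1.isPrime
  set d := charDegree (χ : G → ℂ) with hd
  have hd0 : (d : ℂ) ≠ 0 := Nat.cast_ne_zero.mpr (Blocks.charDegree_pos χ).ne'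
  have hk0 : (k : ℂ) ≠ 0 := Nat.cast_ne_zero.mpr (by rintro rfl; exact hrk (dvd_zero r))
  have hco : ∀ x, blockCoeff ({χ} : Set (IrrCharacter G)) x = (k : ℂ)⁻¹ * conj ((χ : G → ℂ) x) := fun x => by
    rw [blockCoeff, finsum_mem_singleton, Blocks.charDegree_cast, ← hd, hk]
    push_cast
    field_simp
  have hB : blockOf M (χ : G → ℂ) = {χ} := by
    refine Set.Subset.antisymm (Blocks.blockOf_subset_of_integral (χ := χ) (fun x => ?_) rfl)
      (Set.singleton_subset_iff.mpr (Blocks.self_mem_blockOf χ))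
    rw [hco]
    exact mul_mem (Blocks.inv_mem_loc (natCast_mem _ _)
      fun hI => hrk ((Blocks.memLocalIdeal_natCast hM k).mp hI))
      (Blocks.integral_mem_loc (CT.isIntegral_conj (Blocks.isIntegral_irr χ.2 x)))
  have h1 := Blocks.blockCoeff_block_eq_zero hM (Blocks.isPBlock_blockOf χ) hg
  rw [hB, hco, mul_eq_zero, map_eq_zero] at h1
  exact h1.resolve_left (inv_ne_zero hk0)

variable [IsSimpleGroup G]

/-- Burnside: in a simple group a non-trivial character vanishes at a non-trivial element of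
coprime class length. -/
theorem vanish_of_coprime_class (hnc : ¬ IsMulCommutative G) {χ : IrrCharacter G}
    (hχ : χ ≠ CT.trivIrr G) {g : G} (hg : g ≠ 1)
    (hcop : Nat.Coprime (charDegree (χ : G → ℂ)) (Subgroup.centralizer ({g} : Set G)).index) :
    (χ : G → ℂ) g = 0 := by
  classical
  haveI := Fintype.ofFinite G
  obtain ⟨n, ρ, hρ, hχc⟩ := χ.2
  have hdeg : charDegree (χ : G → ℂ) = Module.finrank ℂ (Fin n → ℂ) := by
    rw [← hχc]; exact CT.deg_eq_finrank ρ
  haveI := hρ
  rw [← hχc]
  rcases CT.zero_or_norm_of_coprime ρ g (hdeg ▸ hcop) with h | h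
  · exact h
  exfalso
  have hs := CT.scalar_of_norm_eq ρ h
  rcases (MonoidHom.normal_ker ρ).eq_bot_or_eq_top with hk | hk
  · have hcen : g ∈ Subgroup.center G := Subgroup.mem_center_iff.mpr fun x => by
      apply (MonoidHom.ker_eq_bot_iff ρ).mp hk
      rw [map_mul, map_mul, hs]
      ext v
      simp
    have hbot : Subgroup.center G = ⊥ :=
      ((Subgroup.center G).normal_of_characteristic.eq_bot_or_eq_top).resolve_right fun htop =>
        hnc ⟨⟨fun a b => (Subgroup.mem_center_iff.mp (htop ▸ Subgroup.mem_top a) b).symm⟩⟩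
    exact hg (Subgroup.mem_bot.mp (hbot ▸ hcen))
  · have hρ1 : ∀ x, ρ x = 1 := fun x => MonoidHom.mem_ker.mp (hk.symm ▸ Subgroup.mem_top x : x ∈ ρ.ker)
    have hV := (CT.isIrreducible_iff ρ).mp hρ
    have h1 : Module.finrank ℂ (Fin n → ℂ) = 1 := by
      obtain ⟨v, hv⟩ := @exists_ne _ hV.1 (0 : Fin n → ℂ)
      rcases hV.2 (Submodule.span ℂ {v}) (fun x w hw => by simpa [hρ1 x] using hw) with e | e
      · simp [hv] at e
      · rw [← finrank_top ℂ, ← e, finrank_span_singleton hv]
    exact hχ (eq_trivIrr_of_charDegree_one hnc (hdeg.trans h1))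

/-- No element of order `p * r`. -/
theorem not_commute (hnc : ¬ IsMulCommutative G) {p q r a b : ℕ} (hp : p.Prime) (hq : q.Prime)
    (hr : r.Prime) (hpq : p ≠ q) (hpr : p ≠ r) (hqr : q ≠ r) (hcard : Nat.card G = p ^ a * q ^ b * r)
    {s x : G} (hs : orderOf s = r) (hx : orderOf x = p) : ¬ Commute s x := by
  classical
  intro hsx
  haveI := Fintype.ofFinite G
  haveI : Fact p.Prime := ⟨hp⟩
  haveI : Fact r.Prime := ⟨hr⟩
  have hord : orderOf (s * x) = r * p := by
    rw [hsx.orderOf_mul_eq_mul_orderOf_of_coprime (by rw [hs, hx]; exact (Nat.coprime_primes hr hp).2 hpr.symm),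
      hs, hx]
  have ha : p ∣ p ^ a := by
    have hd : p ∣ Nat.card G := hx ▸ orderOf_dvd_natCard x
    rw [hcard] at hd
    rcases hp.dvd_mul.mp hd with h | h
    · rcases hp.dvd_mul.mp h with h | h
      · exact h
      · exact absurd ((Nat.prime_dvd_prime_iff_eq hp hq).mp (hp.dvd_of_dvd_pow h)) hpq
    · exact absurd ((Nat.prime_dvd_prime_iff_eq hp hr).mp h) hpr
  -- a non-trivial element in the centre of a Sylow `p`-subgroup
  obtain ⟨P⟩ := (inferInstance : Nonempty (Sylow p G))
  have hpG : p ∣ Nat.card G := by rw [← hx]; exact orderOf_dvd_natCard x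
  haveI : Nontrivial (P : Subgroup G) := by
    refine (Subgroup.nontrivial_iff_ne_bot _).mpr fun e => ?_
    have := P.dvd_card_of_dvd_card hpG
    rw [e, Subgroup.card_bot] at this
    exact hp.not_dvd_one this
  haveI : Nontrivial (Subgroup.center (P : Subgroup G)) := P.2.center_nontrivial
  obtain ⟨z₀, hz₀⟩ := exists_ne (1 : Subgroup.center (P : Subgroup G))
  set z : G := ((z₀ : (P : Subgroup G)) : G) with hzdef
  have hz1 : z ≠ 1 := fun e => hz₀ (Subtype.ext (Subtype.ext e))
  have hzP : (P : Subgroup G) ≤ Subgroup.centralizer ({z} : Set G) := fun w hw => by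
    rw [Subgroup.mem_centralizer_singleton_iff]
    exact congrArg Subtype.val (Subgroup.mem_center_iff.mp z₀.2 ⟨w, hw⟩)
  have hzidx : ¬ p ∣ (Subgroup.centralizer ({z} : Set G)).index := fun hd =>
    P.not_dvd_index (hd.trans (Subgroup.index_dvd_of_le hzP))
  obtain ⟨M, hM⟩ := Blocks.exists_isPModular hp
  haveI := hM.2.1.isPrime
  set B := principalBlock M G
  have horth := Blocks.weak_orthogonality' hM (Blocks.blockCoeff_mem_loc (Blocks.isPBlock_principalBlock (M := M) (G := G)))
    (g := s * x) (h := 1) (by rw [hord]; exact dvd_mul_left p r) (by rw [orderOf_one]; exact hp.not_dvd_one)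
  have hterm : ∀ χ : IrrCharacter G, χ ≠ CT.trivIrr G → χ ∈ B →
      IsIntegral ℤ ((χ : G → ℂ) (s * x) * conj ((χ : G → ℂ) 1) / (q : ℂ)) := by
    intro χ hne hχB
    rw [Blocks.charDegree_cast, map_natCast]
    set d := charDegree (χ : G → ℂ) with hddef
    by_cases hqd : q ∣ d
    · obtain ⟨e, he⟩ := hqd
      rw [he, Nat.cast_mul, show (χ : G → ℂ) (s * x) * ((q : ℂ) * (e : ℂ)) / (q : ℂ) = (χ : G → ℂ) (s * x) * e by
        have : (q : ℂ) ≠ 0 := Nat.cast_ne_zero.mpr hq.ne_zero
        field_simp]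
      exact (Blocks.isIntegral_irr χ.2 _).mul (CT.isIntegral_natCast e)
    have hcop : Nat.Coprime d (q ^ b) := (Nat.Coprime.pow_right b ((hq.coprime_iff_not_dvd.mpr hqd).symm))
    have hdd : d ∣ p ^ a * r := by
      refine hcop.dvd_of_dvd_mul_right ?_
      have := Blocks.charDegree_dvd_card χ
      rw [hcard] at this
      rwa [show p ^ a * r * q ^ b = p ^ a * q ^ b * r by ring]
    by_cases hrd : r ∣ d
    · obtain ⟨k, hk⟩ := Blocks.charDegree_dvd_card χ
      have hrk : ¬ r ∣ k := by
        rintro ⟨j, hj⟩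
        obtain ⟨i, hi⟩ := hrd
        have h2 : r ∣ p ^ a * q ^ b := by
          refine ⟨i * j, Nat.eq_of_mul_eq_mul_left hr.pos ?_⟩
          calc r * (p ^ a * q ^ b) = Nat.card G := by rw [hcard]; ring
            _ = d * k := hk
            _ = r * (r * (i * j)) := by rw [hi, hj]; ring
        rcases hr.dvd_mul.mp h2 with h | h
        · exact hpr ((Nat.prime_dvd_prime_iff_eq hr hp).mp (hr.dvd_of_dvd_pow h)).symm
        · exact hqr ((Nat.prime_dvd_prime_iff_eq hr hq).mp (hr.dvd_of_dvd_pow h)).symm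
      rw [vanish_of_defect_zero χ hk hrk (hord ▸ dvd_mul_right r p), zero_mul, zero_div]
      exact isIntegral_zero
    exfalso
    have hdp : d ∣ p ^ a := (hr.coprime_iff_not_dvd.mpr hrd).symm.dvd_of_dvd_mul_right hdd
    obtain ⟨i, -, hi⟩ := (Nat.dvd_prime_pow hp).mp hdp
    have hvz : (χ : G → ℂ) z = 0 := by
      refine vanish_of_coprime_class hnc hne hz1 ?_
      rw [← hddef, hi]
      exact Nat.Coprime.pow_left i (hp.coprime_iff_not_dvd.mpr hzidx)
    have h := hχB z
    rw [centralChar, centralChar, hvz, mul_zero, zero_div, sub_zero, mul_one, div_one,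
      Blocks.memLocalIdeal_natCast hM] at h
    exact hzidx h
  rw [Blocks.finsum_mem_irr, ← Finset.add_sum_erase _ _ (Finset.mem_univ (CT.trivIrr G))] at horth
  rw [if_pos Blocks.trivIrr_mem_principalBlock] at horth
  simp only [CT.trivIrr_apply, map_one, mul_one] at horth
  refine hq.one_lt.ne' (Nat.dvd_one.mp (CT.dvd_of_isIntegral_div hq.ne_zero ?_))
  rw [Nat.cast_one, eq_neg_of_add_eq_zero_left horth, neg_div, Finset.sum_div]
  refine IsIntegral.neg (IsIntegral.sum _ fun χ hχ => ?_)
  split_ifs with hB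
  · exact hterm χ (Finset.mem_erase.mp hχ).1 hB
  · rw [zero_div]; exact isIntegral_zero

/-- The Sylow subgroup of order `r` is its own centralizer. -/
theorem centralizer_sylow {p q r a b : ℕ} (hp : p.Prime) (hq : q.Prime) [hr : Fact r.Prime]
    (hpq : p ≠ q) (hpr : p ≠ r) (hqr : q ≠ r) (hcard : Nat.card G = p ^ a * q ^ b * r) (S : Sylow r G) :
    Subgroup.centralizer (S : Set G) = (S : Subgroup G) := by
  classical
  have hr1 : (Nat.card G).factorization r = 1 := by
    have hp0 := pow_ne_zero a hp.ne_zero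
    have hq0 := pow_ne_zero b hq.ne_zero
    rw [hcard, Nat.factorization_mul (mul_ne_zero hp0 hq0) hr.out.ne_zero,
      Nat.factorization_mul hp0 hq0]
    simp [hp.factorization, hq.factorization, hr.out.factorization, hpr, hqr]
  have hS : Nat.card S = r := by rw [S.card_eq_multiplicity, hr1, pow_one]
  haveI : IsCyclic (S : Subgroup G) := isCyclic_of_prime_card hS
  have hSC : (S : Subgroup G) ≤ Subgroup.centralizer (S : Set G) := Subgroup.le_centralizer _
  by_cases hc : IsMulCommutative G
  · letI : CommGroup G := { ‹Group G› with mul_comm := hc.is_comm.comm }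
    have hG : (Nat.card G).Prime := IsSimpleGroup.prime_card
    have hd : r ∣ Nat.card G := hcard ▸ dvd_mul_left r _
    have htop : (S : Subgroup G) = ⊤ :=
      Subgroup.eq_top_of_card_eq _ (hS.trans ((Nat.prime_dvd_prime_iff_eq hr.out hG).mp hd))
    exact le_antisymm (by rw [htop]; exact le_top) hSC
  obtain ⟨s₀, hs₀⟩ := exists_prime_orderOf_dvd_card' (G := (S : Subgroup G)) r (by rw [hS])
  have hs : orderOf (s₀ : G) = r := by rw [Subgroup.orderOf_coe, hs₀]
  set C := Subgroup.centralizer (S : Set G) with hC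
  have key : ∀ ℓ : ℕ, ℓ.Prime → ℓ ∣ Nat.card C → ℓ = r := by
    intro ℓ hl hld
    by_contra hlr
    haveI : Fact ℓ.Prime := ⟨hl⟩
    obtain ⟨x₀, hx₀⟩ := exists_prime_orderOf_dvd_card' (G := C) ℓ hld
    have hx : orderOf (x₀ : G) = ℓ := by rw [Subgroup.orderOf_coe, hx₀]
    have hcomm : Commute (s₀ : G) (x₀ : G) := Subgroup.mem_centralizer_iff.mp x₀.2 _ s₀.2
    have hd : ℓ ∣ Nat.card G := hld.trans (Subgroup.card_subgroup_dvd_card _)
    rw [hcard] at hd
    rcases hl.dvd_mul.mp hd with h | h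
    · rcases hl.dvd_mul.mp h with h | h
      · have e := (Nat.prime_dvd_prime_iff_eq hl hp).mp (hl.dvd_of_dvd_pow h)
        exact not_commute hc hp hq hr.out hpq hpr hqr hcard hs (e ▸ hx) hcomm
      · have e := (Nat.prime_dvd_prime_iff_eq hl hq).mp (hl.dvd_of_dvd_pow h)
        exact not_commute hc (a := b) (b := a) hq hp hr.out hpq.symm hqr hpr (hcard.trans (by ring)) hs (e ▸ hx) hcomm
    · exact hlr ((Nat.prime_dvd_prime_iff_eq hl hr.out).mp h)
  have hCr := Nat.eq_prime_pow_of_unique_prime_dvd (n := Nat.card C) Nat.card_pos.ne' fun {d} hd hdd => key d hd hdd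
  have hle : Nat.card C ≤ r := by
    refine Nat.le_of_dvd hr.out.pos ?_
    rw [hCr]
    have h := Nat.factorization_le_iff_dvd Nat.card_pos.ne' Nat.card_pos.ne' |>.mpr (Subgroup.card_subgroup_dvd_card C) r
    rw [hr1, hCr, hr.out.factorization_pow, Finsupp.single_eq_same] at h
    exact (Nat.pow_dvd_pow r h).trans (pow_one r).dvd
  exact (Subgroup.eq_of_le_of_card_ge hSC (hS.symm ▸ hle)).symm

end Cfsg.Agent.SmallSimple.ThreePrimes
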