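import Mathlib
import Cfsg.Agent.S0727
import Cfsg.Agent.Lib.PermGp.ZassenhausEven.Iso
import Cfsg.Agent.Lib.SmallSimple.RecognizePSL

/-!
Recognition of `PSL_2(2^f)` among simple groups acting on `2^f + 1` points with at most two fixed points.
-/

set_option autoImplicit false

namespace Cfsg.Agent.RecognizeEven

open MulAction Subgroup
open scoped MatrixGroups

/-- Isomorphic fields give isomorphic `PSL_2`. -/
theorem psl_congr {K F : Type*} [Field K] [Field F] (φ : K ≃+* F) :
    Nonempty (Matrix.ProjectiveSpecialLinearGroup (Fin 2) K ≃*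
      Matrix.ProjectiveSpecialLinearGroup (Fin 2) F) := by
  let e : Matrix.SpecialLinearGroup (Fin 2) K ≃* Matrix.SpecialLinearGroup (Fin 2) F :=
    MonoidHom.toMulEquiv (Matrix.SpecialLinearGroup.map φ.toRingHom)
      (Matrix.SpecialLinearGroup.map φ.symm.toRingHom)
      (MonoidHom.ext fun A => Matrix.SpecialLinearGroup.ext _ _ fun i j => by simp)
      (MonoidHom.ext fun A => Matrix.SpecialLinearGroup.ext _ _ fun i j => by simp)
  refine ⟨QuotientGroup.congr _ _ e ?_⟩
  refine le_antisymm ?_ fun z hz => ⟨e.symm z, mem_center_iff.2 fun g => e.injective ?_, e.apply_symm_apply z⟩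
  · rintro _ ⟨z, hz, rfl⟩
    refine mem_center_iff.2 fun g => ?_
    obtain ⟨g, rfl⟩ := e.surjective g
    show e g * e z = e z * e g
    rw [← map_mul, ← map_mul, mem_center_iff.1 hz g]
  · rw [map_mul, map_mul, e.apply_symm_apply, mem_center_iff.1 hz]

variable {G : Type*} [Group G] [Finite G] [IsSimpleGroup G] {F : Type*} [Field F] [Fintype F]

/-- A simple group with an action on `2^f + 1` points in which a non-identity element fixes at most two
points, of the order of `PSL_2(2^f)`, is `PSL_2(2^f)`. -/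
theorem mulEquiv_PSL_even (hG : ¬ IsMulCommutative G) {α : Type*} [Fintype α] [MulAction G α]
    {f : ℕ} (hf : 1 ≤ f) (hF : Fintype.card F = 2 ^ f) (hα : Fintype.card α = 2 ^ f + 1)
    (hfix : ∀ (g : G) (a b c : α), a ≠ b → a ≠ c → b ≠ c → g • a = a → g • b = b → g • c = c → g = 1)
    (hcard : Nat.card G = (2 ^ f + 1) * 2 ^ f * (2 ^ f - 1)) :
    Nonempty (G ≃* Matrix.ProjectiveSpecialLinearGroup (Fin 2) F) := by
  classical
  let π := MulAction.toPermHom G α
  have h2 : 2 ≤ 2 ^ f := by
    simpa using Nat.pow_le_pow_right (show 1 ≤ 2 by norm_num) hf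
  obtain ⟨a, b, c, hab, hac, hbc⟩ : ∃ a b c : α, a ≠ b ∧ a ≠ c ∧ b ≠ c :=
    Fintype.two_lt_card_iff.1 (by omega)
  have hinj : Function.Injective π := by
    rw [injective_iff_map_eq_one]
    intro g hg
    have hga : ∀ x : α, g • x = x := fun x => Equiv.ext_iff.1 hg x
    exact hfix g a b c hab hac hbc (hga a) (hga b) (hga c)
  let eH : G ≃* π.range := MonoidHom.ofInjective hinj
  have hval : ∀ (g : G) (x : α), eH g • x = g • x := fun g x => rfl
  have hsharp : ∀ x : Fin 3 ↪ α, stabilizer π.range x = ⊥ := by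
    intro x
    rw [Subgroup.eq_bot_iff_forall]
    intro h hh
    obtain ⟨g, rfl⟩ := eH.surjective h
    have hx : ∀ i, g • x i = x i := fun i => by
      exact DFunLike.congr_fun (mem_stabilizer_iff.1 hh) i
    rw [hfix g (x 0) (x 1) (x 2) (x.injective.ne (by decide)) (x.injective.ne (by decide))
      (x.injective.ne (by decide)) (hx 0) (hx 1) (hx 2), map_one]
  haveI : Fintype π.range := Fintype.ofFinite _
  have h3 : IsMultiplyPretransitive π.range α 3 := by
    refine ⟨fun x y => ?_⟩
    have hbij : Function.Bijective (fun h : π.range => h • x) := by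
      refine (Fintype.bijective_iff_injective_and_card _).2 ⟨fun h k hk => ?_, ?_⟩
      · exact (inv_mul_eq_one.1 (Subgroup.mem_bot.1 (hsharp x ▸ mem_stabilizer_iff.2 (by
          rw [mul_smul, inv_smul_eq_iff]; exact hk) : k⁻¹ * h ∈ (⊥ : Subgroup π.range)))).symm
      · rw [Fintype.card_embedding_eq, Fintype.card_fin, hα, ← Nat.card_eq_fintype_card,
          ← Nat.card_congr eH.toEquiv, hcard]
        simp [Nat.descFactorial_succ]
        ring
    exact hbij.2 y
  obtain ⟨K, _, _, hK, ⟨e⟩⟩ := S0727.result hf hα π.range h3 hsharp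
  let Ψ : G →* Matrix.ProjGenLinGroup (Fin 2) K := (eH.trans e).toMonoidHom
  have hperf : commutator G = ⊤ := by
    rcases (inferInstance : (commutator G).Normal).eq_bot_or_eq_top with h | h
    · refine absurd ⟨⟨fun a b => ?_⟩⟩ hG
      refine commutatorElement_eq_one_iff_mul_comm.1 (Subgroup.mem_bot.1 (h ▸ ?_))
      exact Subgroup.commutator_mem_commutator (Subgroup.mem_top a) (Subgroup.mem_top b)
    · exact h
  have hle : Ψ.range ≤ (Matrix.ProjectiveSpecialLinearGroup.toPGL (n := Fin 2) (R := K)).range := by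
    rw [MonoidHom.range_eq_map, ← hperf, _root_.commutator_def, Subgroup.map_commutator]
    exact (Subgroup.commutator_mono le_top le_top).trans RecognizePSL.commutator_pgl_le
  haveI : Finite (Matrix.ProjGenLinGroup (Fin 2) K) :=
    Finite.of_surjective _ Matrix.ProjGenLinGroup.mk_surjective
  have hj := Matrix.ProjectiveSpecialLinearGroup.toPGL_injective (n := Fin 2) (R := K)
  have hi : Function.Injective Ψ := (eH.trans e).injective
  have hpsl : Nat.card (Matrix.ProjectiveSpecialLinearGroup (Fin 2) K) = Nat.card G := by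
    have h := LinGrp.natCard_PSL_mul (n := Fin 2) (F := K)
    rw [Fintype.card_fin, Nat.card_eq_fintype_card (α := K), PermGp.ZEven.natCard_SL_two_field K, hK,
      show Nat.gcd 2 (2 ^ f - 1) = 1 from (Nat.Prime.coprime_iff_not_dvd Nat.prime_two).2 (fun hd => by
        have : 2 ∣ 2 ^ f := dvd_pow_self 2 (by omega)
        omega), one_mul] at h
    rw [h, hcard]
  have heq := Subgroup.eq_of_le_of_card_ge hle (by
    rw [Nat.card_congr (MonoidHom.ofInjective hi).symm.toEquiv,
      Nat.card_congr (MonoidHom.ofInjective hj).symm.toEquiv, hpsl])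
  obtain ⟨e'⟩ := psl_congr (FiniteField.ringEquivOfCardEq (K := K) (K' := F) (by rw [hK, hF]))
  exact ⟨(((MonoidHom.ofInjective hi).trans (MulEquiv.subgroupCongr heq)).trans
    (MonoidHom.ofInjective hj).symm).trans e'⟩

end Cfsg.Agent.RecognizeEven
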