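import Cfsg.Agent.Lib.SmallSimple.RecognizePSL
import Cfsg.Agent.Lib.SmallSimple.SylowFive
import Cfsg.Agent.Lib.SmallSimple.PrimeSylow

/-!
A simple group of order 360 is `PSL_2(9)`.
-/

set_option autoImplicit false

namespace Cfsg.Agent.Order360

open Subgroup MulAction SmallSimple RecognizePSL

/-- `(ℤ/3)[i]`, for computations. -/
structure K9 where
  re : ZMod 3
  im : ZMod 3
deriving DecidableEq, Fintype

namespace K9

instance : Add K9 := ⟨fun a b => ⟨a.re + b.re, a.im + b.im⟩⟩
instance : Mul K9 := ⟨fun a b => ⟨a.re * b.re - a.im * b.im, a.re * b.im + a.im * b.re⟩⟩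
instance : Zero K9 := ⟨⟨0, 0⟩⟩
instance : One K9 := ⟨⟨1, 0⟩⟩

end K9

set_option maxRecDepth 8000 in
set_option synthInstance.maxSize 2000 in
theorem check : Cover K9 ⟨0, 1⟩ ⟨1, 1⟩ 4 ∧ Check K9 ⟨0, 1⟩ ⟨1, 1⟩ 4 (fun _ => true) := by
  unfold Cover Check
  decide +kernel

theorem zmod3_sq : ∀ a b : ZMod 3, a * a + b * b = 0 → a = 0 ∧ b = 0 := by decide

theorem zmod3_ne : ∀ z : ZMod 3, z * z + 1 ≠ 0 := by decide

theorem exists_ringLike {F : Type*} [Field F] [Fintype F] (hF : Fintype.card F = 9) :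
    ∃ φ : K9 ≃ F, (∀ x y, φ (x + y) = φ x + φ y) ∧ (∀ x y, φ (x * y) = φ x * φ y) ∧
      φ 0 = 0 ∧ φ 1 = 1 := by
  haveI : Fact (Nat.Prime 3) := ⟨Nat.prime_three⟩
  obtain ⟨p, hchar⟩ := CharP.exists F
  obtain ⟨n, hp, hn⟩ := FiniteField.card F p
  have hp3 : p = 3 := by
    have h : p ∣ 3 ^ 2 := by rw [show (3 : ℕ) ^ 2 = 9 by norm_num, ← hF, hn]; exact dvd_pow_self p n.ne_zero
    exact (Nat.prime_dvd_prime_iff_eq hp Nat.prime_three).1 (hp.dvd_of_dvd_pow h)
  subst hp3
  let c : ZMod 3 →+* F := ZMod.castHom dvd_rfl F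
  obtain ⟨j, hj⟩ := FiniteField.isSquare_neg_one_iff.2 (show Fintype.card F % 4 ≠ 3 by rw [hF]; norm_num)
  let f : K9 → F := fun x => c x.re + c x.im * j
  have hadd : ∀ x y, f (x + y) = f x + f y := fun x y => by
    show c (x.re + y.re) + c (x.im + y.im) * j = _
    simp only [f, map_add]; ring
  have hmul : ∀ x y, f (x * y) = f x * f y := fun x y => by
    show c (x.re * y.re - x.im * y.im) + c (x.re * y.im + x.im * y.re) * j = _
    simp only [f, map_add, map_sub, map_mul]
    linear_combination (c x.im * c y.im) * hj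
  have hker : ∀ a b : ZMod 3, c a + c b * j = 0 → a = 0 ∧ b = 0 := by
    intro a b h
    have h1 : c (a * a + b * b) = 0 := by
      simp only [map_add, map_mul]
      linear_combination (c a - c b * j) * h - (c b * c b) * hj
    have h2 : a * a + b * b = 0 := c.injective (by rw [h1, map_zero])
    exact zmod3_sq a b h2
  have hinj : Function.Injective f := by
    rintro ⟨a, b⟩ ⟨a', b'⟩ h
    obtain ⟨h1, h2⟩ := hker (a - a') (b - b') (by
      simp only [f] at h
      simp only [map_sub]; linear_combination h)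
    rw [sub_eq_zero] at h1 h2
    rw [h1, h2]
  refine ⟨Equiv.ofBijective f ((Nat.bijective_iff_injective_and_card f).2 ⟨hinj, ?_⟩), hadd, hmul, ?_, ?_⟩
  · rw [Nat.card_eq_fintype_card, Nat.card_eq_fintype_card, hF]; rfl
  · show c 0 + c 0 * j = 0
    simp
  · show c 1 + c 0 * j = 1
    simp

variable {G : Type*} [Group G] [Finite G] [IsSimpleGroup G] [Fact (Nat.Prime 3)]

section

variable (h : Nat.card G = 360) (hnc : ¬ IsMulCommutative G)
include h

theorem card_sylow (P : Sylow 3 G) : Nat.card ↥(P : Subgroup G) = 9 := by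
  rw [card_sylow_of_eq (k := 2) (m := 40) P (by rw [h]; norm_num) (by norm_num)]; norm_num

theorem comm_sylow (P : Sylow 3 G) {a b : G} (ha : a ∈ (P : Subgroup G)) (hb : b ∈ (P : Subgroup G)) :
    a * b = b * a :=
  congrArg Subtype.val (IsPGroup.commutative_of_card_eq_prime_sq (G := ↥(P : Subgroup G)) (p := 3)
    (by rw [card_sylow h P]; norm_num) ⟨a, ha⟩ ⟨b, hb⟩)

include hnc

theorem card_sylow_eq : Nat.card (Sylow 3 G) = 10 := by
  obtain ⟨P⟩ : Nonempty (Sylow 3 G) := inferInstance
  have hd : Nat.card (Sylow 3 G) ∣ 40 := by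
    have h1 := P.card_dvd_index
    have h2 := card_mul_index (P : Subgroup G)
    rw [card_sylow h P, h] at h2
    rwa [show (P : Subgroup G).index = 40 by omega] at h1
  have h3 : 3 ∣ Nat.card G := by rw [h]; norm_num
  have key : ∀ n ∈ Nat.divisors 40, n % 3 = 1 → n = 1 ∨ n = 4 ∨ n = 10 ∨ n = 40 := by decide
  rcases key _ (Nat.mem_divisors.2 ⟨hd, by norm_num⟩) (card_sylow_modEq_one 3 G) with h1 | h1 | h1 | h1
  · exact absurd h1 (card_sylow_ne_one hnc h3)
  · have h2 := card_dvd_factorial_sylow hnc h3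
    rw [h1, h] at h2
    norm_num [Nat.factorial] at h2
  · exact h1
  · exfalso
    have hN := card_sylow_mul P
    rw [h1, h] at hN
    refine not_normalizer_le_centralizer hnc h3 P ?_
    have heq : (P : Subgroup G) = normalizer ((P : Subgroup G) : Set G) :=
      eq_of_le_of_card_ge le_normalizer (by rw [card_sylow h P]; omega)
    intro a ha
    rw [← heq] at ha
    exact mem_centralizer_iff.2 fun b hb => comm_sylow h P hb ha

/-- Two Sylow 3-subgroups meet trivially. -/
theorem inter_trivial (P R : Sylow 3 G) (hPR : P ≠ R) {x : G} (hxP : x ∈ (P : Subgroup G))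
    (hxR : x ∈ (R : Subgroup G)) : x = 1 := by
  classical
  by_contra hx
  set C := centralizer ({x} : Set G) with hCdef
  have hle : ∀ Q : Sylow 3 G, x ∈ (Q : Subgroup G) → (Q : Subgroup G) ≤ C := fun Q hQ a ha =>
    mem_centralizer_singleton_iff.2 (comm_sylow h Q ha hQ)
  have hCtop : C ≠ ⊤ := centralizer_singleton_ne_top hnc hx
  -- the Sylow number of `C`
  have hn := card_sylow_subgroup_mul P C (hle P hxP)
  have h9 : 9 ∣ Nat.card C := card_sylow h P ▸ card_dvd_of_le (hle P hxP)
  have hcard := card_dvd_factorial_index hCtop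
  have hidx := card_mul_index C
  rw [h] at hidx hcard
  have hne : Nat.card (Sylow 3 C) ≠ 1 := by
    intro h1
    haveI := (Nat.card_eq_one_iff_unique.1 h1).1
    exact hPR (Sylow.subtype_injective (hP := hle P hxP) (hQ := hle R hxR) (Subsingleton.elim _ _))
  have hmod : Nat.card (Sylow 3 C) % 3 = 1 := card_sylow_modEq_one 3 C
  have hdvd : Nat.card (Sylow 3 C) ∣ Nat.card C / 9 := by
    have hPN : (P : Subgroup G) ≤ normalizer ((P : Subgroup G) : Set G) ⊓ C :=
      le_inf le_normalizer (hle P hxP)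
    obtain ⟨c, hc⟩ := card_sylow h P ▸ card_dvd_of_le hPN
    rw [hc] at hn
    exact ⟨c, by rw [← hn, show Nat.card (Sylow 3 C) * (9 * c) = Nat.card (Sylow 3 C) * c * 9 by ring,
      Nat.mul_div_cancel _ (by norm_num)]⟩
  have h6 : 6 ≤ C.index := by
    by_contra hlt
    have : C.index.factorial ∣ 120 := Nat.factorial_dvd_factorial (show C.index ≤ 5 by omega)
    exact absurd (Nat.le_of_dvd (by norm_num) (hcard.trans this)) (by norm_num)
  have hC36 : Nat.card C = 36 ∧ Nat.card (Sylow 3 C) = 4 := by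
    obtain ⟨d, hd⟩ := h9
    rw [hd, Nat.mul_div_cancel_left d (by norm_num)] at hdvd
    rw [hd] at hidx ⊢
    have hd6 : d ≤ 6 := by nlinarith
    have hle' := Nat.le_of_dvd (Nat.pos_of_ne_zero (by rintro rfl; simp at hidx)) hdvd
    have hdd : d ∣ 40 := ⟨C.index, by linarith⟩
    interval_cases d <;> interval_cases hS : Nat.card (Sylow 3 C) <;>
      (try norm_num at hdd hdvd hmod hne) <;> omega
  obtain ⟨hC, hS4⟩ := hC36
  have hxC : x ∈ C := hle P hxP hxP
  have hxo : orderOf x = 3 ∨ orderOf x = 9 := by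
    have := card_sylow h P ▸ orderOf_dvd_natCard _ hxP
    obtain ⟨i, hi, hi'⟩ := (Nat.dvd_prime_pow Nat.prime_three).1 (show orderOf x ∣ 3 ^ 2 from this)
    interval_cases i
    · exact absurd (orderOf_eq_one_iff.1 (by simpa using hi')) hx
    · exact Or.inl hi'
    · exact Or.inr hi'
  -- every Sylow subgroup of `C` contains `x`
  have hxS : ∀ S : Sylow 3 C, (⟨x, hxC⟩ : C) ∈ (S : Subgroup C) := by
    intro S
    refine SylowFive.sylow_le_of_mem_normalizer S (Subgroup.mem_normalizer_iff.2 fun a => ?_) 2 ?_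
    · have : (⟨x, hxC⟩ : C) * a * (⟨x, hxC⟩ : C)⁻¹ = a := by
        rw [mul_inv_eq_iff_eq_mul]
        exact Subtype.ext (mem_centralizer_singleton_iff.1 a.2).symm
      rw [this]
    · refine Subtype.ext ?_
      show x ^ (3 ^ 2) = 1
      rcases hxo with ho | ho
      · rw [show (3 : ℕ) ^ 2 = 3 * 3 by norm_num, pow_mul]
        nth_rw 1 [← ho]
        rw [pow_orderOf_eq_one, one_pow]
      · rw [show (3 : ℕ) ^ 2 = 9 by norm_num, ← ho, pow_orderOf_eq_one]
  set xC : C := ⟨x, hxC⟩
  set Z := zpowers xC with hZdef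
  have hSc : ∀ S : Sylow 3 C, Nat.card ↥(S : Subgroup C) = 9 := fun S => by
    rw [card_sylow_of_eq (k := 2) (m := 4) S (by rw [hC]; norm_num) (by norm_num)]; norm_num
  have hZ : Nat.card Z = 3 := by
    rw [Nat.card_zpowers, ← orderOf_coe xC]
    rcases hxo with ho | ho
    · exact ho
    · exfalso
      apply hne
      haveI : Subsingleton (Sylow 3 C) := ⟨fun S T => Sylow.ext (by
        have e : ∀ S : Sylow 3 C, zpowers xC = (S : Subgroup C) := fun S =>
          eq_of_le_of_card_ge (zpowers_le.2 (hxS S)) (by rw [hSc, Nat.card_zpowers, ← orderOf_coe xC, ho])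
        rw [← e S, ← e T])⟩
      exact Nat.card_unique
  -- few elements of 2-power order
  haveI := Fintype.ofFinite (Sylow 3 C)
  let A := {a : C // a ^ 4 = 1}
  have hA : Nat.card A ≤ 4 := by
    let ψ : (Σ S : Sylow 3 C, {a : C // a ∈ (S : Subgroup C) ∧ a ∉ Z}) ⊕ (A × Z) → C :=
      Sum.elim (fun a => a.2.1) (fun a => a.1.1 * a.2.1)
    have hcomm : ∀ (a : C) (z : Z), Commute a (z : C) := by
      rintro a ⟨z, i, rfl⟩
      exact Commute.zpow_right (Subtype.ext (mem_centralizer_singleton_iff.1 a.2)) i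
    have hz4 : ∀ z : Z, (z : C) ^ 3 = 1 := fun z => by
      have h := congrArg Subtype.val (pow_card_eq_one' (x := z))
      rwa [hZ] at h
    have hψ : Function.Injective ψ := by
      rintro (⟨S, a, ha, haZ⟩ | ⟨a, z⟩) (⟨T, b, hb, hbZ⟩ | ⟨b, w⟩) hab <;>
        simp only [ψ, Sum.elim_inl, Sum.elim_inr] at hab
      · subst hab
        have hST : S = T := by
          by_contra hST
          apply haZ
          have hlt : Z ≤ (S : Subgroup C) ⊓ T := zpowers_le.2 ⟨hxS S, hxS T⟩
          obtain ⟨i, hi, hi'⟩ := (Nat.dvd_prime_pow Nat.prime_three).1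
            (show Nat.card ↥((S : Subgroup C) ⊓ T) ∣ 3 ^ 2 from (card_dvd_of_le inf_le_left).trans (dvd_of_eq (by rw [hSc S]; norm_num)))
          have hle3 := hZ ▸ Nat.le_of_dvd Nat.card_pos (card_dvd_of_le hlt)
          interval_cases i
          · omega
          · rw [eq_of_le_of_card_ge hlt (by rw [hZ, hi']; norm_num)]
            exact ⟨ha, hb⟩
          · refine absurd (Sylow.ext ?_) hST
            have e1 := eq_of_le_of_card_ge (inf_le_left : (S : Subgroup C) ⊓ T ≤ S) (by rw [hi', hSc]; norm_num)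
            have e2 := eq_of_le_of_card_ge (inf_le_right : (S : Subgroup C) ⊓ T ≤ T) (by rw [hi', hSc]; norm_num)
            exact e1.symm.trans e2
        subst hST
        rfl
      · exfalso
        have h9 : a ^ 9 = 1 := by
          have h := congrArg Subtype.val (pow_card_eq_one' (x := (⟨a, ha⟩ : (S : Subgroup C))))
          rwa [hSc] at h
        rw [hab, (hcomm b.1 w).mul_pow, show (9 : ℕ) = 4 * 2 + 1 by norm_num, pow_succ, pow_mul, b.2,
          show (4 : ℕ) * 2 + 1 = 3 * 3 by norm_num, pow_mul (w : C), hz4, one_pow, one_pow, one_mul,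
          mul_one] at h9
        exact haZ (by rw [hab, h9, one_mul]; exact w.2)
      · exfalso
        have h9 : b ^ 9 = 1 := by
          have h := congrArg Subtype.val (pow_card_eq_one' (x := (⟨b, hb⟩ : (T : Subgroup C))))
          rwa [hSc] at h
        rw [← hab, (hcomm a.1 z).mul_pow, show (9 : ℕ) = 4 * 2 + 1 by norm_num, pow_succ, pow_mul, a.2,
          show (4 : ℕ) * 2 + 1 = 3 * 3 by norm_num, pow_mul (z : C), hz4, one_pow, one_pow, one_mul,
          mul_one] at h9
        exact hbZ (by rw [← hab, h9, one_mul]; exact z.2)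
      · have h4 := congrArg (fun c => c ^ 4) hab
        simp only [(hcomm a.1 z).mul_pow, (hcomm b.1 w).mul_pow, a.2, b.2, one_mul] at h4
        rw [pow_succ (z : C) 3, pow_succ (w : C) 3, hz4, hz4, one_mul, one_mul] at h4
        rw [← h4] at hab
        obtain rfl := Subtype.ext h4
        rw [Subtype.ext (mul_right_cancel hab)]
    have h6 := Nat.card_le_card_of_injective ψ hψ
    rw [hC, Nat.card_sum, Nat.card_prod, hZ, Nat.card_sigma] at h6
    have h7 : ∀ S : Sylow 3 C, Nat.card {a : C // a ∈ (S : Subgroup C) ∧ a ∉ Z} = 6 := fun S => by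
      rw [show Nat.card {a : C // a ∈ (S : Subgroup C) ∧ a ∉ Z} =
        ((S : Subgroup C) : Set C).ncard - (Z : Set C).ncard by
          rw [← Set.ncard_sdiff (show (Z : Set C) ⊆ (S : Subgroup C) from zpowers_le.2 (hxS S))]
          rfl]
      rw [← Nat.card_coe_set_eq, ← Nat.card_coe_set_eq]
      show Nat.card (S : Subgroup C) - Nat.card Z = 6
      rw [hSc, hZ]
    rw [Finset.sum_congr rfl (fun S _ => h7 S), Finset.sum_const, Finset.card_univ,
      ← Nat.card_eq_fintype_card, hS4, smul_eq_mul] at h6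
    omega
  -- hence a normal subgroup of order 4
  haveI : Fact (Nat.Prime 2) := ⟨Nat.prime_two⟩
  obtain ⟨U⟩ : Nonempty (Sylow 2 C) := inferInstance
  have hU : Nat.card ↥(U : Subgroup C) = 4 := by
    rw [card_sylow_of_eq (k := 2) (m := 9) U (by rw [hC]; norm_num) (by norm_num)]; norm_num
  have hU4 : ∀ a ∈ (U : Subgroup C), a ^ 4 = 1 := fun a ha => by
    have h := congrArg Subtype.val (pow_card_eq_one' (x := (⟨a, ha⟩ : (U : Subgroup C))))
    rwa [hU] at h
  have hUset : ((U : Subgroup C) : Set C) = {a | a ^ 4 = 1} := by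
    refine Set.eq_of_subset_of_ncard_le hU4 ?_
    rw [← Nat.card_coe_set_eq, ← Nat.card_coe_set_eq]
    show Nat.card A ≤ Nat.card (U : Subgroup C)
    rw [hU]; exact hA
  have hUn : (U : Subgroup C).Normal := ⟨fun a ha g => by
    have : g * a * g⁻¹ ∈ {a : C | a ^ 4 = 1} := by
      show (g * a * g⁻¹) ^ 4 = 1
      rw [conj_pow, hU4 a ha, mul_one, mul_inv_cancel]
    rwa [← hUset] at this⟩
  set V := (U : Subgroup C).map C.subtype with hV
  have hVc : Nat.card V = 4 := by rw [hV, card_map_of_injective C.subtype_injective, hU]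
  have hCN : C ≤ normalizer (V : Set G) := by
    intro g hg
    rw [Subgroup.mem_normalizer_iff]
    intro a
    constructor
    · rintro ⟨b, hb, rfl⟩
      exact ⟨⟨g, hg⟩ * b * ⟨g, hg⟩⁻¹, hUn.conj_mem b hb _, by simp⟩
    · rintro ⟨b, hb, hb'⟩
      refine ⟨(⟨g, hg⟩ : C)⁻¹ * b * ⟨g, hg⟩, hUn.conj_mem' b hb _, ?_⟩
      simp only [map_mul, map_inv, Subgroup.coe_subtype]
      rw [show ((b : C) : G) = g * a * g⁻¹ from hb']
      group
  have h8 : 8 ∣ Nat.card (normalizer (V : Set G)) := by
    have hVp : IsPGroup 2 V := IsPGroup.of_card (n := 2) (by rw [hVc]; norm_num)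
    obtain ⟨T, hT⟩ := hVp.exists_le_sylow
    have hTc : Nat.card T = 8 := by
      rw [card_sylow_of_eq (k := 3) (m := 45) T (by rw [h]; norm_num) (by norm_num)]; norm_num
    have hTle : (T : Subgroup G) ≤ normalizer (V : Set G) := by
      have h2 : (V.subgroupOf (T : Subgroup G)).index = 2 := by
        have h3 := (V.subgroupOf (T : Subgroup G)).card_mul_index
        rw [Nat.card_congr (subgroupOfEquivOfLe hT).toEquiv, hVc, hTc] at h3
        omega
      exact normal_subgroupOf_iff_le_normalizer hT |>.1 (Subgroup.normal_of_index_eq_two h2)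
    exact hTc ▸ card_dvd_of_le hTle
  have h72 : 72 ∣ Nat.card (normalizer (V : Set G)) := by
    have h36 : 36 ∣ Nat.card (normalizer (V : Set G)) := hC ▸ card_dvd_of_le hCN
    exact Nat.Coprime.mul_dvd_of_dvd_of_dvd (by norm_num : Nat.Coprime 9 8)
      ((by norm_num : (9 : ℕ) ∣ 36).trans h36) h8
  have hNtop : normalizer (V : Set G) = ⊤ := by
    by_contra hN
    have h1 := card_dvd_factorial_index hN
    have h2 := card_mul_index (normalizer (V : Set G))
    obtain ⟨d, hd⟩ := h72
    rw [hd, h] at h2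
    have : (normalizer (V : Set G)).index ≤ 5 :=
      Nat.le_of_dvd (by norm_num) (Dvd.intro_left d (by linarith))
    have h3 := Nat.le_of_dvd (by norm_num) (h1.trans (Nat.factorial_dvd_factorial this))
    rw [h] at h3
    norm_num [Nat.factorial] at h3
  rcases (normalizer_eq_top_iff.1 hNtop).eq_bot_or_eq_top with hb | ht
  · rw [hb, Subgroup.card_bot] at hVc; norm_num at hVc
  · rw [ht, Subgroup.card_top, h] at hVc; norm_num at hVc

theorem mulEquiv_PSL_nine {F : Type*} [Field F] [Fintype F] (hF : Fintype.card F = 9) :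
    Nonempty (G ≃* Matrix.ProjectiveSpecialLinearGroup (Fin 2) F) := by
  classical
  have h10 := card_sylow_eq h hnc
  obtain ⟨P⟩ : Nonempty (Sylow 3 G) := inferInstance
  obtain ⟨R, hR⟩ : ∃ R : Sylow 3 G, R ≠ P := by
    haveI : Nontrivial (Sylow 3 G) := Finite.one_lt_card_iff_nontrivial.1 (by omega)
    exact exists_ne P
  have hp9 : ∀ y ∈ (P : Subgroup G), y ^ 9 = 1 := fun y hy => by
    have h' := congrArg Subtype.val (pow_card_eq_one' (x := (⟨y, hy⟩ : (P : Subgroup G))))
    rwa [card_sylow h P] at h'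
  have hfixP : ∀ y ∈ (P : Subgroup G), y • P = P := fun y hy => SylowFive.smul_eq_of_mem P hy
  have hfree : ∀ y ∈ (P : Subgroup G), ∀ Q : Sylow 3 G, Q ≠ P → y • Q = Q → y = 1 := by
    intro y hy Q hQ hyQ
    exact inter_trivial h hnc P Q (Ne.symm hQ) hy (SylowFive.sylow_le_of_mem_normalizer Q
      ((SylowFive.smul_sylow_eq Q).1 hyQ) 2 (by rw [show (3 : ℕ) ^ 2 = 9 by norm_num, hp9 y hy]))
  haveI : FaithfulSMul G (Sylow 3 G) := by
    refine ⟨fun {a b} hab => ?_⟩
    have hk : b⁻¹ * a ∈ (MulAction.toPermHom G (Sylow 3 G)).ker := Equiv.ext fun Q => by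
      show (b⁻¹ * a) • Q = Q
      rw [mul_smul, hab, inv_smul_smul]
    rcases (MonoidHom.normal_ker (MulAction.toPermHom G (Sylow 3 G))).eq_bot_or_eq_top with hb | ht
    · rw [hb, Subgroup.mem_bot] at hk
      exact (inv_mul_eq_one.1 hk).symm
    · obtain ⟨y, hy⟩ := MulAction.exists_smul_eq G P R
      have hy' : y ∈ (MulAction.toPermHom G (Sylow 3 G)).ker := ht ▸ Subgroup.mem_top y
      exact absurd (hy.symm.trans (Equiv.ext_iff.1 (MonoidHom.mem_ker.1 hy') P)) hR
  let pt : Option ↥(P : Subgroup G) → Sylow 3 G := fun z => z.elim P (fun a => (a : G) • R)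
  have hsn : ∀ a : ↥(P : Subgroup G), pt (some a) ≠ P := fun a ha => hR
    (smul_left_cancel (a : G) (ha.trans (hfixP _ a.2).symm))
  have hpt : Function.Bijective pt := by
    refine (Nat.bijective_iff_injective_and_card pt).2 ⟨?_, by rw [Finite.card_option, card_sylow h P, h10]⟩
    rintro (_ | a) (_ | b) hab
    · rfl
    · exact absurd hab.symm (hsn b)
    · exact absurd hab (hsn a)
    · have h1 : ((b : G)⁻¹ * a) • R = R := by
        rw [mul_smul, show (a : G) • R = (b : G) • R from hab, inv_smul_smul]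
      rw [Subtype.ext (inv_mul_eq_one.1 (hfree _ (mul_mem (inv_mem b.2) a.2) R hR h1)).symm]
  haveI : IsMultiplyPretransitive G (Sylow 3 G) 2 := by
    have h0 : ∀ a b : Sylow 3 G, a ≠ b → ∃ y : G, y • P = a ∧ y • R = b := by
      intro a b hab
      obtain ⟨y, rfl⟩ := MulAction.exists_smul_eq G P a
      obtain ⟨z, hz⟩ := hpt.2 (y⁻¹ • b)
      cases z with
      | none => exact absurd (eq_inv_smul_iff.1 hz) hab
      | some z =>
        refine ⟨y * (z : G), ?_, ?_⟩
        · rw [mul_smul, hfixP _ z.2]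
        · rw [mul_smul]
          exact eq_inv_smul_iff.1 hz
    rw [is_two_pretransitive_iff]
    intro a b c d hab hcd
    obtain ⟨y, rfl, rfl⟩ := h0 a b hab
    obtain ⟨y', rfl, rfl⟩ := h0 c d hcd
    exact ⟨y' * y⁻¹, by rw [mul_smul, inv_smul_smul], by rw [mul_smul, inv_smul_smul]⟩
  -- the two point stabiliser
  set S : Subgroup G := stabilizer G P ⊓ stabilizer G R with hSdef
  have hN : Nat.card (stabilizer G P) = 36 := by
    have h1 := (stabilizer G P).index_mul_card
    rw [index_stabilizer_of_transitive, h10, h] at h1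
    omega
  have hScard : Nat.card S = 4 := by
    have h1 := (stabilizer ↥(stabilizer G P) R).index_mul_card
    rw [hN] at h1
    have h2 : Nat.card (stabilizer ↥(stabilizer G P) R) = Nat.card S :=
      Nat.card_congr
        { toFun := fun a => ⟨a.1.1, a.1.2, a.2⟩
          invFun := fun a => ⟨⟨a.1, a.2.1⟩, a.2.2⟩
          left_inv := fun _ => rfl
          right_inv := fun _ => rfl }
    have h3 : orbit ↥(stabilizer G P) R = {Q | Q ≠ P} := by
      ext Q
      constructor
      · rintro ⟨a, rfl⟩ hQ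
        exact hR (smul_left_cancel (a : G) (show (a : G) • R = (a : G) • P from hQ.trans a.2.symm))
      · intro hQ
        obtain ⟨z, hz⟩ := hpt.2 Q
        cases z with
        | none => exact absurd hz.symm hQ
        | some z => exact ⟨⟨(z : G), hfixP _ z.2⟩, hz⟩
    rw [index_stabilizer, h3, h2] at h1
    have h4 : ({Q : Sylow 3 G | Q ≠ P}).ncard = 9 := by
      rw [show {Q : Sylow 3 G | Q ≠ P} = {P}ᶜ from rfl, Set.ncard_compl, Set.ncard_singleton, h10]
    rw [h4] at h1
    omega
  -- fixed point free on `P`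
  have hnoinv : ∀ s ∈ S, s * s = 1 → s ≠ 1 → ∀ y ∈ (P : Subgroup G), s * y = y * s → y = 1 := by
    intro s hs hss hs1 y hy hsy
    by_contra hy1
    haveI := Fintype.ofFinite (Sylow 3 G)
    set f : Equiv.Perm (Sylow 3 G) := MulAction.toPerm s
    have hff : f * f = 1 := Equiv.ext fun Q => by
      show s • s • Q = Q
      rw [← mul_smul, hss, one_smul]
    have hsign := sign_of_involutive f hff
    rw [sign_toPerm_eq_one hnc] at hsign
    -- the fixed points are permuted by `y` with one fixed point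
    let Fs : Type _ := {Q : Sylow 3 G // s • Q = Q}
    letI : MulAction (zpowers y) Fs :=
      { smul := fun a Q => ⟨(a : G) • Q.1, by
          have hc : Commute s (a : G) := by
            obtain ⟨i, hi⟩ := a.2
            rw [← hi]
            exact Commute.zpow_right hsy i
          rw [← mul_smul, hc.eq, mul_smul, Q.2]⟩
        one_smul := fun Q => Subtype.ext (one_smul G Q.1)
        mul_smul := fun a b Q => Subtype.ext (mul_smul (a : G) (b : G) Q.1) }
    have hyp : IsPGroup 3 (zpowers y) := P.2.to_le (zpowers_le.2 hy)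
    have hmod := hyp.card_modEq_card_fixedPoints Fs
    have hfix : Nat.card (fixedPoints (zpowers y) Fs) = 1 := by
      refine Nat.card_eq_one_iff_unique.2 ⟨⟨fun a b => ?_⟩, ⟨⟨⟨P, hs.1⟩, fun a => Subtype.ext
        (hfixP _ (zpowers_le.2 hy a.2))⟩⟩⟩
      have e : ∀ a : fixedPoints (zpowers y) Fs, a.1.1 = P := fun a => by
        by_contra hQ
        exact hy1 (hfree y hy _ hQ (congrArg Subtype.val (a.2 ⟨y, mem_zpowers y⟩)))
      exact Subtype.ext (Subtype.ext ((e a).trans (e b).symm))
    rw [hfix] at hmod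
    have hsupp : f.support.card + Nat.card Fs = 10 := by
      have h' : Nat.card Fs = Nat.card ↥(f.supportᶜ) :=
        Nat.card_congr (Equiv.subtypeEquivRight fun b => by simp [f])
      rw [h', Nat.card_eq_finsetCard, Finset.card_add_card_compl, ← Nat.card_eq_fintype_card, h10]
    have heven : 2 ∣ f.support.card := by
      have h2 : ∀ n ∈ f.cycleType, 2 ∣ n := fun n hn => by
        have hd := Equiv.Perm.dvd_of_mem_cycleType hn
        have ho : orderOf f ∣ 2 := orderOf_dvd_of_pow_eq_one (by rw [pow_two, hff])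
        have := Nat.le_of_dvd (by norm_num) (hd.trans ho)
        have := Equiv.Perm.two_le_of_mem_cycleType hn
        omega
      rw [← Equiv.Perm.sum_cycleType]
      exact Multiset.dvd_sum h2
    have hne : f.support.card ≠ 0 := by
      rw [Finset.card_ne_zero, Finset.nonempty_iff_ne_empty, Ne, Equiv.Perm.support_eq_empty_iff]
      exact fun h' => hs1 (FaithfulSMul.eq_of_smul_eq_smul (α := Sylow 3 G) fun Q =>
        (Equiv.ext_iff.1 h' Q).trans (one_smul G Q).symm)
    have h2 : Even (f.support.card / 2) :=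
      (neg_one_pow_eq_one_iff_even (R := ℤˣ) (by decide)).1 hsign.symm
    rw [Nat.even_iff] at h2
    rw [Nat.ModEq] at hmod
    omega
  have hfpf : ∀ s ∈ S, s ≠ 1 → ∀ y ∈ (P : Subgroup G), s * y = y * s → y = 1 := by
    intro s hs hs1 y hy hsy
    have h4 : s ^ 4 = 1 := by
      have h' := congrArg Subtype.val (pow_card_eq_one' (x := (⟨s, hs⟩ : S)))
      rwa [hScard] at h'
    by_cases h2 : s ^ 2 = 1
    · exact hnoinv s hs (by rwa [← pow_two]) hs1 y hy hsy
    · exact hnoinv (s ^ 2) (pow_mem hs 2) (by rw [← pow_add, h4]) h2 y hy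
        (Commute.pow_left hsy 2)
  have hSP : ∀ s ∈ S, ∀ y ∈ (P : Subgroup G), s * y * s⁻¹ ∈ (P : Subgroup G) := fun s hs y hy =>
    (Subgroup.mem_normalizer_iff.1 ((SylowFive.smul_sylow_eq P).1 hs.1) y).1 hy
  have hinv : ∀ s ∈ S, s * s = 1 → s ≠ 1 → ∀ y ∈ (P : Subgroup G), s * y * s⁻¹ = y⁻¹ := by
    intro s hs hss hs1 y hy
    have hsy := hSP s hs y hy
    have h' := hfpf s hs hs1 (y * (s * y * s⁻¹)) (mul_mem hy hsy) (by
      have hsi : s⁻¹ = s := inv_eq_of_mul_eq_one_right hss
      calc s * (y * (s * y * s⁻¹)) = (s * y * s⁻¹) * (s * (s * y * s⁻¹) * s⁻¹) * s := by group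
        _ = (s * y * s⁻¹) * y * s := by
          congr 2
          rw [hsi]
          calc s * (s * y * s) * s = (s * s) * y * (s * s) := by group
            _ = y := by rw [hss, one_mul, mul_one]
        _ = y * (s * y * s⁻¹) * s := by rw [comm_sylow h P hsy hy])
    exact eq_inv_of_mul_eq_one_right h'
  obtain ⟨u, hu, hu1⟩ := (P : Subgroup G).bot_or_exists_ne_one.resolve_left
    (fun hb => by have := card_sylow h P; rw [hb, Subgroup.card_bot] at this; omega)
  obtain ⟨x, hxS, hx2⟩ : ∃ x ∈ S, x * x ≠ 1 := by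
    by_contra hall
    push_neg at hall
    haveI := Fintype.ofFinite S
    obtain ⟨a, ha, b, hb, hab⟩ := Fintype.exists_pair_of_one_lt_card
      (α := {a : S // a ≠ 1}) (by
        rw [Fintype.card_subtype_compl, Fintype.card_subtype_eq, ← Nat.card_eq_fintype_card, hScard]
        norm_num) |> fun ⟨a, b, hab⟩ => (⟨a.1, a.2, b.1, b.2, fun h => hab (Subtype.ext h)⟩ :
          ∃ a : S, a ≠ 1 ∧ ∃ b : S, b ≠ 1 ∧ a ≠ b)
    have h1 := hinv a a.2 (hall a a.2) (fun h => ha (Subtype.ext h)) u hu
    have h2 := hinv b b.2 (hall b b.2) (fun h => hb (Subtype.ext h)) u hu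
    have habne : (b : G)⁻¹ * a ≠ 1 := fun h => hab (Subtype.ext (inv_mul_eq_one.1 h).symm)
    refine hu1 (hfpf _ (mul_mem (inv_mem b.2) a.2) habne u hu ?_)
    rw [← h2] at h1
    calc (b : G)⁻¹ * a * u = (b : G)⁻¹ * (a * u * (a : G)⁻¹) * a := by group
      _ = (b : G)⁻¹ * (b * u * (b : G)⁻¹) * a := by rw [h1]
      _ = u * ((b : G)⁻¹ * a) := by group
  have hx4 : (x * x) * (x * x) = 1 := by
    have h' := congrArg Subtype.val (pow_card_eq_one' (x := (⟨x, hxS⟩ : S)))
    rw [hScard] at h'
    simpa [pow_succ, mul_assoc] using h'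
  have hxx := hinv (x * x) (mul_mem hxS hxS) hx4 hx2
  set v := x * u * x⁻¹ with hv
  have hvP : v ∈ (P : Subgroup G) := hSP x hxS u hu
  have hxv : x * v * x⁻¹ = u⁻¹ := by
    rw [hv, ← hxx u hu]; group
  have hnotmem : ∀ w ∈ (P : Subgroup G), w ≠ 1 → x * w * x⁻¹ ∉ zpowers w := by
    rintro w hw hw1 ⟨j, hj⟩
    have hj' : w ^ j = x * w * x⁻¹ := hj
    have h2 : x * x * w * (x * x)⁻¹ = w ^ (j * j) := by
      calc x * x * w * (x * x)⁻¹ = x * (x * w * x⁻¹) * x⁻¹ := by group
        _ = x * w ^ j * x⁻¹ := by rw [hj']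
        _ = (x * w * x⁻¹) ^ j := conj_zpow.symm
        _ = w ^ (j * j) := by rw [← hj', ← zpow_mul]
    rw [hxx w hw] at h2
    have ho : (orderOf w : ℤ) ∣ j * j + 1 := by
      rw [orderOf_dvd_iff_zpow_eq_one, zpow_add, zpow_one, ← h2, inv_mul_cancel]
    obtain ⟨i, hi, hi'⟩ := (Nat.dvd_prime_pow Nat.prime_three).1
      (show orderOf w ∣ 3 ^ 2 from (orderOf_dvd_natCard _ hw).trans (dvd_of_eq (by rw [card_sylow h P]; norm_num)))
    rcases i with _ | i
    · exact hw1 (orderOf_eq_one_iff.1 (by simpa using hi'))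
    · have h3 : (3 : ℤ) ∣ j * j + 1 :=
        (Int.natCast_dvd_natCast.2 (hi' ▸ dvd_pow_self 3 (Nat.succ_ne_zero i))).trans ho
      have h4 := (ZMod.intCast_zmod_eq_zero_iff_dvd (j * j + 1) 3).2 (by exact_mod_cast h3)
      push_cast at h4
      exact zmod3_ne _ h4
  have hcube : ∀ w ∈ (P : Subgroup G), w ^ 3 = 1 := by
    intro w hw
    by_contra h3
    obtain ⟨i, hi, hi'⟩ := (Nat.dvd_prime_pow Nat.prime_three).1
      (show orderOf w ∣ 3 ^ 2 from (orderOf_dvd_natCard _ hw).trans (dvd_of_eq (by rw [card_sylow h P]; norm_num)))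
    interval_cases i
    · have e : w = 1 := orderOf_eq_one_iff.1 (by simpa using hi')
      exact h3 (by rw [e, one_pow])
    · exact h3 (by rw [pow_one] at hi'; rw [← hi', pow_orderOf_eq_one])
    · have hz : zpowers w = (P : Subgroup G) := eq_of_le_of_card_ge (zpowers_le.2 hw)
        (by rw [Nat.card_zpowers, hi', card_sylow h P]; norm_num)
      exact hnotmem w hw (fun h' => h3 (by rw [h', one_pow])) (hz.symm ▸ hSP x hxS w hw)
  let ι : K9 → ↥(P : Subgroup G) := fun a =>
    ⟨u ^ a.re.val * v ^ a.im.val, mul_mem (pow_mem hu _) (pow_mem hvP _)⟩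
  have hι : Function.Bijective ι := by
    have hmod : ∀ (w : G), w ∈ (P : Subgroup G) → ∀ a b : ZMod 3,
        w ^ (a + b).val = w ^ a.val * w ^ b.val := fun w hw a b => by
      rw [ZMod.val_add, ← pow_add, ← pow_eq_pow_mod _ (hcube w hw)]
    refine (Nat.bijective_iff_injective_and_card ι).2 ⟨?_, by
      rw [card_sylow h P, Nat.card_eq_fintype_card]; rfl⟩
    rintro ⟨a, b⟩ ⟨a', b'⟩ hab
    have h1 : u ^ a.val * v ^ b.val = u ^ a'.val * v ^ b'.val := congrArg Subtype.val hab
    have h2 : v ^ (b - b').val ∈ zpowers u := by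
      have e1 : v ^ b.val = v ^ (b - b').val * v ^ b'.val := by rw [← hmod v hvP, sub_add_cancel]
      have e2 : v ^ (b - b').val = (u ^ a.val)⁻¹ * u ^ a'.val := by
        rw [e1, ← mul_assoc] at h1
        rw [eq_inv_mul_iff_mul_eq]
        exact mul_right_cancel h1
      rw [e2]
      exact mul_mem (inv_mem (pow_mem (mem_zpowers u) _)) (pow_mem (mem_zpowers u) _)
    have hb : b = b' := by
      by_contra hb
      have hne : (b - b').val = 1 ∨ (b - b').val = 2 := by
        have := ZMod.val_lt (b - b')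
        have : (b - b').val ≠ 0 := fun h' => hb (sub_eq_zero.1 ((ZMod.val_eq_zero _).1 h'))
        omega
      refine hnotmem u hu hu1 ?_
      rw [← hv]
      rcases hne with h' | h' <;> rw [h'] at h2
      · simpa using h2
      · have h3 := inv_mem h2
        rwa [inv_eq_of_mul_eq_one_right (show v ^ 2 * v = 1 by rw [← pow_succ]; exact hcube v hvP)] at h3
    subst hb
    have ho : orderOf u = 3 := by
      exact orderOf_eq_prime (hcube u hu) hu1
    have := pow_injOn_Iio_orderOf (by rw [Set.mem_Iio, ho]; exact ZMod.val_lt a)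
      (by rw [Set.mem_Iio, ho]; exact ZMod.val_lt a') (mul_right_cancel h1)
    rw [ZMod.val_injective _ this]
  have hι_add : ∀ a b : K9, (ι (a + b) : G) = (ι a : G) * ι b := by
    intro a b
    show u ^ (a.re + b.re).val * v ^ (a.im + b.im).val = _
    rw [ZMod.val_add, ZMod.val_add, ← pow_eq_pow_mod _ (hcube u hu),
      ← pow_eq_pow_mod _ (hcube v hvP), pow_add, pow_add]
    simp only [ι]
    rw [mul_assoc, mul_assoc]
    congr 1
    rw [← mul_assoc, ← mul_assoc, comm_sylow h P (pow_mem hu b.re.val) (pow_mem hvP a.im.val)]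
  clear_value v
  have hxι : ∀ a : K9, x * (ι a : G) * x⁻¹ = (ι ((⟨0, 1⟩ : K9) * a) : G) := by
    intro a
    show x * (u ^ a.re.val * v ^ a.im.val) * x⁻¹ =
      u ^ (0 * a.re - 1 * a.im).val * v ^ (0 * a.im + 1 * a.re).val
    rw [show x * (u ^ a.re.val * v ^ a.im.val) * x⁻¹ =
      (x * u * x⁻¹) ^ a.re.val * (x * v * x⁻¹) ^ a.im.val by rw [conj_pow (a := x) (b := v), conj_pow (a := x) (b := u), conj_mul], hxv, ← hv,
      zero_mul, zero_mul, one_mul, one_mul, zero_sub, zero_add,
      comm_sylow h P (pow_mem hvP _) (pow_mem (inv_mem hu) _)]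
    congr 1
    rw [inv_pow, inv_eq_iff_mul_eq_one, ← pow_add]
    have : (a.im.val + (-a.im).val) % 3 = 0 := by rw [← ZMod.val_add, add_neg_cancel, ZMod.val_zero]
    rw [pow_eq_pow_mod _ (hcube u hu), this, pow_zero]
  obtain ⟨φ, hadd, hmul, h0, h1⟩ := exists_ringLike hF
  let e : Option F ≃ Sylow 3 G :=
    ((Equiv.optionCongr (φ.symm.trans (Equiv.ofBijective ι hι)))).trans (Equiv.ofBijective pt hpt)
  have hnone : e none = P := rfl
  have hsome : ∀ z : F, e (some z) = (ι (φ.symm z) : G) • R := fun z => rfl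
  have hPSL : Nat.card G = Nat.card (Matrix.ProjectiveSpecialLinearGroup (Fin 2) F) := by
    have h1 := LinGrp.natCard_PSL_mul (n := Fin 2) (F := F)
    have h2 := LinGrp.natCard_SL_mul (F := F) 2 (by norm_num)
    rw [hF, Fin.prod_univ_two] at h2
    norm_num [-Nat.card_eq_fintype_card] at h2
    rw [Fintype.card_fin, Nat.card_eq_fintype_card (α := F), hF, show Nat.gcd 2 (9 - 1) = 2 by rfl] at h1
    omega
  refine mulEquiv_PSL_of_check hnc e φ hadd hmul h0 h1 (⟨0, 1⟩ : K9) ⟨1, 1⟩ 4 (fun _ => true)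
    check.1 check.2 ?_ x ?_ (by rw [h, Nat.card_eq_fintype_card, hF]) (fun _ _ _ _ _ => rfl) hPSL
  · intro t
    refine ⟨(ι (φ.symm t) : G), fun z => ?_⟩
    cases z with
    | none => exact hfixP _ (ι (φ.symm t)).2
    | some z =>
      simp only [affMap, Option.map_some, one_mul, hsome]
      rw [← mul_smul, ← hι_add]
      congr 3
      apply φ.injective
      rw [hadd, φ.apply_symm_apply, φ.apply_symm_apply, φ.apply_symm_apply, add_comm]
  · intro z
    cases z with
    | none => exact hxS.1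
    | some z =>
      simp only [affMap, Option.map_some, add_zero, hsome]
      rw [← mul_smul, show x * (ι (φ.symm z) : G) = (x * (ι (φ.symm z) : G) * x⁻¹) * x by group,
        mul_smul, hxι, show x • R = R from hxS.2]
      congr 3
      apply φ.injective
      rw [hmul, φ.apply_symm_apply, φ.apply_symm_apply]

end

end Cfsg.Agent.Order360
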