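import Mathlib

/-!
# The degree equations for an involution centralizer `GL(2,3)`
-/

set_option autoImplicit false

namespace Cfsg.Agent.SmallSimple.Octahedral

theorem three_num {p v o : ℤ} (hp : p % 4 = 2) (ho : o % 2 = 1)
    (he : o * (p - 2) ^ 2 = 288 * (p * (p + 1))) (hv : v * (8 - p) = p * (p + 1)) :
    16 * o = 5616 ∨ 16 * o = 7920 := by
  obtain ⟨k, rfl⟩ : ∃ k, p = 4 * k + 2 := ⟨p / 4, by omega⟩
  have h1 : o * k ^ 2 = 36 * ((2 * k + 1) * (4 * k + 3)) := by linarith [show o * (4 * k + 2 - 2) ^ 2 = 16 * (o * k ^ 2) by ring, show (288 : ℤ) * ((4 * k + 2) * (4 * k + 2 + 1)) = 16 * (36 * ((2 * k + 1) * (4 * k + 3))) by ring]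
  obtain ⟨m, rfl⟩ : (2 : ℤ) ∣ k := by
    have h2 : (2 : ℤ) ∣ o * k ^ 2 := h1 ▸ Dvd.dvd.mul_right (by norm_num) _
    rcases Int.prime_two.dvd_or_dvd h2 with h | h
    · omega
    · exact Int.prime_two.dvd_of_dvd_pow h
  have h2 : o * m ^ 2 = 9 * ((4 * m + 1) * (8 * m + 3)) := by linarith [show o * (2 * m) ^ 2 = 4 * (o * m ^ 2) by ring]
  have hd : m ∣ 27 := ⟨o * m - 288 * m - 180, by linear_combination -h2⟩
  have hn : m.natAbs ∈ Nat.divisors 27 := Nat.mem_divisors.2 ⟨by simpa using Int.natAbs_dvd_natAbs.2 hd, by norm_num⟩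
  rw [show Nat.divisors 27 = {1, 3, 9, 27} by decide] at hn
  simp only [Finset.mem_insert, Finset.mem_singleton] at hn
  rcases hn with h | h | h | h <;> rcases Int.natAbs_eq m with e | e <;> rw [h] at e <;>
    norm_num at e <;> subst e <;> norm_num at h2 hv <;> omega

theorem two_num {p u o : ℤ} (hp : p % 4 = 2) (ho : o % 2 = 1) (ho3 : 3 ∣ o)
    (he : o * (p + 2) ^ 2 = 288 * (p * (p + 1)))
    (hu : p * u ^ 2 + (p ^ 2 + 16 * p + 16) * u - 9 * (p * (1 + p)) = 0) :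
    p = 6 ∧ u = -27 ∧ o = 189 := by
  obtain ⟨k, rfl⟩ : ∃ k, p = 4 * k + 2 := ⟨p / 4, by omega⟩
  have h1 : o * (k + 1) ^ 2 = 36 * ((2 * k + 1) * (4 * k + 3)) := by linarith [show o * (4 * k + 2 + 2) ^ 2 = 16 * (o * (k + 1) ^ 2) by ring, show (288 : ℤ) * ((4 * k + 2) * (4 * k + 2 + 1)) = 16 * (36 * ((2 * k + 1) * (4 * k + 3))) by ring]
  obtain ⟨m, hm⟩ : (2 : ℤ) ∣ k + 1 := by
    have h2 : (2 : ℤ) ∣ o * (k + 1) ^ 2 := h1 ▸ Dvd.dvd.mul_right (by norm_num) _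
    rcases Int.prime_two.dvd_or_dvd h2 with h | h
    · omega
    · exact Int.prime_two.dvd_of_dvd_pow h
  obtain rfl : k = 2 * m - 1 := by omega
  have h2 : o * m ^ 2 = 9 * ((4 * m - 1) * (8 * m - 1)) := by linarith [show o * (2 * m - 1 + 1) ^ 2 = 4 * (o * m ^ 2) by ring, show (36 : ℤ) * ((2 * (2 * m - 1) + 1) * (4 * (2 * m - 1) + 3)) = 4 * (9 * ((4 * m - 1) * (8 * m - 1))) by ring]
  have hd : m ∣ 9 := ⟨o * m - 288 * m + 108, by linear_combination -h2⟩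
  have hn : m.natAbs ∈ Nat.divisors 9 := Nat.mem_divisors.2 ⟨by simpa using Int.natAbs_dvd_natAbs.2 hd, by norm_num⟩
  rw [show Nat.divisors 9 = {1, 3, 9} by decide] at hn
  simp only [Finset.mem_insert, Finset.mem_singleton] at hn
  rcases hn with h | h | h <;> rcases Int.natAbs_eq m with e | e <;> rw [h] at e <;>
    norm_num at e <;> subst e <;> norm_num at h2 hu ⊢ <;> try omega
  · refine ⟨?_, by omega⟩
    have h3 : (u + 27) * (6 * u - 14) = 0 := by linarith [show (u + 27) * (6 * u - 14) = 6 * u ^ 2 + 148 * u - 378 by ring]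
    rcases mul_eq_zero.1 h3 with h | h <;> omega
  · nlinarith [sq_nonneg (5 * u + 11)]

variable {ι : Type*} [DecidableEq ι]

theorem step (s : Finset ι) (h : ι → ℤ) {n : ℤ} (hn : 0 < n) (hn4 : n < 4) (hs : ∑ i ∈ s, h i ^ 2 = n) :
    ∃ a ∈ s, (h a = 1 ∨ h a = -1) ∧ ∑ i ∈ s.erase a, h i ^ 2 = n - 1 := by
  obtain ⟨a, ha, hne⟩ : ∃ a ∈ s, h a ≠ 0 := by
    by_contra hh
    push Not at hh
    rw [Finset.sum_eq_zero fun i hi => by rw [hh i hi]; ring] at hs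
    omega
  have hle : h a ^ 2 ≤ n := hs ▸ Finset.single_le_sum (f := fun i => h i ^ 2) (fun i _ => sq_nonneg _) ha
  have h1 : h a = 1 ∨ h a = -1 := by
    have : -2 < h a := by nlinarith
    have : h a < 2 := by nlinarith
    omega
  refine ⟨a, ha, h1, ?_⟩
  rw [Finset.sum_erase_eq_sub ha, hs]
  rcases h1 with e | e <;> rw [e] <;> norm_num

/-- An integer vector of norm two. -/
theorem two_support (s : Finset ι) (h : ι → ℤ) (hs : ∑ i ∈ s, h i ^ 2 = 2) :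
    ∃ a b, a ∈ s ∧ b ∈ s ∧ a ≠ b ∧ (h a = 1 ∨ h a = -1) ∧ (h b = 1 ∨ h b = -1) ∧
      ∀ i ∈ s, i ≠ a → i ≠ b → h i = 0 := by
  obtain ⟨a, ha, ha1, hs1⟩ := step s h (by norm_num) (by norm_num) hs
  obtain ⟨b, hb, hb1, hs2⟩ := step _ h (by norm_num) (by norm_num) hs1
  refine ⟨a, b, ha, (Finset.mem_erase.1 hb).2, (Finset.mem_erase.1 hb).1.symm, ha1, hb1, fun i hi hia hib => ?_⟩
  have hz := (Finset.sum_eq_zero_iff_of_nonneg (fun i _ => sq_nonneg (h i))).1 (by simpa using hs2) i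
    (Finset.mem_erase.2 ⟨hib, Finset.mem_erase.2 ⟨hia, hi⟩⟩)
  exact (pow_eq_zero_iff two_ne_zero).1 hz

variable [Fintype ι]

theorem sum_three {R : Type*} [AddCommMonoid R] {a b c : ι} (g : ι → R) (hab : a ≠ b) (hac : a ≠ c) (hbc : b ≠ c)
    (h : ∀ i, i ≠ a → i ≠ b → i ≠ c → g i = 0) : ∑ i, g i = g a + (g b + g c) := by
  rw [← Finset.sum_subset (Finset.subset_univ {a, b, c}) (fun i _ hi => by
    simp only [Finset.mem_insert, Finset.mem_singleton, not_or] at hi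
    exact h i hi.1 hi.2.1 hi.2.2)]
  rw [Finset.sum_insert (by simp [hab, hac]), Finset.sum_insert (by simp [hbc]), Finset.sum_singleton]

/-- The integral data read off the classes of `2`-power order. -/
structure Data (ι : Type*) [Fintype ι] where
  one : ι
  deg : ι → ℤ
  d : ι → ℤ
  f : ι → ℤ
  c : ι → ℤ
  c' : ι → ℤ
  deg_pos : ∀ i, 0 < deg i
  deg_one : deg one = 1
  deg_ne : ∀ i, i ≠ one → deg i ≠ 1
  d_one : d one = 1
  f_one : f one = 0
  c_one : c one = 0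
  c'_one : c' one = 0
  dd : ∑ i, d i ^ 2 = 3
  ff : ∑ i, f i ^ 2 = 3
  cc : ∑ i, c i ^ 2 = 4
  cc' : ∑ i, c' i ^ 2 = 4
  cx : ∑ i, c i * c' i = 3
  df : ∑ i, d i * f i = 1
  dc : ∑ i, d i * c i = 1
  dc' : ∑ i, d i * c' i = 1
  fc : ∑ i, f i * c i = 1
  fc' : ∑ i, f i * c' i = 1
  d1 : ∑ i, d i * deg i = 0
  f1 : ∑ i, f i * deg i = 0
  c1 : ∑ i, c i * deg i = 0
  c'1 : ∑ i, c' i * deg i = 0
  mod4 : ∀ i, (d i + f i - 2 * (c i + c' i)) % 4 = deg i % 4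
  faithful : ∀ i, i ≠ one → d i + f i - 2 * (c i + c' i) ≠ deg i
  o : ℤ
  o_odd : o % 2 = 1
  o_three : 3 ∣ o
  sq : ∑ i, deg i ^ 2 = 16 * o
  n : ℤ
  n_cases : n = 0 ∨ n = 4
  eight : ∑ i, ((d i - f i : ℤ) : ℚ) * ((d i + f i - 2 * (c i + c' i) : ℤ) : ℚ) ^ 2 / (deg i : ℚ) = 0
  four : (16 * o : ℤ) * ∑ i, ((d i + f i : ℤ) : ℚ) * ((d i + f i - 2 * (c i + c' i) : ℤ) : ℚ) ^ 2 / (deg i : ℚ) =
    2304 * (n : ℚ)

theorem Data.exists_theta (D : Data ι) : ∃ Θ Θ' : ι, ∃ e : ℤ, Θ ≠ Θ' ∧ (e = 1 ∨ e = -1) ∧ D.c Θ = e ∧ D.c' Θ = 0 ∧ D.c Θ' = 0 ∧ D.c' Θ' = e ∧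
      (∀ i, i ≠ Θ → i ≠ Θ' → D.c' i = D.c i) ∧ D.deg Θ' = D.deg Θ := by
  have hs : ∑ i, (D.c i - D.c' i) ^ 2 = 2 := by
    have : ∀ i, (D.c i - D.c' i) ^ 2 = D.c i ^ 2 + D.c' i ^ 2 - 2 * (D.c i * D.c' i) := fun i => by ring
    simp only [this, Finset.sum_sub_distrib, Finset.sum_add_distrib, ← Finset.mul_sum, D.cc, D.cc', D.cx]
    norm_num
  obtain ⟨a, b, -, -, hab, ha, hb, hz⟩ := two_support Finset.univ _ hs
  have hsum : ∀ g : ι → ℤ, ∑ i, (D.c i - D.c' i) * g i = (D.c a - D.c' a) * g a + (D.c b - D.c' b) * g b := fun g => by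
    refine Fintype.sum_eq_add a b hab fun i hi => ?_
    rw [hz i (Finset.mem_univ i) hi.1 hi.2, zero_mul]
  have hd0 : ∑ i, (D.c i - D.c' i) * D.deg i = 0 := by
    simp only [sub_mul, Finset.sum_sub_distrib, D.c1, D.c'1, sub_zero]
  rw [hsum] at hd0
  have hn0 : ∑ i, (D.c i - D.c' i) * (D.c i + D.c' i) = 0 := by
    have : ∀ i, (D.c i - D.c' i) * (D.c i + D.c' i) = D.c i ^ 2 - D.c' i ^ 2 := fun i => by ring
    simp only [this, Finset.sum_sub_distrib, D.cc, D.cc', sub_self]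
  rw [hsum] at hn0
  have hle : D.c a ^ 2 + D.c b ^ 2 ≤ 4 := by
    rw [← D.cc, ← Finset.sum_pair (f := fun i => D.c i ^ 2) hab]
    exact Finset.sum_le_sum_of_subset_of_nonneg (Finset.subset_univ _) fun i _ _ => sq_nonneg _
  have hpa := D.deg_pos a
  have hpb := D.deg_pos b
  rcases ha with ha | ha <;> rcases hb with hb | hb <;> rw [ha, hb] at hd0 hn0
  · omega
  · have hcb : D.c b = 0 ∨ D.c b = -1 := by
      have : D.c a = D.c b + 1 := by omega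
      rw [this] at hle
      have : -2 < D.c b := by nlinarith
      have : D.c b < 1 := by nlinarith
      omega
    rcases hcb with h | h
    · exact ⟨a, b, 1, hab, Or.inl rfl, by omega, by omega, h, by omega,
        fun i hi hi' => by have := hz i (Finset.mem_univ i) hi hi'; omega, by omega⟩
    · exact ⟨b, a, -1, hab.symm, Or.inr rfl, h, by omega, by omega, by omega,
        fun i hi hi' => by have := hz i (Finset.mem_univ i) hi' hi; omega, by omega⟩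
  · have hca : D.c a = 0 ∨ D.c a = -1 := by
      have : D.c b = D.c a + 1 := by omega
      rw [this] at hle
      have : -2 < D.c a := by nlinarith
      have : D.c a < 1 := by nlinarith
      omega
    rcases hca with h | h
    · exact ⟨b, a, 1, hab.symm, Or.inl rfl, by omega, by omega, h, by omega,
        fun i hi hi' => by have := hz i (Finset.mem_univ i) hi' hi; omega, by omega⟩
    · exact ⟨a, b, -1, hab, Or.inr rfl, h, by omega, by omega, by omega,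
        fun i hi hi' => by have := hz i (Finset.mem_univ i) hi hi'; omega, by omega⟩
  · omega

/-- The form `y = 1`, `(yU, yV) = (1, -1)` is impossible. -/
theorem Data.quad_case (D : Data ι) {Θ Θ' P A B : ι} {e : ℤ} (hne : Θ ≠ Θ') (he : e = 1 ∨ e = -1)
    (hcΘ : D.c Θ = e) (hdegΘ : D.deg Θ' = D.deg Θ) (hdP : D.d P = 1 ∨ D.d P = -1) (hy1 : D.d P * D.c P = 1)
    (hp4 : (D.d P * D.deg P) % 4 = 2) (hAP : A ≠ P) (hBP : B ≠ P) (hAB : A ≠ B) (hPΘ : P ≠ Θ) (hAΘ : A ≠ Θ) (hBΘ : B ≠ Θ)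
    (hA : D.f A * D.c A = 1) (hB : D.f B * D.c B = -1) (hfA : D.f A = 1 ∨ D.f A = -1) (hfB : D.f B = 1 ∨ D.f B = -1)
    (he' : D.o * (D.d P * D.deg P + 2) ^ 2 = 288 * (D.d P * D.deg P * (D.d P * D.deg P + 1)))
    (hsum : D.d P * D.deg P + (D.f A * D.deg A + D.f B * D.deg B) = 0)
    (heq : (D.d P * D.deg P * (-1 - D.d P * D.deg P) + (1 - 4 * 0) ^ 2 * (D.d P * D.deg P)) * (D.f A * D.deg A * (D.f B * D.deg B)) =
      D.d P * D.deg P * (-1 - D.d P * D.deg P) * ((1 - 4 * 1) ^ 2 * (D.f B * D.deg B) + (1 - 4 * -1) ^ 2 * (D.f A * D.deg A))) : False := by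
  have ho := D.o_odd
  set p := D.d P * D.deg P with hpdef
  clear_value p
  have hp0 : p ≠ 0 := by omega
  set a := D.f A * D.deg A with hadef
  set b := D.f B * D.deg B with hbdef
  clear_value a b
  obtain rfl : b = -p - a := by omega
  have hquad : p * a ^ 2 + (p ^ 2 + 16 * p + 16) * a - 9 * (p * (1 + p)) = 0 := by
    have : p * (p * a ^ 2 + (p ^ 2 + 16 * p + 16) * a - 9 * (p * (1 + p))) = 0 := by linear_combination heq
    exact (mul_eq_zero.1 this).resolve_left hp0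
  obtain ⟨hp6, ha27, ho189⟩ := two_num (by omega) ho D.o_three he' hquad
  -- `c` is supported on `P`, `A`, `B`, `Θ`
  have hsq : D.c P ^ 2 = 1 ∧ D.c A ^ 2 = 1 ∧ D.c B ^ 2 = 1 := by
    refine ⟨?_, ?_, ?_⟩
    · rcases hdP with r | r <;> rw [r] at hy1 <;> nlinarith
    · rcases hfA with r | r <;> rw [r] at hA <;> nlinarith
    · rcases hfB with r | r <;> rw [r] at hB <;> nlinarith
  have hzero : ∀ i, i ≠ P → i ≠ A → i ≠ B → i ≠ Θ → D.c i = 0 := by
    intro i h1 h2 h3 h4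
    have h := Finset.sum_le_sum_of_subset_of_nonneg (f := fun i => D.c i ^ 2)
      (Finset.subset_univ {i, P, A, B, Θ}) fun _ _ _ => sq_nonneg _
    rw [D.cc, Finset.sum_insert (by simp [h1, h2, h3, h4]), Finset.sum_insert (by simp [hAP.symm, hBP.symm, hPΘ]),
      Finset.sum_insert (by simp [hAB, hAΘ]), Finset.sum_insert (by simp [hBΘ]), Finset.sum_singleton,
      hsq.1, hsq.2.1, hsq.2.2, hcΘ] at h
    have he2 : e ^ 2 = 1 := by rcases he with r | r <;> rw [r] <;> norm_num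
    rw [he2] at h
    exact (pow_eq_zero_iff two_ne_zero).1 (le_antisymm (by linarith) (sq_nonneg _))
  have hc := D.c1
  rw [← Finset.sum_subset (Finset.subset_univ {P, A, B, Θ}) (fun i _ hi => by
      simp only [Finset.mem_insert, Finset.mem_singleton, not_or] at hi
      rw [hzero i hi.1 hi.2.1 hi.2.2.1 hi.2.2.2, zero_mul]),
    Finset.sum_insert (by simp [hAP.symm, hBP.symm, hPΘ]),
    Finset.sum_insert (by simp [hAB, hAΘ]), Finset.sum_insert (by simp [hBΘ]), Finset.sum_singleton, hcΘ] at hc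
  have hP' : D.c P * D.deg P = p := by
    rw [show D.c P = D.d P by rcases hdP with r | r <;> rw [r] at hy1 ⊢ <;> omega, hpdef]
  have hA' : D.c A * D.deg A = a := by
    rw [show D.c A = D.f A by rcases hfA with r | r <;> rw [r] at hA ⊢ <;> omega, hadef]
  have hB' : D.c B * D.deg B = -(-p - a) := by
    rw [show D.c B = -D.f B by rcases hfB with r | r <;> rw [r] at hB ⊢ <;> omega, hbdef, neg_mul]
  rw [hP', hA', hB'] at hc
  have hθ : D.deg Θ = 42 := by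
    have := D.deg_pos Θ
    rcases he with r | r <;> rw [r] at hc <;> omega
  have h := Finset.sum_le_sum_of_subset_of_nonneg (f := fun i => D.deg i ^ 2) (Finset.subset_univ {Θ, Θ'})
    fun _ _ _ => sq_nonneg _
  rw [Finset.sum_pair hne, D.sq, hdegΘ, hθ, ho189] at h
  norm_num at h

theorem Data.solve (D : Data ι) : 16 * D.o = 5616 ∨ 16 * D.o = 7920 := by
  obtain ⟨Θ, Θ', e, hne, he, hcΘ, hc'Θ, hcΘ', hc'Θ', hrest, hdegΘ⟩ := D.exists_theta
  have he0 : e ≠ 0 := by rcases he with h | h <;> omega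
  have hΘ1 : Θ ≠ D.one := fun h => he0 (by rw [← hcΘ, h, D.c_one])
  have hΘ'1 : Θ' ≠ D.one := fun h => he0 (by rw [← hc'Θ', h, D.c'_one])
  have hpair : ∀ g : ι → ℤ, ∑ i, g i * D.c i = ∑ i, g i * D.c' i → g Θ = g Θ' := by
    intro g hg
    have h0 : ∑ i, g i * (D.c i - D.c' i) = 0 := by simp only [mul_sub, Finset.sum_sub_distrib, hg, sub_self]
    rw [Fintype.sum_eq_add Θ Θ' hne fun i hi => by rw [hrest i hi.1 hi.2, sub_self, mul_zero],
      hcΘ, hc'Θ, hcΘ', hc'Θ'] at h0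
    rcases he with h | h <;> rw [h] at h0 <;> omega
  have hdΘ := hpair D.d (D.dc.trans D.dc'.symm)
  have hfΘ := hpair D.f (D.fc.trans D.fc'.symm)
  -- the support of `d`
  have hds : ∑ i ∈ Finset.univ.erase D.one, D.d i ^ 2 = 2 := by
    rw [Finset.sum_erase_eq_sub (Finset.mem_univ _), D.dd, D.d_one]; norm_num
  obtain ⟨P, Q, hP1, hQ1, hPQ, hdP, hdQ, hdz⟩ := two_support _ _ hds
  replace hP1 := (Finset.mem_erase.1 hP1).1
  replace hQ1 := (Finset.mem_erase.1 hQ1).1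
  wlog hfP : D.f P * D.d P = 1 generalizing P Q
  · refine this Q P hPQ.symm hdQ hdP (fun i hi hiQ hiP => hdz i hi hiP hiQ) hQ1 hP1 ?_
    have h := D.df
    rw [sum_three _ hP1.symm hQ1.symm hPQ fun i hi hiP hiQ => by
      rw [hdz i (Finset.mem_erase.2 ⟨hi, Finset.mem_univ i⟩) hiP hiQ, zero_mul], D.d_one, D.f_one] at h
    have hb : ∀ i, -1 ≤ D.f i ∧ D.f i ≤ 1 := fun i => by
      have := D.ff ▸ Finset.single_le_sum (f := fun i => D.f i ^ 2) (fun i _ => sq_nonneg _) (Finset.mem_univ i)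
      exact ⟨by nlinarith, by nlinarith⟩
    have h1 := hb P
    have h2 := hb Q
    rcases hdP with a | a <;> rcases hdQ with b | b <;> rw [a] at hfP h <;> rw [b] at h ⊢ <;> omega
  have hd3 : ∀ i, i ≠ D.one → i ≠ P → i ≠ Q → D.d i = 0 := fun i hi => hdz i (Finset.mem_erase.2 ⟨hi, Finset.mem_univ i⟩)
  have hdsum : ∀ g : ι → ℤ, ∑ i, D.d i * g i = g D.one + (D.d P * g P + D.d Q * g Q) := fun g => by
    rw [sum_three _ hP1.symm hQ1.symm hPQ fun i h1 h2 h3 => by rw [hd3 i h1 h2 h3, zero_mul], D.d_one, one_mul]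
  have hdeg := D.d1
  rw [hdsum, D.deg_one] at hdeg
  have hfP' : D.f P = D.d P := by rcases hdP with a | a <;> rw [a] at hfP ⊢ <;> omega
  have hfQ : D.f Q = 0 := by
    have h := D.df
    rw [hdsum, D.f_one, hfP'] at h
    rcases hdP with a | a <;> rcases hdQ with b | b <;> rw [a, b] at h <;> omega
  have hdΘ0 : D.d Θ = 0 := by
    by_contra h
    have hΘmem : Θ = P ∨ Θ = Q := by
      by_contra hh; push Not at hh; exact h (hd3 Θ hΘ1 hh.1 hh.2)
    have hΘ'mem : Θ' = P ∨ Θ' = Q := by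
      by_contra hh; push Not at hh; exact h (hdΘ.trans (hd3 Θ' hΘ'1 hh.1 hh.2))
    rcases hΘmem with a | a <;> rcases hΘ'mem with b | b
    · exact hne (a.trans b.symm)
    · rw [← a, ← b, ← hdΘ, hdegΘ] at hdeg
      rw [← a] at hdP
      rcases hdP with c | c <;> rw [c] at hdeg <;> omega
    · rw [← a, ← b, ← hdΘ, hdegΘ] at hdeg
      rw [← a] at hdQ
      rcases hdQ with c | c <;> rw [c] at hdeg <;> omega
    · exact hne (a.trans b.symm)
  have hdP0 : D.d P ≠ 0 := by rcases hdP with a | a <;> omega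
  have hdQ0 : D.d Q ≠ 0 := by rcases hdQ with a | a <;> omega
  have hPΘ : P ≠ Θ ∧ P ≠ Θ' := ⟨fun h => hdP0 (h ▸ hdΘ0), fun h => hdP0 (h ▸ hdΘ.symm.trans hdΘ0)⟩
  have hQΘ : Q ≠ Θ ∧ Q ≠ Θ' := ⟨fun h => hdQ0 (h ▸ hdΘ0), fun h => hdQ0 (h ▸ hdΘ.symm.trans hdΘ0)⟩
  -- the support of `f`
  have hfs : ∑ i ∈ Finset.univ.erase P, D.f i ^ 2 = 2 := by
    rw [Finset.sum_erase_eq_sub (Finset.mem_univ _), D.ff, hfP']
    rcases hdP with a | a <;> rw [a] <;> norm_num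
  obtain ⟨U, V, hUP, hVP, hUV, hfU, hfV, hfz⟩ := two_support _ _ hfs
  replace hUP := (Finset.mem_erase.1 hUP).1
  replace hVP := (Finset.mem_erase.1 hVP).1
  have hfsum : ∀ g : ι → ℤ, ∑ i, D.f i * g i = D.f P * g P + (D.f U * g U + D.f V * g V) := fun g =>
    sum_three _ hUP.symm hVP.symm hUV fun i h1 h2 h3 => by
      rw [hfz i (Finset.mem_erase.2 ⟨h1, Finset.mem_univ i⟩) h2 h3, zero_mul]
  have hfdeg := D.f1
  rw [hfsum] at hfdeg
  have hU1 : U ≠ D.one := fun h => by have := h ▸ D.f_one; omega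
  have hV1 : V ≠ D.one := fun h => by have := h ▸ D.f_one; omega
  have hUQ : U ≠ Q := fun h => by have := h ▸ hfQ; omega
  have hVQ : V ≠ Q := fun h => by have := h ▸ hfQ; omega
  have hdU : D.d U = 0 := hd3 U hU1 hUP hUQ
  have hdV : D.d V = 0 := hd3 V hV1 hVP hVQ
  have hcb : ∀ i, i ≠ Θ → i ≠ Θ' → -1 ≤ D.c i ∧ D.c i ≤ 1 := fun i hi hi' => by
    have h := Finset.sum_le_sum_of_subset_of_nonneg (f := fun i => D.c i ^ 2) (Finset.subset_univ {i, Θ})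
      fun _ _ _ => sq_nonneg _
    rw [Finset.sum_pair hi, D.cc, hcΘ] at h
    rcases he with a | a <;> rw [a] at h <;> exact ⟨by nlinarith, by nlinarith⟩
  have hc'P := hrest P hPΘ.1 hPΘ.2
  have hc'Q := hrest Q hQΘ.1 hQΘ.2
  -- the inner products with `c`
  set y := D.d P * D.c P with hy
  set yQ := D.d Q * D.c Q with hyQ
  have hdc := D.dc
  rw [hdsum, D.c_one, ← hy, ← hyQ, zero_add] at hdc
  have hfc := D.fc
  rw [hfsum, hfP', ← hy] at hfc
  have hy01 : -1 ≤ y ∧ y ≤ 1 := by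
    have := hcb P hPΘ.1 hPΘ.2
    rcases hdP with a | a <;> rw [hy, a] <;> omega
  have hyQ01 : -1 ≤ yQ ∧ yQ ≤ 1 := by
    have := hcb Q hQΘ.1 hQΘ.2
    rcases hdQ with a | a <;> rw [hyQ, a] <;> omega
  set p := D.d P * D.deg P with hpdef
  set q := D.d Q * D.deg Q with hqdef
  have hp0 : p ≠ 0 := mul_ne_zero hdP0 (D.deg_pos P).ne'
  have hq0 : q ≠ 0 := mul_ne_zero hdQ0 (D.deg_pos Q).ne'
  -- the weighted sums
  set W : ι → ℚ := fun i => ((D.d i + D.f i - 2 * (D.c i + D.c' i) : ℤ) : ℚ) ^ 2 / (D.deg i : ℚ) with hW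
  have hval : ∀ (i : ι) (σ A : ℤ), (σ = 1 ∨ σ = -1) → D.d i + D.f i - 2 * (D.c i + D.c' i) = σ * A →
      (σ : ℚ) * W i = (A : ℚ) ^ 2 / ((σ * D.deg i : ℤ) : ℚ) := by
    intro i σ A hσ hA
    rw [hW]
    simp only [hA]
    rcases hσ with a | a <;> rw [a] <;> push_cast <;> ring
  have hSd : ∑ i, (D.d i : ℚ) * W i = 1 + ((2 - 4 * y : ℤ) : ℚ) ^ 2 / (p : ℚ) + ((1 - 4 * yQ : ℤ) : ℚ) ^ 2 / (q : ℚ) := by
    rw [sum_three _ hP1.symm hQ1.symm hPQ fun i h1 h2 h3 => by rw [hd3 i h1 h2 h3, Int.cast_zero, zero_mul],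
      hval P _ (2 - 4 * y) hdP (by rw [hc'P, hfP', hy]; rcases hdP with a | a <;> rw [a] <;> ring),
      hval Q _ (1 - 4 * yQ) hdQ (by rw [hc'Q, hfQ, hyQ]; rcases hdQ with a | a <;> rw [a] <;> ring),
      hW, hpdef, hqdef]
    simp only [D.d_one, D.f_one, D.c_one, D.c'_one, D.deg_one]
    norm_num
    ring
  have hSf : ∑ i, (D.f i : ℚ) * W i = (D.f P : ℚ) * W P + ((D.f U : ℚ) * W U + (D.f V : ℚ) * W V) :=
    sum_three _ hUP.symm hVP.symm hUV fun i h1 h2 h3 => by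
      rw [hfz i (Finset.mem_erase.2 ⟨h1, Finset.mem_univ i⟩) h2 h3, Int.cast_zero, zero_mul]
  rw [hfP', hval P _ (2 - 4 * y) hdP (by rw [hc'P, hfP', hy]; rcases hdP with a | a <;> rw [a] <;> ring),
    ← hpdef] at hSf
  have hE8 : ∑ i, (D.d i : ℚ) * W i = ∑ i, (D.f i : ℚ) * W i := by
    rw [← sub_eq_zero, ← Finset.sum_sub_distrib]
    refine Eq.trans (Finset.sum_congr rfl fun i _ => ?_) D.eight
    rw [hW]; push_cast; ring
  have hE4 : (16 * D.o : ℤ) * (2 * ∑ i, (D.d i : ℚ) * W i) = 2304 * (D.n : ℚ) := by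
    rw [two_mul]
    conv_lhs => arg 2; arg 2; rw [hE8]
    rw [← Finset.sum_add_distrib]
    refine Eq.trans (congrArg _ (Finset.sum_congr rfl fun i _ => ?_)) D.four
    rw [hW]; push_cast; ring
  rw [hSd] at hE4
  rw [hSd, hSf] at hE8
  have hpQ : (p : ℚ) ≠ 0 := Int.cast_ne_zero.2 hp0
  have hqQ : (q : ℚ) ≠ 0 := Int.cast_ne_zero.2 hq0
  by_cases hfΘ0 : D.f Θ = 0
  swap
  · -- the spurious configuration
    exfalso
    have hmem : ∀ i, D.f i ≠ 0 → i ≠ P → i = U ∨ i = V := fun i hi hiP => by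
      by_contra hh; push Not at hh; exact hi (hfz i (Finset.mem_erase.2 ⟨hiP, Finset.mem_univ i⟩) hh.1 hh.2)
    have h1 := hmem Θ hfΘ0 hPΘ.1.symm
    have h2 := hmem Θ' (hfΘ ▸ hfΘ0) hPΘ.2.symm
    have hfΘu : D.f Θ = 1 ∨ D.f Θ = -1 := by rcases h1 with a | a <;> rw [a] <;> assumption
    set x := D.f Θ * e with hx
    have hxe : x = 1 ∨ x = -1 := by rcases hfΘu with a | a <;> rcases he with b | b <;> rw [hx, a, b] <;> norm_num
    set θ := D.f Θ * D.deg Θ with hθ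
    have key : y + x = 1 ∧ p + 2 * θ = 0 ∧ D.f U * D.c U + D.f V * D.c V = x ∧
        (D.f U : ℚ) * W U + (D.f V : ℚ) * W V = 2 * (((1 - 2 * x : ℤ) : ℚ) ^ 2 / (θ : ℚ)) := by
      have hWΘ := hval Θ _ (1 - 2 * x) hfΘu (by
        rw [hdΘ0, hcΘ, hc'Θ, hx]; rcases hfΘu with a | a <;> rw [a] <;> ring)
      have hWΘ' := hval Θ' _ (1 - 2 * x) hfΘu (by
        rw [← hdΘ, hdΘ0, ← hfΘ, hcΘ', hc'Θ', hx]; rcases hfΘu with a | a <;> rw [a] <;> ring)
      rw [hdegΘ, ← hθ] at hWΘ'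
      rw [← hθ] at hWΘ
      rcases h1 with a | a <;> rcases h2 with b | b
      · exact absurd (a.trans b.symm) hne
      · rw [← a, ← b, ← hfΘ] at hfdeg hfc ⊢
        rw [hcΘ, hcΘ', mul_zero, add_zero] at hfc ⊢
        rw [hdegΘ, hfP', ← hpdef, ← hθ] at hfdeg
        exact ⟨hfc, by omega, rfl, by rw [hWΘ, hWΘ']; ring⟩
      · rw [← a, ← b, ← hfΘ] at hfdeg hfc ⊢
        rw [hcΘ, hcΘ', mul_zero, zero_add] at hfc ⊢
        rw [hdegΘ, hfP', ← hpdef, ← hθ] at hfdeg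
        exact ⟨hfc, by omega, rfl, by rw [hWΘ, hWΘ']; ring⟩
      · exact absurd (a.trans b.symm) hne
    obtain ⟨k1, k2, -, k3⟩ := key
    have hy0 : y = 0 := by rcases hxe with a | a <;> omega
    have hx1 : x = 1 := by omega
    have hyQ1 : yQ = 1 := by omega
    rw [k3, hy0, hx1, hyQ1] at hE8
    have hθ0 : θ ≠ 0 := mul_ne_zero hfΘ0 (D.deg_pos Θ).ne'
    have hθQ : (θ : ℚ) ≠ 0 := Int.cast_ne_zero.2 hθ0
    field_simp at hE8
    push_cast at hE8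
    have hpq : (p : ℚ) = -2 * (θ : ℚ) := by exact_mod_cast (show p = -2 * θ by omega)
    have hqq : (q : ℚ) = 2 * (θ : ℚ) - 1 := by exact_mod_cast (show q = 2 * θ - 1 by omega)
    rw [hpq, hqq] at hE8
    have hθ1 : ((θ : ℚ) + 1) ^ 2 * (θ : ℚ) = 0 := by linarith [hE8]
    have : θ + 1 = 0 := by
      have := (mul_eq_zero.1 hθ1).resolve_right hθQ
      exact_mod_cast (pow_eq_zero_iff two_ne_zero).1 this
    refine D.deg_ne Θ hΘ1 ?_
    rcases hfΘu with a | a <;> rw [hθ, a] at this <;> have := D.deg_pos Θ <;> omega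
  have hUΘ : U ≠ Θ ∧ U ≠ Θ' := ⟨fun h => by have := h ▸ hfΘ0; omega, fun h => by have := h ▸ (hfΘ.symm.trans hfΘ0); omega⟩
  have hVΘ : V ≠ Θ ∧ V ≠ Θ' := ⟨fun h => by have := h ▸ hfΘ0; omega, fun h => by have := h ▸ (hfΘ.symm.trans hfΘ0); omega⟩
  have hc'U := hrest U hUΘ.1 hUΘ.2
  have hc'V := hrest V hVΘ.1 hVΘ.2
  set yU := D.f U * D.c U with hyU
  set yV := D.f V * D.c V with hyV
  set u := D.f U * D.deg U with hudef
  set v := D.f V * D.deg V with hvdef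
  rw [hval U _ (1 - 4 * yU) hfU (by rw [hdU, hc'U, hyU]; rcases hfU with a | a <;> rw [a] <;> ring),
    hval V _ (1 - 4 * yV) hfV (by rw [hdV, hc'V, hyV]; rcases hfV with a | a <;> rw [a] <;> ring),
    ← hudef, ← hvdef] at hE8
  have hyU01 : -1 ≤ yU ∧ yU ≤ 1 := by
    have := hcb U hUΘ.1 hUΘ.2
    rcases hfU with a | a <;> rw [hyU, a] <;> omega
  have hyV01 : -1 ≤ yV ∧ yV ≤ 1 := by
    have := hcb V hVΘ.1 hVΘ.2
    rcases hfV with a | a <;> rw [hyV, a] <;> omega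
  rw [hfP', ← hpdef] at hfdeg
  have hu0 : u ≠ 0 := mul_ne_zero (by omega) (D.deg_pos U).ne'
  have hv0 : v ≠ 0 := mul_ne_zero (by omega) (D.deg_pos V).ne'
  have huQ : (u : ℚ) ≠ 0 := Int.cast_ne_zero.2 hu0
  have hvQ : (v : ℚ) ≠ 0 := Int.cast_ne_zero.2 hv0
  have hq' : q = -1 - p := by omega
  have hp4 : p % 4 = (2 - 4 * y) % 4 := by
    have h := D.mod4 P
    rw [hc'P, hfP'] at h
    rcases hdP with a | a <;> rw [hpdef, hy, a] <;> rw [a] at h <;> omega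
  have hfaith : ¬ (p = 2 - 4 * y) := fun h => by
    refine D.faithful P hP1 ?_
    rw [hc'P, hfP']
    rcases hdP with a | a <;> rw [hpdef, hy, a] at h <;> rw [a] <;> omega
  have hp1 : p + 1 ≠ 0 := by omega
  have hu1 : u ≠ 1 := fun h => D.deg_ne U hU1 (by
    rcases hfU with a | a <;> rw [hudef, a] at h <;> have := D.deg_pos U <;> omega)
  have hv1 : v ≠ 1 := fun h => D.deg_ne V hV1 (by
    rcases hfV with a | a <;> rw [hvdef, a] at h <;> have := D.deg_pos V <;> omega)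
  have hE4' : 16 * D.o * (2 * (p * q + (2 - 4 * y) ^ 2 * q + (1 - 4 * yQ) ^ 2 * p)) = 2304 * D.n * (p * q) := by
    field_simp at hE4
    exact_mod_cast (by push_cast at hE4 ⊢; linarith : ((16 * D.o * (2 * (p * q + (2 - 4 * y) ^ 2 * q + (1 - 4 * yQ) ^ 2 * p)) : ℤ) : ℚ) = ((2304 * D.n * (p * q) : ℤ) : ℚ))
  have hE8' : (p * q + (1 - 4 * yQ) ^ 2 * p) * (u * v) = p * q * ((1 - 4 * yU) ^ 2 * v + (1 - 4 * yV) ^ 2 * u) := by
    field_simp at hE8
    exact_mod_cast (by push_cast at hE8 ⊢; linarith : (((p * q + (1 - 4 * yQ) ^ 2 * p) * (u * v) : ℤ) : ℚ) = ((p * q * ((1 - 4 * yU) ^ 2 * v + (1 - 4 * yV) ^ 2 * u) : ℤ) : ℚ))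
  have hpq0 : p * q ≠ 0 := mul_ne_zero hp0 hq0
  have ho := D.o_odd
  have ho0 : D.o ≠ 0 := by omega
  rw [hq'] at hE4' hE8'
  have hcases : (y = 1 ∧ yQ = 0) ∨ (y = 0 ∧ yQ = 1) := by omega
  rcases hcases with ⟨hy1, hyQ1⟩ | ⟨hy1, hyQ1⟩ <;> rw [hy1, hyQ1] at hE4' <;> rw [hyQ1] at hE8'
  · -- `y = 1`
    have hn : D.n = 4 := D.n_cases.resolve_left fun h => by
      rw [h] at hE4'
      have h0 : D.o * (p + 2) ^ 2 = 0 := by linarith [show 16 * D.o * (2 * (p * (-1 - p) + (2 - 4 * 1) ^ 2 * (-1 - p) + (1 - 4 * 0) ^ 2 * p)) = -32 * (D.o * (p + 2) ^ 2) by ring]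
      have := (pow_eq_zero_iff two_ne_zero).1 ((mul_eq_zero.1 h0).resolve_left ho0)
      omega
    rw [hn] at hE4'
    have he' : D.o * (p + 2) ^ 2 = 288 * (p * (p + 1)) := by linarith [show 16 * D.o * (2 * (p * (-1 - p) + (2 - 4 * 1) ^ 2 * (-1 - p) + (1 - 4 * 0) ^ 2 * p)) = -32 * (D.o * (p + 2) ^ 2) by ring]
    have hyUV : (yU = 0 ∧ yV = 0) ∨ (yU = 1 ∧ yV = -1) ∨ (yU = -1 ∧ yV = 1) := by omega
    -- one of the two symmetric forms
    have main : ∀ (A B : ι), A ≠ P → B ≠ P → A ≠ B → A ≠ Θ → B ≠ Θ → D.f A * D.c A = 1 → D.f B * D.c B = -1 →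
        (D.f A = 1 ∨ D.f A = -1) → (D.f B = 1 ∨ D.f B = -1) → p + (D.f A * D.deg A + D.f B * D.deg B) = 0 →
        (p * (-1 - p) + (1 - 4 * 0) ^ 2 * p) * (D.f A * D.deg A * (D.f B * D.deg B)) =
          p * (-1 - p) * ((1 - 4 * 1) ^ 2 * (D.f B * D.deg B) + (1 - 4 * -1) ^ 2 * (D.f A * D.deg A)) → False :=
      fun A B h1 h2 h3 h4 h5 h6 h7 h8 h9 h10 h11 => D.quad_case hne he hcΘ hdegΘ hdP hy1 (by omega) h1 h2 h3 hPΘ.1 h4 h5 h6 h7 h8 h9 he' h10 h11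
    exfalso
    rcases hyUV with ⟨a, b⟩ | ⟨a, b⟩ | ⟨a, b⟩ <;> rw [a, b] at hE8'
    · obtain rfl' : v = -p - u := by omega
      rw [rfl'] at hE8' hv1
      have h0 : p * (p * ((u - 1) * (-p - u - 1))) = 0 := by linear_combination -hE8'
      rcases mul_eq_zero.1 ((mul_eq_zero.1 ((mul_eq_zero.1 h0).resolve_left hp0)).resolve_left hp0) with r | r <;> omega
    · exact main U V hUP hVP hUV hUΘ.1 hVΘ.1 a b hfU hfV hfdeg hE8'
    · refine main V U hVP hUP hUV.symm hVΘ.1 hUΘ.1 b a hfV hfU (by omega) ?_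
      linear_combination hE8'
  · -- `y = 0`
    have hn : D.n = 4 := D.n_cases.resolve_left fun h => by
      rw [h] at hE4'
      have h0 : D.o * (p - 2) ^ 2 = 0 := by linarith [show 16 * D.o * (2 * (p * (-1 - p) + (2 - 4 * 0) ^ 2 * (-1 - p) + (1 - 4 * 1) ^ 2 * p)) = -32 * (D.o * (p - 2) ^ 2) + 0 * p by ring]
      have := (pow_eq_zero_iff two_ne_zero).1 ((mul_eq_zero.1 h0).resolve_left ho0)
      omega
    rw [hn] at hE4'
    have he' : D.o * (p - 2) ^ 2 = 288 * (p * (p + 1)) := by linarith [show 16 * D.o * (2 * (p * (-1 - p) + (2 - 4 * 0) ^ 2 * (-1 - p) + (1 - 4 * 1) ^ 2 * p)) = -32 * (D.o * (p - 2) ^ 2) by ring]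
    have hyUV : (yU = 1 ∧ yV = 0) ∨ (yU = 0 ∧ yV = 1) := by omega
    have main : ∀ a b : ℤ, b ≠ 1 → p + (a + b) = 0 →
        (p * (-1 - p) + (1 - 4 * 1) ^ 2 * p) * (a * b) =
          p * (-1 - p) * ((1 - 4 * 1) ^ 2 * b + (1 - 4 * 0) ^ 2 * a) → b * (8 - p) = p * (p + 1) := by
      intro a b hb hab heq
      obtain rfl : a = -p - b := by omega
      have h0 : p * ((b - 1) * (b * (8 - p) - p * (p + 1))) = 0 := by linear_combination -heq
      exact sub_eq_zero.1 ((mul_eq_zero.1 ((mul_eq_zero.1 h0).resolve_left hp0)).resolve_left (by omega))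
    rcases hyUV with ⟨a, b⟩ | ⟨a, b⟩ <;> rw [a, b] at hE8'
    · exact three_num (by omega) ho he' (main u v hv1 hfdeg hE8')
    · exact three_num (by omega) ho he' (main v u hu1 (by omega) (by linear_combination hE8'))

end Cfsg.Agent.SmallSimple.Octahedral
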