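import Cfsg.Agent.Lib.SmallSimple.OctahedralData
import Cfsg.Agent.Lib.SmallSimple.OctahedralCombi
import Cfsg.Agent.Lib.SmallSimple.BlockDihedral

/-!
# Simple groups with an involution centralizer `GL(2,3)`

The columns of the four classes of two-power elements of the centralizer give integral vectors of small
norm; the pairs of involutions with a product of order four or eight then determine the order.
-/

set_option autoImplicit false
set_option maxRecDepth 4000
set_option synthInstance.maxSize 4000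

namespace Cfsg.Agent.SmallSimple.Octahedral

open Cfsg
open Cfsg.Agent.Recog.GL23 (M x y)
open scoped ComplexConjugate

universe u

theorem two_group_involution : ∀ m : M, m * x = x * m → m * y = y * m → m * m = 1 → m = 1 ∨ m = x ^ 4 := by
  decide +kernel

theorem x_y_not_commute : (x : M) * y ≠ y * x := by decide +kernel

section General

variable {G : Type u} [Group G]

theorem card_centralizer_eq (emb : M →* G) (hinj : Function.Injective emb) {t : G}
    (hrange : ∀ a : G, a * t = t * a → ∃ m, emb m = a) (m0 : M) {k : ℕ} (hk : emb m0 ^ k = t) :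
    Nat.card (Subgroup.centralizer ({emb m0} : Set G)) =
      (Finset.univ.filter fun m : M => m * m0 = m0 * m).card := by
  rw [← Nat.card_eq_finsetCard]
  symm
  refine Nat.card_congr (Equiv.ofBijective (fun m => ⟨emb m.1, ?_⟩) ⟨?_, ?_⟩)
  · rw [Subgroup.mem_centralizer_singleton_iff, ← map_mul, ← map_mul, (Finset.mem_filter.1 m.2).2]
  · exact fun a b h => Subtype.ext (hinj (congrArg Subtype.val h))
  · rintro ⟨g, hg⟩
    rw [Subgroup.mem_centralizer_singleton_iff] at hg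
    obtain ⟨m, rfl⟩ := hrange g (by rw [← hk]; exact ((show Commute g (emb m0) from hg).pow_right k).eq)
    exact ⟨⟨m, Finset.mem_filter.2 ⟨Finset.mem_univ m, hinj (by rw [map_mul, map_mul]; exact hg)⟩⟩, rfl⟩

variable [Finite G]

/-- The weighted sum of the values at the powers of an element is eight times a multiplicity. -/
theorem exists_mult (χ : IrrCharacter G) {g : G} (hg : g ^ 8 = 1) {z : ℂ} (hz : z ^ 8 = 1) :
    ∃ m : ℤ, ∑ a ∈ Finset.range 8, z ^ a * (χ : G → ℂ) (g ^ a) = 8 * (m : ℂ) := by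
  obtain ⟨χ, n, ρ, -, rfl⟩ := χ
  obtain ⟨ω, hω, he⟩ := CT.exists_eigenvalues ρ g
  have hω8 : ∀ i, ω i ^ 8 = 1 := fun i => by
    obtain ⟨k, hk⟩ := orderOf_dvd_of_pow_eq_one hg
    rw [hk, pow_mul, hω i, one_pow]
  refine ⟨((Finset.univ.filter fun i => z * ω i = 1).card : ℤ), ?_⟩
  show ∑ a ∈ Finset.range 8, z ^ a * ρ.character (g ^ a) = _
  simp only [he, Finset.mul_sum, ← mul_pow]
  rw [Finset.sum_comm, Int.cast_natCast, Finset.card_filter, Nat.cast_sum, Finset.mul_sum]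
  refine Finset.sum_congr rfl fun i _ => ?_
  split_ifs with h
  · simp [h]
  · rw [geom_sum_eq h, mul_pow, hz, hω8 i, one_mul, sub_self, zero_div]
    simp

/-- The pairs from a class of involutions with product in a given class. -/
theorem weighted_pairs {t h : G} (L : Finset G) (hL : ∀ v, v ∈ L ↔ IsConj t v) (hinv : ∀ v ∈ L, v * v = 1)
    [DecidableEq G] :
    ∑ χ : IrrCharacter G, conj ((χ : G → ℂ) h) * ((L.card : ℂ) ^ 2 * (χ : G → ℂ) t ^ 2 / (χ : G → ℂ) 1) =
      (Nat.card G : ℂ) * ((L.filter fun u => u * h ∈ L).card : ℂ) := by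
  classical
  haveI := Fintype.ofFinite G
  have hconj : ∀ a v : G, v ∈ L → a * v * a⁻¹ ∈ L := fun a v hv =>
    (hL _).2 (((hL v).1 hv).trans (isConj_iff.2 ⟨a, rfl⟩))
  have hstep : ∀ u ∈ L, ∀ F : G → ℂ, ∑ v ∈ L, F (u * v) = ∑ w, if u * w ∈ L then F w else 0 := by
    intro u hu F
    rw [← Finset.sum_filter]
    refine Finset.sum_nbij' (fun v => u * v) (fun w => u * w) (fun v hv => ?_) (fun w hw => ?_)
      (fun v _ => ?_) (fun w _ => ?_) (fun v _ => rfl)
    · simpa [← mul_assoc, hinv u hu] using hv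
    · simpa using hw
    · simp [← mul_assoc, hinv u hu]
    · simp [← mul_assoc, hinv u hu]
  set F : G → ℂ := fun w => ∑ χ : IrrCharacter G, (χ : G → ℂ) w * conj ((χ : G → ℂ) h) with hF
  have hlhs : ∑ χ : IrrCharacter G, conj ((χ : G → ℂ) h) *
      ((L.card : ℂ) ^ 2 * (χ : G → ℂ) t ^ 2 / (χ : G → ℂ) 1) = ∑ w, F w * ((L.filter fun u => u * w ∈ L).card : ℂ) := by
    rw [Finset.sum_congr rfl fun χ _ => by rw [← Blocks.sum_pairs_class χ L hL, Finset.mul_sum]]
    rw [Finset.sum_comm, Finset.sum_product, Finset.sum_congr rfl fun u hu =>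
      hstep u hu (fun w => ∑ χ : IrrCharacter G, conj ((χ : G → ℂ) h) * (χ : G → ℂ) w), Finset.sum_comm]
    refine Finset.sum_congr rfl fun w _ => ?_
    rw [← Finset.sum_filter, Finset.sum_const, nsmul_eq_mul, mul_comm, hF]
    exact congrArg (· * _) (Finset.sum_congr rfl fun χ _ => mul_comm _ _)
  rw [hlhs]
  have hcol : ∀ w, F w = if IsConj w h then (Nat.card (Subgroup.centralizer ({w} : Set G)) : ℂ) else 0 :=
    fun w => by rw [hF]; convert CT.column_orthogonality w h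
  simp only [hcol]
  have hterm : ∀ w, (if IsConj w h then (Nat.card (Subgroup.centralizer ({w} : Set G)) : ℂ) else 0) *
      ((L.filter fun u => u * w ∈ L).card : ℂ) =
      if IsConj h w then (Nat.card (Subgroup.centralizer ({h} : Set G)) : ℂ) * ((L.filter fun u => u * h ∈ L).card : ℂ) else 0 := by
    intro w
    by_cases hw : IsConj h w
    · rw [if_pos hw, if_pos hw.symm]
      obtain ⟨a, rfl⟩ := isConj_iff.1 hw
      have e1 : Nat.card (Subgroup.centralizer ({a * h * a⁻¹} : Set G)) = Nat.card (Subgroup.centralizer ({h} : Set G)) := by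
        have h1 := CT.card_conj_class_mul_centralizer (a * h * a⁻¹)
        have h2 := CT.card_conj_class_mul_centralizer h
        have h3 : Nat.card {v : G // IsConj (a * h * a⁻¹) v} = Nat.card {v : G // IsConj h v} :=
          Nat.card_congr (Equiv.subtypeEquivRight fun v => ⟨hw.trans, hw.symm.trans⟩)
        rw [h3, ← h2] at h1
        haveI : Nonempty {v : G // IsConj h v} := ⟨⟨h, IsConj.refl h⟩⟩
        exact Nat.eq_of_mul_eq_mul_left Nat.card_pos h1
      have e2 : (L.filter fun u => u * (a * h * a⁻¹) ∈ L).card = (L.filter fun u => u * h ∈ L).card := by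
        refine Finset.card_nbij' (fun u => a⁻¹ * u * a) (fun u => a * u * a⁻¹) (fun u hu => ?_) (fun u hu => ?_)
          (fun u _ => by group) (fun u _ => by group)
        · simp only [Finset.coe_filter, Set.mem_setOf_eq] at hu ⊢
          refine ⟨by simpa using hconj a⁻¹ u hu.1, ?_⟩
          have := hconj a⁻¹ _ hu.2
          rwa [show a⁻¹ * (u * (a * h * a⁻¹)) * a⁻¹⁻¹ = a⁻¹ * u * a * h by group] at this
        · simp only [Finset.coe_filter, Set.mem_setOf_eq] at hu ⊢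
          refine ⟨hconj a u hu.1, ?_⟩
          have := hconj a _ hu.2
          rwa [show a * (u * h) * a⁻¹ = a * u * a⁻¹ * (a * h * a⁻¹) by group] at this
      rw [e1, e2]
    · rw [if_neg hw, if_neg fun e => hw e.symm, zero_mul]
  refine (Finset.sum_congr rfl fun w _ => hterm w).trans ?_
  rw [← Finset.sum_filter, Finset.sum_const, nsmul_eq_mul, ← mul_assoc]
  congr 1
  rw [← Fintype.card_subtype, ← Nat.card_eq_fintype_card]
  exact_mod_cast CT.card_conj_class_mul_centralizer h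

end General

variable {G : Type u} [Group G] [Finite G] [IsSimpleGroup G]

theorem order_of_centralizer (t : G) (ht : orderOf t = 2)
    (e : Subgroup.centralizer ({t} : Set G) ≃* M) : Nat.card G = 5616 ∨ Nat.card G = 7920 := by
  classical
  haveI := Fintype.ofFinite G
  haveI : Fact (Nat.Prime 2) := ⟨Nat.prime_two⟩
  set emb : M →* G := (Subgroup.centralizer ({t} : Set G)).subtype.comp e.symm.toMonoidHom with hemb
  have hinj : Function.Injective emb := fun a b h => e.symm.injective (Subtype.ext h)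
  have hmem : ∀ m : M, emb m * t = t * emb m := fun m => Subgroup.mem_centralizer_singleton_iff.1 (e.symm m).2
  have hrange : ∀ a : G, a * t = t * a → ∃ m, emb m = a := fun a ha =>
    ⟨e ⟨a, Subgroup.mem_centralizer_singleton_iff.2 ha⟩, by simp [hemb]⟩
  have ht2 : t * t = 1 := by rw [← pow_two, ← ht, pow_orderOf_eq_one]
  have ht1 : t ≠ 1 := fun h => by rw [h, orderOf_one] at ht; omega
  have hx4 : emb (x ^ 4) = t := by
    obtain ⟨m, hm⟩ := hrange t rfl
    rcases center_involution m (fun a => hinj (by rw [map_mul, map_mul, hm, hmem a]))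
      (hinj (by rw [map_mul, hm, ht2, map_one])) with h | h
    · exact absurd (by rw [← hm, h, map_one]) ht1
    · rw [← h, hm]
  have hx8 : emb (x ^ 1) ^ 8 = 1 := by rw [← map_pow, ← pow_mul, x_pow_eight, map_one]
  have hnc : ¬ IsMulCommutative G := fun h =>
    x_y_not_commute (hinj (by rw [map_mul, map_mul]; exact h.is_comm.comm _ _))
  have hM48 : Nat.card M = 48 := Recog.GL23.card_M
  have hCt : Nat.card (Subgroup.centralizer ({t} : Set G)) = 48 := (Nat.card_congr e.toEquiv).trans hM48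
  -- the order of `G`
  obtain ⟨k48, hk48⟩ : 48 ∣ Nat.card G := hCt ▸ Subgroup.card_subgroup_dvd_card _
  have hodd : k48 % 2 = 1 := by
    by_contra hev
    have hdvd : 2 ^ 5 ∣ Nat.card G := by
      rw [hk48]; exact ⟨3 * (k48 / 2), by omega⟩
    set T : Subgroup G := Recog.GL23.S.map emb with hT
    have hT16 : Nat.card T = 2 ^ 4 := by
      rw [hT, Subgroup.card_map_of_injective hinj, Recog.GL23.card_S]; rfl
    obtain ⟨P, hP⟩ := (IsPGroup.of_card hT16).exists_le_sylow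
    have hPcard : 2 ^ 5 ∣ Nat.card P := P.pow_dvd_card_of_pow_dvd_card hdvd
    have hxT : emb x ∈ (P : Subgroup G) := hP (Subgroup.mem_map_of_mem emb (Or.inl rfl))
    have hyT : emb y ∈ (P : Subgroup G) := hP (Subgroup.mem_map_of_mem emb (Or.inr (by decide +kernel)))
    haveI : Nontrivial P := by
      rw [← Finite.one_lt_card_iff_nontrivial]
      exact lt_of_lt_of_le (by norm_num) (Nat.le_of_dvd Nat.card_pos hPcard)
    haveI := P.isPGroup'.center_nontrivial
    obtain ⟨k, hk⟩ := (IsPGroup.iff_card).1 (P.isPGroup'.to_subgroup (Subgroup.center P))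
    obtain ⟨z, hz⟩ := exists_prime_orderOf_dvd_card' (G := Subgroup.center P) 2 (by
      rw [hk]
      refine dvd_pow_self 2 fun h0 => ?_
      rw [h0, pow_zero] at hk
      exact absurd hk (Finite.one_lt_card_iff_nontrivial.2 inferInstance).ne')
    have hzc : ∀ a ∈ (P : Subgroup G), ((z : P) : G) * a = a * ((z : P) : G) := fun a ha =>
      (congrArg Subtype.val (Subgroup.mem_center_iff.1 z.2 ⟨a, ha⟩)).symm
    have hzz : ((z : P) : G) * ((z : P) : G) = 1 := by
      have : z * z = 1 := by have h := pow_orderOf_eq_one z; rwa [hz, pow_two] at h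
      exact congrArg (fun w : Subgroup.center P => ((w : P) : G)) this
    have hz1 : ((z : P) : G) ≠ 1 := fun h => by
      have : z = 1 := Subtype.ext (Subtype.ext h)
      rw [this, orderOf_one] at hz
      omega
    have htP : t ∈ (P : Subgroup G) := by rw [← hx4, map_pow]; exact pow_mem hxT 4
    obtain ⟨m, hm⟩ := hrange _ (hzc t htP)
    have hzt : ((z : P) : G) = t := by
      rcases two_group_involution m (hinj (by rw [map_mul, map_mul, hm]; exact hzc _ hxT))
        (hinj (by rw [map_mul, map_mul, hm]; exact hzc _ hyT)) (hinj (by rw [map_mul, hm, hzz, map_one])) with h | h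
      · exact absurd (by rw [← hm, h, map_one]) hz1
      · rw [← hm, h, hx4]
    have hPle : (P : Subgroup G) ≤ Subgroup.centralizer ({t} : Set G) := fun a ha =>
      Subgroup.mem_centralizer_singleton_iff.2 (by rw [← hzt]; exact (hzc a ha).symm)
    have := hPcard.trans (hCt ▸ Subgroup.card_dvd_of_le hPle)
    norm_num at this
  -- values
  set A : ℕ → IrrCharacter G → ℂ := fun a χ => (χ : G → ℂ) (emb (x ^ a)) with hA
  have hclass : ∀ (χ : IrrCharacter G) {a b : G}, IsConj a b → (χ : G → ℂ) a = (χ : G → ℂ) b := fun χ a b h =>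
    CT.isClassFunction_isConj (CT.isClassFunction_of_isIrr χ.2) h
  have hA3 : ∀ χ, A 3 χ = A 1 χ := fun χ => by
    obtain ⟨m, hm⟩ := conj_one
    exact (hclass χ (isConj_iff.2 ⟨emb m, by rw [← map_inv, ← map_mul, ← map_mul, hm]⟩)).symm
  have hA7 : ∀ χ, A 7 χ = A 5 χ := fun χ => by
    obtain ⟨m, hm⟩ := conj_five
    exact (hclass χ (isConj_iff.2 ⟨emb m, by rw [← map_inv, ← map_mul, ← map_mul, hm]⟩)).symm
  have hA6 : ∀ χ, A 6 χ = A 2 χ := fun χ => by
    obtain ⟨m, hm⟩ := conj_two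
    exact (hclass χ (isConj_iff.2 ⟨emb m, by rw [← map_inv, ← map_mul, ← map_mul, hm]⟩)).symm
  have hconjA : ∀ χ a b, a + b = 8 → conj (A a χ) = A b χ := fun χ a b hab => by
    rw [hA]
    simp only
    rw [← CT.char_inv_eq_conj (CT.isCharacter_of_isIrr χ.2), ← map_inv, inv_eq_of_mul_eq_one_right]
    rw [← pow_add, hab, x_pow_eight]
  have hc1 : ∀ χ, conj (A 1 χ) = A 5 χ := fun χ => (hconjA χ 1 7 rfl).trans (hA7 χ)
  have hc5 : ∀ χ, conj (A 5 χ) = A 1 χ := fun χ => (hconjA χ 5 3 rfl).trans (hA3 χ)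
  have hc2 : ∀ χ, conj (A 2 χ) = A 2 χ := fun χ => (hconjA χ 2 6 rfl).trans (hA6 χ)
  have hc4 : ∀ χ, conj (A 4 χ) = A 4 χ := fun χ => hconjA χ 4 4 rfl
  set deg : IrrCharacter G → ℤ := fun χ => (charDegree (χ : G → ℂ) : ℤ) with hdeg
  have hA0 : ∀ χ, A 0 χ = (deg χ : ℂ) := fun χ => by
    simp only [hA, pow_zero, map_one, charDegree_apply_one, hdeg]
  obtain ⟨ζ, hζ⟩ : ∃ ζ : ℂ, ζ ^ 4 = -1 := IsAlgClosed.exists_pow_nat_eq (-1) (by norm_num)
  set s : ℂ := ζ + ζ ^ 3 with hs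
  have hss : s * s = -2 := by rw [hs]; linear_combination (2 + ζ ^ 2) * hζ
  have hcs : conj s = -s := by
    have h1 := congrArg Complex.re hss
    have h2 := congrArg Complex.im hss
    simp at h1 h2
    have hre : s.re = 0 := by
      have h3 : s.re * s.im = 0 := by linarith
      rcases mul_eq_zero.1 h3 with h | h
      · exact h
      · rw [h] at h1; nlinarith
    apply Complex.ext <;> simp [hre]
  -- multiplicities
  have hmult : ∀ χ, ∀ k : ℕ, ∃ m : ℤ, ∑ a ∈ Finset.range 8, (ζ ^ k) ^ a * A a χ = 8 * (m : ℂ) := fun χ k => by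
    obtain ⟨m, hm⟩ := exists_mult χ hx8 (z := ζ ^ k) (by
      rw [← pow_mul, mul_comm, pow_mul, show ζ ^ 8 = 1 by rw [show ζ ^ 8 = (ζ ^ 4) ^ 2 by ring, hζ]; ring, one_pow])
    refine ⟨m, (Finset.sum_congr rfl fun a _ => ?_).trans hm⟩
    simp only [hA, ← map_pow, ← pow_mul, one_mul]
  choose N hN using hmult
  have hz2 : ζ ^ 8 = 1 := by rw [show ζ ^ 8 = (ζ ^ 4) ^ 2 by ring, hζ]; ring
  have hS : ∀ χ (z : ℂ), ∑ a ∈ Finset.range 8, z ^ a * A a χ =
      A 0 χ + (z + z ^ 3) * A 1 χ + (z ^ 5 + z ^ 7) * A 5 χ + (z ^ 2 + z ^ 6) * A 2 χ + z ^ 4 * A 4 χ := fun χ z => by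
    simp only [Finset.sum_range_succ, Finset.sum_range_zero, hA3, hA6, hA7]
    ring
  have hS0 : ∀ χ, 8 * (N χ 0 : ℂ) = A 0 χ + 2 * A 1 χ + 2 * A 5 χ + 2 * A 2 χ + A 4 χ := fun χ => by
    rw [← hN χ 0, hS]; ring
  have hS4 : ∀ χ, 8 * (N χ 4 : ℂ) = A 0 χ - 2 * A 1 χ - 2 * A 5 χ + 2 * A 2 χ + A 4 χ := fun χ => by
    rw [← hN χ 4, hS, hζ]; ring
  have hS6 : ∀ χ, 8 * (N χ 6 : ℂ) = A 0 χ - 2 * A 2 χ + A 4 χ := fun χ => by
    rw [← hN χ 6, hS, show ζ ^ 6 = -(ζ ^ 2) by linear_combination ζ ^ 2 * hζ]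
    linear_combination (-(ζ ^ 2) * A 1 χ - ζ ^ 10 * A 5 χ +
      (2 - ζ ^ 4 + ζ ^ 8) * A 2 χ + (ζ ^ 4 - 1) * A 4 χ) * hζ
  have hS1 : ∀ χ, 8 * (N χ 1 : ℂ) = A 0 χ + s * A 1 χ - s * A 5 χ - A 4 χ := fun χ => by
    rw [← hN χ 1, hS, pow_one, hs]
    linear_combination ((ζ + ζ ^ 3) * A 5 χ + ζ ^ 2 * A 2 χ + A 4 χ) * hζ
  have hS7 : ∀ χ, 8 * (N χ 7 : ℂ) = A 0 χ - s * A 1 χ + s * A 5 χ - A 4 χ := fun χ => by
    rw [← hN χ 7, hS, show ζ ^ 7 = -(ζ ^ 3) by linear_combination ζ ^ 3 * hζ, hs]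
    linear_combination ((ζ - ζ ^ 5) * A 1 χ +
      (ζ ^ 3 * (1 - ζ ^ 4 + ζ ^ 8) + ζ * (1 - ζ ^ 4 + ζ ^ 8 - ζ ^ 12 + ζ ^ 16)) * -A 5 χ +
      ζ ^ 6 * (1 - ζ ^ 4 + ζ ^ 8) * A 2 χ + (1 - ζ ^ 4 + ζ ^ 8) * A 4 χ) * hζ
  set d : IrrCharacter G → ℤ := fun χ => N χ 0 - N χ 6 with hd
  set f : IrrCharacter G → ℤ := fun χ => N χ 4 - N χ 6 with hf
  set c : IrrCharacter G → ℤ := fun χ => N χ 7 - N χ 6 with hc
  set c' : IrrCharacter G → ℤ := fun χ => N χ 1 - N χ 6 with hc'
  have ed : ∀ χ, (d χ : ℂ) = (A 1 χ + A 5 χ + 2 * A 2 χ) / 4 := fun χ => by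
    rw [hd]; push_cast; linear_combination (hS0 χ - hS6 χ) / 8
  have ef : ∀ χ, (f χ : ℂ) = (-A 1 χ - A 5 χ + 2 * A 2 χ) / 4 := fun χ => by
    rw [hf]; push_cast; linear_combination (hS4 χ - hS6 χ) / 8
  have ec : ∀ χ, (c χ : ℂ) = (-(s * A 1 χ) + s * A 5 χ + 2 * A 2 χ - 2 * A 4 χ) / 8 := fun χ => by
    rw [hc]; push_cast; linear_combination (hS7 χ - hS6 χ) / 8
  have ec' : ∀ χ, (c' χ : ℂ) = (s * A 1 χ - s * A 5 χ + 2 * A 2 χ - 2 * A 4 χ) / 8 := fun χ => by
    rw [hc']; push_cast; linear_combination (hS1 χ - hS6 χ) / 8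
  have e4 : ∀ χ, ((d χ + f χ - 2 * (c χ + c' χ) : ℤ) : ℂ) = A 4 χ := fun χ => by
    push_cast; rw [ed, ef, ec, ec']; ring
  have e2 : ∀ χ, ((d χ + f χ : ℤ) : ℂ) = A 2 χ := fun χ => by push_cast; rw [ed, ef]; ring
  -- orthogonality
  have hpow : ∀ {a b : G}, IsConj a b → ∀ n : ℕ, IsConj (a ^ n) (b ^ n) := fun {a b} h n => by
    obtain ⟨g, rfl⟩ := isConj_iff.1 h
    exact isConj_iff.2 ⟨g, by rw [conj_pow]⟩
  have hnot : ∀ (a b n : ℕ), (x ^ a) ^ n = (x ^ 4 : M) → (x ^ b) ^ n = (1 : M) →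
      ¬ IsConj (emb (x ^ a)) (emb (x ^ b)) := fun a b n ha hb h => by
    have h' := hpow h n
    rw [← map_pow, ← map_pow, ha, hb, hx4, map_one, isConj_one_left] at h'
    exact ht1 h'
  have hn15 : ¬ IsConj (emb (x ^ 1)) (emb (x ^ 5)) := fun h => by
    obtain ⟨g, hg⟩ := isConj_iff.1 h
    have h4 : g * t * g⁻¹ = t := by
      calc g * t * g⁻¹ = (g * emb (x ^ 1) * g⁻¹) ^ 4 := by rw [conj_pow, ← map_pow, ← pow_mul, one_mul, hx4]
        _ = t := by rw [hg, ← map_pow, show ((x : M) ^ 5) ^ 4 = x ^ 4 by decide +kernel, hx4]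
    obtain ⟨m, rfl⟩ := hrange g (mul_inv_eq_iff_eq_mul.1 h4)
    exact not_conj_one_five m (hinj (by rw [map_mul, map_mul, map_inv, hg]))
  have horth : ∀ (a b : ℕ), ∑ χ : IrrCharacter G, A a χ * conj (A b χ) =
      if IsConj (emb (x ^ a)) (emb (x ^ b)) then (Nat.card (Subgroup.centralizer ({emb (x ^ a)} : Set G)) : ℂ) else 0 :=
    fun a b => by convert CT.column_orthogonality (emb (x ^ a)) (emb (x ^ b))
  have c1 : Nat.card (Subgroup.centralizer ({emb (x ^ 1)} : Set G)) = 8 := by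
    rw [card_centralizer_eq emb hinj hrange _ (k := 4) (by rw [← map_pow, ← pow_mul, one_mul, hx4]), card_commute_one]
  have c2 : Nat.card (Subgroup.centralizer ({emb (x ^ 2)} : Set G)) = 8 := by
    rw [card_centralizer_eq emb hinj hrange _ (k := 2) (by rw [← map_pow, ← pow_mul, hx4]), card_commute_two]
  have c4 : Nat.card (Subgroup.centralizer ({emb (x ^ 4)} : Set G)) = 48 := by rw [hx4, hCt]
  have p14 : ((x : M) ^ 1) ^ 4 = x ^ 4 := by decide +kernel
  have p54 : ((x : M) ^ 5) ^ 4 = x ^ 4 := by decide +kernel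
  have p24 : ((x : M) ^ 2) ^ 4 = 1 := by decide +kernel
  have p44 : ((x : M) ^ 4) ^ 4 = 1 := by decide +kernel
  have p22 : ((x : M) ^ 2) ^ 2 = x ^ 4 := by decide +kernel
  have p42 : ((x : M) ^ 4) ^ 2 = 1 := by decide +kernel
  have o15 : ∑ χ, A 1 χ * A 5 χ = 8 := by
    simp only [← hc1]; rw [horth, if_pos (IsConj.refl _), c1]; norm_num
  have o11 : ∑ χ, A 1 χ * A 1 χ = 0 := by
    calc ∑ χ, A 1 χ * A 1 χ = ∑ χ, A 1 χ * conj (A 5 χ) := by simp only [hc5]
      _ = 0 := by rw [horth, if_neg hn15]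
  have o55 : ∑ χ, A 5 χ * A 5 χ = 0 := by
    calc ∑ χ, A 5 χ * A 5 χ = ∑ χ, A 5 χ * conj (A 1 χ) := by simp only [hc1]
      _ = 0 := by rw [horth, if_neg fun h => hn15 h.symm]
  have o22 : ∑ χ, A 2 χ * A 2 χ = 8 := by
    calc ∑ χ, A 2 χ * A 2 χ = ∑ χ, A 2 χ * conj (A 2 χ) := by simp only [hc2]
      _ = 8 := by rw [horth, if_pos (IsConj.refl _), c2]; norm_num
  have o44 : ∑ χ, A 4 χ * A 4 χ = 48 := by
    calc ∑ χ, A 4 χ * A 4 χ = ∑ χ, A 4 χ * conj (A 4 χ) := by simp only [hc4]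
      _ = 48 := by rw [horth, if_pos (IsConj.refl _), c4]; norm_num
  have o12 : ∑ χ, A 1 χ * A 2 χ = 0 := by
    calc ∑ χ, A 1 χ * A 2 χ = ∑ χ, A 1 χ * conj (A 2 χ) := by simp only [hc2]
      _ = 0 := by rw [horth, if_neg (hnot 1 2 4 p14 p24)]
  have o52 : ∑ χ, A 5 χ * A 2 χ = 0 := by
    calc ∑ χ, A 5 χ * A 2 χ = ∑ χ, A 5 χ * conj (A 2 χ) := by simp only [hc2]
      _ = 0 := by rw [horth, if_neg (hnot 5 2 4 p54 p24)]
  have o14 : ∑ χ, A 1 χ * A 4 χ = 0 := by
    calc ∑ χ, A 1 χ * A 4 χ = ∑ χ, A 1 χ * conj (A 4 χ) := by simp only [hc4]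
      _ = 0 := by rw [horth, if_neg (hnot 1 4 4 p14 p44)]
  have o54 : ∑ χ, A 5 χ * A 4 χ = 0 := by
    calc ∑ χ, A 5 χ * A 4 χ = ∑ χ, A 5 χ * conj (A 4 χ) := by simp only [hc4]
      _ = 0 := by rw [horth, if_neg (hnot 5 4 4 p54 p44)]
  have o24 : ∑ χ, A 2 χ * A 4 χ = 0 := by
    calc ∑ χ, A 2 χ * A 4 χ = ∑ χ, A 2 χ * conj (A 4 χ) := by simp only [hc4]
      _ = 0 := by rw [horth, if_neg (hnot 2 4 2 p22 p42)]
  have ozero : ∀ a n, (x ^ a : M) ^ n = x ^ 4 → ∑ χ, A a χ * (deg χ : ℂ) = 0 := fun a n ha => by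
    calc ∑ χ, A a χ * (deg χ : ℂ) = ∑ χ, A a χ * conj (A 0 χ) := by simp [hA0]
      _ = 0 := by rw [horth, if_neg (hnot a 0 n ha (by rw [pow_zero, one_pow]))]
  have z1 := ozero 1 4 p14
  have z5 := ozero 5 4 p54
  have z2 := ozero 2 2 p22
  have z4 := ozero 4 1 (pow_one _)
  have gram : ∀ a b c₁ e₁ a' b' c₂ e₂ : ℂ,
      ∑ χ, (a * A 1 χ + b * A 5 χ + c₁ * A 2 χ + e₁ * A 4 χ) * (a' * A 1 χ + b' * A 5 χ + c₂ * A 2 χ + e₂ * A 4 χ) =
        8 * (a * b' + b * a') + 8 * (c₁ * c₂) + 48 * (e₁ * e₂) := fun a b c₁ e₁ a' b' c₂ e₂ => by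
    rw [Finset.sum_congr rfl fun χ _ => show _ = a * a' * (A 1 χ * A 1 χ) + b * b' * (A 5 χ * A 5 χ) +
        c₁ * c₂ * (A 2 χ * A 2 χ) + e₁ * e₂ * (A 4 χ * A 4 χ) + (a * b' + b * a') * (A 1 χ * A 5 χ) +
        (a * c₂ + c₁ * a') * (A 1 χ * A 2 χ) + (a * e₂ + e₁ * a') * (A 1 χ * A 4 χ) +
        (b * c₂ + c₁ * b') * (A 5 χ * A 2 χ) + (b * e₂ + e₁ * b') * (A 5 χ * A 4 χ) +
        (c₁ * e₂ + e₁ * c₂) * (A 2 χ * A 4 χ) by ring]
    simp only [Finset.sum_add_distrib, ← Finset.mul_sum, o11, o55, o22, o44, o15, o12, o14, o52, o54, o24]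
    ring
  have lin : ∀ a b c₁ e₁ : ℂ, ∑ χ, (a * A 1 χ + b * A 5 χ + c₁ * A 2 χ + e₁ * A 4 χ) * (deg χ : ℂ) = 0 :=
    fun a b c₁ e₁ => by
      simp only [add_mul, mul_assoc, Finset.sum_add_distrib, ← Finset.mul_sum, z1, z5, z2, z4, mul_zero, add_zero]
  have vd : ∀ χ, (d χ : ℂ) = 1 / 4 * A 1 χ + 1 / 4 * A 5 χ + 1 / 2 * A 2 χ + 0 * A 4 χ := fun χ => by rw [ed]; ring
  have vf : ∀ χ, (f χ : ℂ) = -1 / 4 * A 1 χ + -1 / 4 * A 5 χ + 1 / 2 * A 2 χ + 0 * A 4 χ := fun χ => by rw [ef]; ring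
  have vc : ∀ χ, (c χ : ℂ) = -s / 8 * A 1 χ + s / 8 * A 5 χ + 1 / 4 * A 2 χ + -1 / 4 * A 4 χ := fun χ => by rw [ec]; ring
  have vc' : ∀ χ, (c' χ : ℂ) = s / 8 * A 1 χ + -s / 8 * A 5 χ + 1 / 4 * A 2 χ + -1 / 4 * A 4 χ := fun χ => by rw [ec']; ring
  set one := CT.trivIrr G with hone
  have hAone : ∀ a, A a one = 1 := fun a => by simp [hA, hone]
  have hdeg1 : deg one = 1 := by simp [hdeg, hone, charDegree, CT.trivIrr_apply]
  -- the pairs of involutions
  set L : Finset G := Finset.univ.filter fun v => IsConj t v with hLdef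
  have hL : ∀ v, v ∈ L ↔ IsConj t v := fun v => by simp [hLdef]
  have hinv : ∀ v ∈ L, v * v = 1 := fun v hv => by
    obtain ⟨g, rfl⟩ := isConj_iff.1 ((hL v).1 hv)
    calc g * t * g⁻¹ * (g * t * g⁻¹) = g * (t * t) * g⁻¹ := by group
      _ = 1 := by rw [ht2]; group
  have hcomm : ∀ a k : ℕ, ((x : M) ^ a) ^ k = x ^ 4 → ∀ u ∈ L, u * emb (x ^ a) ∈ L →
      ∃ m, emb m = u ∧ m * m = 1 ∧ m * x ^ a * (m * x ^ a) = 1 := by
    intro a k hk u hu hug
    have h1 := hinv u hu
    have h2 := hinv _ hug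
    have hui : u⁻¹ = u := inv_eq_of_mul_eq_one_right h1
    have hconj : u * emb (x ^ a) * u⁻¹ = (emb (x ^ a))⁻¹ := by
      rw [hui]; exact eq_inv_of_mul_eq_one_left (by rw [← h2]; group)
    have hut : u * t * u⁻¹ = t := by
      calc u * t * u⁻¹ = (u * emb (x ^ a) * u⁻¹) ^ k := by rw [conj_pow, ← map_pow, hk, hx4]
        _ = t := by rw [hconj, inv_pow, ← map_pow, hk, hx4, inv_eq_of_mul_eq_one_right ht2]
    obtain ⟨m, rfl⟩ := hrange u (mul_inv_eq_iff_eq_mul.1 hut)
    exact ⟨m, rfl, hinj (by rw [map_mul, h1, map_one]), hinj (by rw [map_mul, map_mul, h2, map_one])⟩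
  have hn1 : (L.filter fun u => u * emb (x ^ 1) ∈ L).card = 0 := by
    rw [Finset.card_eq_zero, Finset.filter_eq_empty_iff]
    intro u hu hug
    obtain ⟨m, -, hm1, hm2⟩ := hcomm 1 4 p14 u hu hug
    exact not_inverted m hm1 hm2
  have hn2 : (L.filter fun u => u * emb (x ^ 2) ∈ L).card = 0 ∨ (L.filter fun u => u * emb (x ^ 2) ∈ L).card = 4 := by
    by_cases hy : IsConj t (emb y)
    · right
      rw [← card_inverting, ← Finset.card_image_of_injective _ hinj]
      congr 1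
      ext u
      simp only [Finset.mem_filter, Finset.mem_image, Finset.mem_univ, true_and]
      constructor
      · rintro ⟨hu, hug⟩
        obtain ⟨m, rfl, hm⟩ := hcomm 2 2 p22 u hu hug
        exact ⟨m, hm, rfl⟩
      · rintro ⟨m, ⟨hm1, hm2⟩, rfl⟩
        obtain ⟨⟨a1, a2⟩, b1, b2⟩ := inverting_noncentral m hm1 hm2
        have hmem' : ∀ w : M, w * w = 1 → w ≠ 1 → w ≠ x ^ 4 → emb w ∈ L := fun w hw h1 h2 => by
          obtain ⟨a, rfl⟩ := conj_involution w hw h1 h2
          exact (hL _).2 (hy.trans (isConj_iff.2 ⟨emb a, by rw [← map_inv, ← map_mul, ← map_mul]⟩))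
        exact ⟨hmem' m hm1 a1 a2, by rw [← map_mul]; exact hmem' _ hm2 b1 b2⟩
    · left
      rw [Finset.card_eq_zero, Finset.filter_eq_empty_iff]
      intro u hu hug
      obtain ⟨m, rfl, hm1, hm2⟩ := hcomm 2 2 p22 u hu hug
      obtain ⟨⟨a1, a2⟩, -, -⟩ := inverting_noncentral m hm1 hm2
      obtain ⟨a, rfl⟩ := conj_involution m hm1 a1 a2
      exact hy (((hL _).1 hu).trans (isConj_iff.2 ⟨emb a, by rw [← map_inv, ← map_mul, ← map_mul]⟩).symm)
  have hw := fun a => weighted_pairs (h := emb (x ^ a)) L hL hinv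
  have hL0 : (L.card : ℂ) ≠ 0 := Nat.cast_ne_zero.2 (Finset.card_ne_zero.2 ⟨t, (hL t).2 (IsConj.refl t)⟩)
  have hLc : (L.card : ℂ) * 48 = (Nat.card G : ℂ) := by
    have h := CT.card_conj_class_mul_centralizer t
    rw [hCt, Nat.card_eq_fintype_card (α := {v : G // IsConj t v}), Fintype.card_subtype] at h
    exact_mod_cast h
  have hAt : ∀ χ : IrrCharacter G, (χ : G → ℂ) t = A 4 χ := fun χ => by simp only [hA, hx4]
  have hA1c : ∀ χ : IrrCharacter G, (χ : G → ℂ) 1 = (deg χ : ℂ) := fun χ => charDegree_apply_one χ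
  have w5 : ∑ χ, A 5 χ * A 4 χ ^ 2 / (deg χ : ℂ) = 0 := by
    have h := hw 1
    rw [hn1, Nat.cast_zero, mul_zero] at h
    refine mul_left_cancel₀ (pow_ne_zero 2 hL0) ?_
    rw [mul_zero, ← h, Finset.mul_sum]
    refine Finset.sum_congr rfl fun χ _ => ?_
    rw [hAt, hA1c, show conj ((χ : G → ℂ) (emb (x ^ 1))) = A 5 χ from hc1 χ]
    ring
  have w1 : ∑ χ, A 1 χ * A 4 χ ^ 2 / (deg χ : ℂ) = 0 := by
    have h := congrArg conj w5
    simp only [map_sum, map_zero, map_div₀, map_mul, map_pow, hc5, hc4, map_intCast] at h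
    exact h
  obtain ⟨n, hn, hw2⟩ : ∃ n : ℤ, (n = 0 ∨ n = 4) ∧
      (L.card : ℂ) ^ 2 * ∑ χ, A 2 χ * A 4 χ ^ 2 / (deg χ : ℂ) = (Nat.card G : ℂ) * (n : ℂ) := by
    refine ⟨((L.filter fun u => u * emb (x ^ 2) ∈ L).card : ℤ), ?_, ?_⟩
    · rcases hn2 with h | h <;> rw [h] <;> norm_num
    · rw [Int.cast_natCast, ← hw 2, Finset.mul_sum]
      refine Finset.sum_congr rfl fun χ _ => ?_
      rw [hAt, hA1c, show conj ((χ : G → ℂ) (emb (x ^ 2))) = A 2 χ from hc2 χ]
      ring
  have h48 : (Nat.card G : ℂ) = 16 * (3 * (k48 : ℂ)) := by rw [hk48]; push_cast; ring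
  let D : Data (IrrCharacter G) :=
    { one := one, deg := deg, d := d, f := f, c := c, c' := c'
      deg_pos := fun χ => by
        by_cases h : χ = one
        · rw [h, hdeg1]; norm_num
        · have := two_le_charDegree hnc h; simp only [hdeg]; omega
      deg_one := hdeg1
      deg_ne := fun χ h => by have := two_le_charDegree hnc h; simp only [hdeg]; omega
      d_one := Int.cast_injective (α := ℂ) (by simp only [ed, hAone]; norm_num)
      f_one := Int.cast_injective (α := ℂ) (by simp only [ef, hAone]; norm_num)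
      c_one := Int.cast_injective (α := ℂ) (by simp only [ec, hAone]; norm_num)
      c'_one := Int.cast_injective (α := ℂ) (by simp only [ec', hAone]; norm_num)
      dd := Int.cast_injective (α := ℂ) (by simp only [Int.cast_sum, Int.cast_pow, Int.cast_mul, pow_two, vd, gram]; push_cast; norm_num)
      ff := Int.cast_injective (α := ℂ) (by simp only [Int.cast_sum, Int.cast_pow, Int.cast_mul, pow_two, vf, gram]; push_cast; norm_num)
      cc := Int.cast_injective (α := ℂ) (by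
        simp only [Int.cast_sum, Int.cast_pow, Int.cast_mul, pow_two, vc, gram]; push_cast; linear_combination (-1 / 4) * hss)
      cc' := Int.cast_injective (α := ℂ) (by
        simp only [Int.cast_sum, Int.cast_pow, Int.cast_mul, pow_two, vc', gram]; push_cast; linear_combination (-1 / 4) * hss)
      cx := Int.cast_injective (α := ℂ) (by
        simp only [Int.cast_sum, Int.cast_mul, vc, vc', gram]; push_cast; linear_combination (1 / 4) * hss)
      df := Int.cast_injective (α := ℂ) (by simp only [Int.cast_sum, Int.cast_mul, vd, vf, gram]; push_cast; norm_num)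
      dc := Int.cast_injective (α := ℂ) (by simp only [Int.cast_sum, Int.cast_mul, vd, vc, gram]; push_cast; ring)
      dc' := Int.cast_injective (α := ℂ) (by simp only [Int.cast_sum, Int.cast_mul, vd, vc', gram]; push_cast; ring)
      fc := Int.cast_injective (α := ℂ) (by simp only [Int.cast_sum, Int.cast_mul, vf, vc, gram]; push_cast; ring)
      fc' := Int.cast_injective (α := ℂ) (by simp only [Int.cast_sum, Int.cast_mul, vf, vc', gram]; push_cast; ring)
      d1 := Int.cast_injective (α := ℂ) (by simp only [Int.cast_sum, Int.cast_mul, vd, lin, Int.cast_zero])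
      f1 := Int.cast_injective (α := ℂ) (by simp only [Int.cast_sum, Int.cast_mul, vf, lin, Int.cast_zero])
      c1 := Int.cast_injective (α := ℂ) (by simp only [Int.cast_sum, Int.cast_mul, vc, lin, Int.cast_zero])
      c'1 := Int.cast_injective (α := ℂ) (by simp only [Int.cast_sum, Int.cast_mul, vc', lin, Int.cast_zero])
      mod4 := fun χ => by
        have h : deg χ - (d χ + f χ - 2 * (c χ + c' χ)) = 4 * (N χ 1 + N χ 7) := by
          apply Int.cast_injective (α := ℂ)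
          rw [Int.cast_sub, e4, ← hA0]
          push_cast
          linear_combination -(hS1 χ + hS7 χ) / 2
        omega
      faithful := fun χ hχ h => by
        have hχt : (χ : G → ℂ) t = (χ : G → ℂ) 1 := by rw [hAt, ← e4, h, hA1c]
        obtain ⟨n, ρ, hρ, hρc⟩ := χ.2
        have hz1 : ρ t = 1 := (CT.rep_eq_one_iff ρ t).2 (by rw [hρc, hχt])
        rcases (MonoidHom.normal_ker ρ).eq_bot_or_eq_top with hk | hk
        · exact ht1 (Subgroup.mem_bot.1 (hk ▸ MonoidHom.mem_ker.2 hz1))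
        · have hconst : ∀ g : G, (χ : G → ℂ) g = (χ : G → ℂ) 1 := fun g => by
            rw [← hρc]
            refine (CT.rep_eq_one_iff ρ g).1 (MonoidHom.mem_ker.1 ?_)
            rw [hk]; exact Subgroup.mem_top g
          have h0 := CT.irr_inner_subtype χ one
          rw [if_neg hχ, classInner, mul_eq_zero] at h0
          have h1 := h0.resolve_left (inv_ne_zero (Nat.cast_ne_zero.2 Nat.card_pos.ne'))
          simp only [hone, CT.trivIrr_apply, map_one, mul_one, hconst, Finset.sum_const, Finset.card_univ,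
            nsmul_eq_mul, mul_eq_zero, Nat.cast_eq_zero, Fintype.card_ne_zero, false_or] at h1
          exact CT.irr_one_ne_zero χ.2 h1
      o := 3 * (k48 : ℤ)
      o_odd := by omega
      o_three := dvd_mul_right _ _
      sq := Int.cast_injective (α := ℂ) (by
        push_cast
        rw [← h48, ← CT.sum_degree_sq]
        exact Finset.sum_congr rfl fun χ _ => by rw [hA1c])
      n := n
      n_cases := hn
      eight := Rat.cast_injective (α := ℂ) (by
        simp only [Rat.cast_sum, Rat.cast_div, Rat.cast_mul, Rat.cast_pow, Rat.cast_intCast, Rat.cast_zero, e4]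
        rw [Finset.sum_congr rfl fun χ _ => show _ = 1 / 2 * (A 1 χ * A 4 χ ^ 2 / (deg χ : ℂ)) +
          1 / 2 * (A 5 χ * A 4 χ ^ 2 / (deg χ : ℂ)) by push_cast; rw [ed, ef]; ring]
        simp only [Finset.sum_add_distrib, ← Finset.mul_sum, w1, w5, mul_zero, add_zero])
      four := Rat.cast_injective (α := ℂ) (by
        simp only [Rat.cast_sum, Rat.cast_div, Rat.cast_mul, Rat.cast_pow, Rat.cast_intCast, Rat.cast_ofNat, e4, e2]
        push_cast
        rw [← h48]
        refine mul_left_cancel₀ (pow_ne_zero 2 hL0) ?_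
        rw [mul_left_comm, hw2, ← hLc]
        ring) }
  have := D.solve
  change 16 * (3 * (k48 : ℤ)) = 5616 ∨ 16 * (3 * (k48 : ℤ)) = 7920 at this
  omega

end Cfsg.Agent.SmallSimple.Octahedral
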