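import Cfsg.Agent.Lib.SmallSimple.Order168
import Cfsg.Agent.Lib.SmallSimple.SylowFive

/-!
Klein four-groups and maximal subgroups of a simple group of order 168.
-/

set_option autoImplicit false

namespace Cfsg.Agent.Order168

open Subgroup SmallSimple

variable {G : Type*} [Group G] [Finite G]

/-- The group `{1, a, b, ab}` of two commuting involutions. -/
def four (a b : G) (ha : a * a = 1) (hb : b * b = 1) (hab : Commute a b) : Subgroup G where
  carrier := {1, a, b, a * b}
  one_mem' := Set.mem_insert _ _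
  mul_mem' := by
    have e1 : a * (a * b) = b := by rw [← mul_assoc, ha, one_mul]
    have e2 : a * b * a = b := by rw [hab.eq, mul_assoc, ha, mul_one]
    have e3 : a * b * b = a := by rw [mul_assoc, hb, mul_one]
    have e4 : b * (a * b) = a := by rw [hab.eq, ← mul_assoc, hb, one_mul]
    have e5 : a * b * (a * b) = 1 := by rw [← mul_assoc, e2, hb]
    rintro u v (rfl | rfl | rfl | rfl) (rfl | rfl | rfl | rfl) <;>
      simp [ha, hb, e1, e2, e3, e4, e5, hab.eq.symm]
  inv_mem' := by
    rintro u (rfl | rfl | rfl | rfl)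
    · simp
    · simp [inv_eq_of_mul_eq_one_right ha]
    · simp [inv_eq_of_mul_eq_one_right hb]
    · simp [inv_eq_of_mul_eq_one_right ha, inv_eq_of_mul_eq_one_right hb, hab.eq.symm]

omit [Finite G] in
theorem mem_four {a b : G} {ha : a * a = 1} {hb : b * b = 1} {hab : Commute a b} {c : G} :
    c ∈ four a b ha hb hab ↔ c = 1 ∨ c = a ∨ c = b ∨ c = a * b := Iff.rfl

omit [Finite G] in
theorem four_le {a b : G} {ha : a * a = 1} {hb : b * b = 1} {hab : Commute a b} {U : Subgroup G}
    (h1 : a ∈ U) (h2 : b ∈ U) : four a b ha hb hab ≤ U := by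
  rintro c (rfl | rfl | rfl | rfl)
  exacts [U.one_mem, h1, h2, mul_mem h1 h2]

theorem card_four_group {a b : G} {ha : a * a = 1} {hb : b * b = 1} {hab : Commute a b} (ha1 : a ≠ 1)
    (hb1 : b ≠ 1) (hne : a ≠ b) : Nat.card ↥(four a b ha hb hab) = 4 := by
  have h3 : a * b ≠ 1 := fun h => hne (by rw [eq_inv_of_mul_eq_one_left h, inv_eq_of_mul_eq_one_right hb])
  rw [show Nat.card ↥(four a b ha hb hab) = ({1, a, b, a * b} : Set G).ncard from Nat.card_coe_set_eq _]
  rw [Set.ncard_insert_of_notMem (by simp [ha1.symm, hb1.symm, Ne.symm h3]),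
    Set.ncard_insert_of_notMem (by simp [hne, hb1]), Set.ncard_pair (by simp [ha1])]

theorem isKleinFour_of {U : Subgroup G} (h4 : Nat.card U = 4) (hexp : ∀ a ∈ U, a * a = 1) :
    IsKleinFour ↥U := by
  refine ⟨h4, Nat.dvd_antisymm (Monoid.exponent_dvd_of_forall_pow_eq_one fun u => ?_) ?_⟩
  · exact Subtype.ext (by simpa [pow_two] using hexp u u.2)
  · obtain ⟨u, hu⟩ : ∃ u : U, u ≠ 1 := by
      haveI : Nontrivial U := Finite.one_lt_card_iff_nontrivial.1 (by omega)
      exact exists_ne 1
    have hu2 : orderOf u = 2 := orderOf_eq_prime (Subtype.ext (by simpa [pow_two] using hexp u u.2)) hu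
    exact hu2 ▸ Monoid.order_dvd_exponent u

theorem exp_two {U : Subgroup G} (hU : IsKleinFour ↥U) {a : G} (ha : a ∈ U) : a * a = 1 := by
  haveI := hU
  exact congrArg Subtype.val (IsKleinFour.mul_self (⟨a, ha⟩ : U))

theorem comm_four {U : Subgroup G} (hU : IsKleinFour ↥U) {a b : G} (ha : a ∈ U) (hb : b ∈ U) :
    Commute a b := by
  have hi : ∀ c ∈ U, c⁻¹ = c := fun c hc => inv_eq_of_mul_eq_one_right (exp_two hU hc)
  show a * b = b * a
  conv_lhs => rw [← hi _ (mul_mem ha hb), mul_inv_rev, hi a ha, hi b hb]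

variable [IsSimpleGroup G]

namespace Gens

variable {T : Sylow 2 G} {x t : G} (D : Gens T x t)
include D

theorem out_invol {a : G} (ha : a ∈ (T : Subgroup G)) (han : a ∉ zpowers x) : a * a = 1 := by
  have h1 := (D.cover a ha).resolve_left han
  have := D.sq_out h1
  rwa [← mul_assoc t t a, D.tt, one_mul] at this

theorem tx_invol : t * x * (t * x) = 1 := D.sq_out (mem_zpowers x)

theorem t_ne_one : t ≠ 1 := fun h1 => D.tn (h1 ▸ one_mem _)

theorem tx_notMem : t * x ∉ zpowers x := fun h1 => D.tn (by
  have := mul_mem h1 (inv_mem (mem_zpowers x))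
  rwa [mul_inv_cancel_right] at this)

theorem z_ne_of_notMem {a : G} (han : a ∉ zpowers x) : x * x ≠ a := fun h1 =>
  han (h1 ▸ mul_mem (mem_zpowers x) (mem_zpowers x))

theorem z_mem_klein {U : Subgroup G} (hUT : U ≤ (T : Subgroup G)) (hU : IsKleinFour ↥U) :
    x * x ∈ U ∧ ∃ a ∈ U, a ∉ zpowers x := by
  classical
  have hin : ∀ a ∈ U, a ∈ zpowers x → a = 1 ∨ a = x * x := by
    intro a ha hax
    rcases eq_pm_of_order_four D.ox hax with h1 | h1 | h1 | h1
    · exact Or.inl h1
    · exact absurd (h1 ▸ exp_two hU ha) D.xx_ne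
    · exact Or.inr h1
    · refine absurd ?_ D.xx_ne
      have := exp_two hU ha
      rw [h1, ← mul_inv_rev, inv_eq_one] at this
      exact this
  haveI := Fintype.ofFinite U
  have h4 : Fintype.card U = 4 := by rw [← Nat.card_eq_fintype_card]; exact hU.card_four
  obtain ⟨u, hu⟩ : ∃ u : U, (u : G) ≠ 1 ∧ (u : G) ≠ x * x := by
    by_contra hc
    push_neg at hc
    have hle : Fintype.card U ≤ 2 := by
      refine (Fintype.card_le_of_injective (β := Bool) (fun u : U => decide ((u : G) = 1)) ?_).trans
        (by simp)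
      intro u v huv
      have huv' : (u : G) = 1 ↔ (v : G) = 1 := by simpa using huv
      by_cases h1 : (u : G) = 1
      · exact Subtype.ext (h1.trans (huv'.1 h1).symm)
      · exact Subtype.ext ((hc u h1).trans (hc v (fun h2 => h1 (huv'.2 h2))).symm)
    omega
  have hun : (u : G) ∉ zpowers x := fun h1 => by
    rcases hin u u.2 h1 with h2 | h2
    · exact hu.1 h2
    · exact hu.2 h2
  refine ⟨?_, u, u.2, hun⟩
  by_contra hz
  have hle : Fintype.card U ≤ 2 := by
    refine (Fintype.card_le_of_injective (β := Bool) (fun v : U => decide ((v : G) = 1)) ?_).trans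
      (by simp)
    have key : ∀ v : U, (v : G) ≠ 1 → v = u := by
      intro v hv
      have hvn : (v : G) ∉ zpowers x := fun h1 => by
        rcases hin v v.2 h1 with h2 | h2
        · exact hv h2
        · exact hz (h2 ▸ v.2)
      have hm : (u : G) * v ∈ zpowers x := by
        have h1 := mul_mem (inv_mem ((D.cover u (hUT u.2)).resolve_left hun))
          ((D.cover v (hUT v.2)).resolve_left hvn)
        rw [mul_inv_rev, mul_assoc, inv_mul_cancel_left,
          inv_eq_of_mul_eq_one_right (exp_two hU u.2)] at h1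
        exact h1
      rcases hin _ (mul_mem u.2 v.2) hm with h2 | h2
      · exact Subtype.ext ((eq_inv_of_mul_eq_one_right h2).trans (inv_eq_of_mul_eq_one_right (exp_two hU u.2)))
      · exact absurd (h2 ▸ mul_mem u.2 v.2) hz
    intro v w hvw
    have hvw' : (v : G) = 1 ↔ (w : G) = 1 := by simpa using hvw
    by_cases h1 : (v : G) = 1
    · exact Subtype.ext (h1.trans (hvw'.1 h1).symm)
    · rw [key v h1, key w fun h2 => h1 (hvw'.2 h2)]
  omega

/-- The first Klein four-group. -/
def kleinA : Subgroup G := four (x * x) t D.x4 D.tt (D.z_central D.ht).symm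

/-- The second Klein four-group. -/
def kleinB : Subgroup G :=
  four (x * x) (t * x) D.x4 D.tx_invol (D.z_central (mul_mem D.ht D.hx)).symm

theorem card_kleinA : Nat.card ↥D.kleinA = 4 :=
  card_four_group D.xx_ne D.t_ne_one (D.z_ne_of_notMem D.tn)

theorem card_kleinB : Nat.card ↥D.kleinB = 4 :=
  card_four_group D.xx_ne (fun h1 => D.tx_notMem (h1 ▸ one_mem _)) (D.z_ne_of_notMem D.tx_notMem)

theorem kleinA_le : D.kleinA ≤ (T : Subgroup G) := four_le (mul_mem D.hx D.hx) D.ht

theorem kleinB_le : D.kleinB ≤ (T : Subgroup G) :=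
  four_le (mul_mem D.hx D.hx) (mul_mem D.ht D.hx)

theorem isKlein_A : IsKleinFour ↥D.kleinA := by
  refine isKleinFour_of D.card_kleinA ?_
  rintro a (rfl | rfl | rfl | rfl)
  · simp
  · exact D.x4
  · exact D.tt
  · rw [← (D.z_central D.ht), mul_assoc t, ← mul_assoc (x * x) t, ← D.z_central D.ht,
      mul_assoc t (x * x), D.x4, mul_one, D.tt]

theorem isKlein_B : IsKleinFour ↥D.kleinB := by
  have hc := D.z_central (mul_mem D.ht D.hx)
  refine isKleinFour_of D.card_kleinB ?_
  rintro a (rfl | rfl | rfl | rfl)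
  · simp
  · exact D.x4
  · exact D.tx_invol
  · rw [← hc, mul_assoc (t * x), ← mul_assoc (x * x) (t * x), ← hc, mul_assoc (t * x) (x * x),
      D.x4, mul_one, D.tx_invol]

theorem kleinA_ne : D.kleinA ≠ D.kleinB := fun h1 => by
  have h2 : t * x ∈ D.kleinA := h1 ▸ Or.inr (Or.inr (Or.inl rfl))
  rcases h2 with h2 | h2 | h2 | h2
  · exact D.tx_notMem (h2 ▸ one_mem _)
  · exact D.z_ne_of_notMem D.tx_notMem h2.symm
  · rw [mul_eq_left] at h2
    have := D.ox
    rw [h2, orderOf_one] at this
    norm_num at this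
  · have h3 : t * x = x * x * t := h2
    rw [← D.z_central D.ht, mul_left_cancel_iff, left_eq_mul] at h3
    have := D.ox
    rw [h3, orderOf_one] at this
    norm_num at this

theorem klein_cases {U : Subgroup G} (hUT : U ≤ (T : Subgroup G)) (hU : IsKleinFour ↥U) :
    U = D.kleinA ∨ U = D.kleinB := by
  obtain ⟨hz, a, ha, han⟩ := D.z_mem_klein hUT hU
  have hzt : x * x * t = t * (x * x) := (D.z_central D.ht).symm
  rcases D.cases_mem (hUT ha) with h1 | h1 | h1 | h1 | h1 | h1 | h1 | h1
  · exact absurd (h1 ▸ one_mem _) han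
  · exact absurd (h1 ▸ mem_zpowers x) han
  · exact absurd (h1 ▸ mul_mem (mem_zpowers x) (mem_zpowers x)) han
  · exact absurd (h1 ▸ inv_mem (mem_zpowers x)) han
  · left
    exact (eq_of_le_of_card_ge (four_le hz (h1 ▸ ha)) (by rw [hU.card_four]; exact D.card_kleinA.ge)).symm
  · right
    exact (eq_of_le_of_card_ge (four_le hz (h1 ▸ ha)) (by rw [hU.card_four]; exact D.card_kleinB.ge)).symm
  · left
    have h2 := mul_mem ha hz
    rw [h1, mul_assoc, D.x4, mul_one] at h2
    exact (eq_of_le_of_card_ge (four_le hz h2) (by rw [hU.card_four]; exact D.card_kleinA.ge)).symm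
  · right
    have h2 := mul_mem ha hz
    rw [h1, mul_assoc, inv_mul_cancel_left] at h2
    exact (eq_of_le_of_card_ge (four_le hz h2) (by rw [hU.card_four]; exact D.card_kleinB.ge)).symm

end Gens

section

variable (h : Nat.card G = 168)
include h

theorem card_le_of_ne_top {M : Subgroup G} (hM : M ≠ ⊤) : Nat.card M ≤ 24 := by
  have h1 := card_dvd_factorial_index hM
  have h2 := card_mul_index M
  rw [h] at h1 h2
  by_contra hc
  have h6 : M.index ≤ 6 := by nlinarith
  interval_cases hi : M.index <;> norm_num [Nat.factorial] at h1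

theorem le_normalizer_of_index_two {U T : Subgroup G} (hUT : U ≤ T) (hU : Nat.card U = 4)
    (hT : Nat.card T = 8) : T ≤ normalizer (U : Set G) := by
  refine normal_subgroupOf_iff_le_normalizer hUT |>.1 (Subgroup.normal_of_index_eq_two ?_)
  have h3 := (U.subgroupOf T).card_mul_index
  rw [Nat.card_congr (subgroupOfEquivOfLe hUT).toEquiv, hU, hT] at h3
  omega

theorem normalizer_klein_ne_top {U : Subgroup G} (hU : IsKleinFour ↥U) :
    normalizer (U : Set G) ≠ ⊤ := by
  intro hN
  rcases (normalizer_eq_top_iff.1 hN).eq_bot_or_eq_top with h1 | h1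
  · have := hU.card_four
    rw [h1, card_bot] at this
    norm_num at this
  · have := hU.card_four
    rw [h1, card_top, h] at this
    norm_num at this

theorem card_normalizer_klein {U : Subgroup G} (hU : IsKleinFour ↥U) :
    Nat.card (normalizer (U : Set G)) = 24 := by
  haveI : Fact (Nat.Prime 2) := ⟨Nat.prime_two⟩
  obtain ⟨T, hT⟩ := (IsPGroup.of_card (p := 2) (n := 2) (G := U) (by rw [hU.card_four]; norm_num)).exists_le_sylow
  obtain ⟨x, t, D⟩ := gens h T
  obtain ⟨hz, a, ha, han⟩ := D.z_mem_klein hT hU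
  obtain ⟨T', x', t', D', hax⟩ := involution_eq h (orderOf_eq_prime (p := 2)
    (by rw [pow_two]; exact D.out_invol (hT ha) han) (fun h1 => han (h1 ▸ one_mem _)) : orderOf a = 2)
  have hUT' : U ≤ (T' : Subgroup G) := fun b hb => by
    rw [← centralizer_z h D', ← hax]
    exact mem_centralizer_singleton_iff.2 (comm_four hU hb ha).eq
  have h1 := le_normalizer_of_index_two h hT hU.card_four (card_sylow_two h T)
  have h2 := le_normalizer_of_index_two h hUT' hU.card_four (card_sylow_two h T')
  have hne : (T : Subgroup G) ≠ T' := fun he => by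
    have hc : ∀ b ∈ (T : Subgroup G), b * a = a * b := fun b hb => by
      rw [hax]; exact D'.z_central (he ▸ hb)
    rcases D.center_eq (hT ha) hc with h3 | h3
    · exact han (h3 ▸ one_mem _)
    · exact D.z_ne_of_notMem han h3.symm
  have h8 : 8 ∣ Nat.card (normalizer (U : Set G)) := card_sylow_two h T ▸ card_dvd_of_le h1
  have hne8 : Nat.card (normalizer (U : Set G)) ≠ 8 := fun h8' => by
    have e1 := eq_of_le_of_card_ge h1 (by rw [h8', card_sylow_two h T])
    have e2 := eq_of_le_of_card_ge h2 (by rw [h8', card_sylow_two h T'])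
    exact hne (e1.trans e2.symm)
  have hle := card_le_of_ne_top h (normalizer_klein_ne_top h hU)
  have hd : Nat.card (normalizer (U : Set G)) ∣ 168 := h ▸ card_subgroup_dvd_card _
  obtain ⟨k, hk⟩ := h8
  rw [hk] at hd hle hne8 ⊢
  have : k ∣ 21 := Nat.dvd_of_mul_dvd_mul_left (show 0 < 8 by norm_num) hd
  have hk3 : k ≤ 3 := by omega
  interval_cases k <;> first | rfl | omega | norm_num at this

theorem exists_klein_of_card {M : Subgroup G} (hM : Nat.card M = 12 ∨ Nat.card M = 24) :
    ∃ U : Subgroup G, IsKleinFour ↥U ∧ M ≤ normalizer (U : Set G) := by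
  classical
  haveI : Fact (Nat.Prime 2) := ⟨Nat.prime_two⟩
  haveI : Fact (Nat.Prime 3) := ⟨Nat.prime_three⟩
  obtain ⟨V⟩ : Nonempty (Sylow 2 M) := inferInstance
  have hVi : (V : Subgroup M).index = 3 := by
    have h2 := card_mul_index (V : Subgroup M)
    rcases hM with h1 | h1
    · rw [card_sylow_of_eq (k := 2) (m := 3) V (by rw [h1]; norm_num) (by norm_num), h1] at h2
      omega
    · rw [card_sylow_of_eq (k := 3) (m := 3) V (by rw [h1]; norm_num) (by norm_num), h1] at h2
      omega
  set W₀ := (V : Subgroup M).normalCore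
  have hdvd : W₀.index ∣ 6 := by
    have h1 : W₀ = (MulAction.toPermHom M (M ⧸ (V : Subgroup M))).ker := normalCore_eq_ker _
    rw [h1, index_ker]
    refine (card_subgroup_dvd_card _).trans (dvd_of_eq ?_)
    rw [Nat.card_perm, ← Subgroup.index, hVi]
    rfl
  set W := W₀.map M.subtype with hW
  have hWc : Nat.card W = Nat.card W₀ := card_map_of_injective M.subtype_injective
  have hWp : IsPGroup 2 W := (V.2.to_le (normalCore_le _)).map _
  have hMN : M ≤ normalizer (W : Set G) := by
    intro g hg
    rw [Subgroup.mem_normalizer_iff]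
    intro a
    constructor
    · rintro ⟨b, hb, rfl⟩
      exact ⟨⟨g, hg⟩ * b * ⟨g, hg⟩⁻¹, (normalCore_normal _).conj_mem b hb _, by simp⟩
    · rintro ⟨b, hb, hb'⟩
      refine ⟨(⟨g, hg⟩ : M)⁻¹ * b * ⟨g, hg⟩, (normalCore_normal _).conj_mem' b hb _, ?_⟩
      simp only [map_mul, map_inv, Subgroup.coe_subtype]
      rw [show ((b : M) : G) = g * a * g⁻¹ from hb']
      group
  obtain ⟨y, hy⟩ := exists_prime_orderOf_dvd_card' (G := M) 3 (by rcases hM with h1 | h1 <;> rw [h1] <;> norm_num)
  have hy' : orderOf (y : G) = 3 := (orderOf_coe y).trans hy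
  have hcard : Nat.card W = 4 := by
    rw [hWc]
    have h2 := card_mul_index W₀
    obtain ⟨i, hi, hi'⟩ := (Nat.dvd_prime_pow Nat.prime_two).1
      (show Nat.card W₀ ∣ 2 ^ 3 by
        have h3 : Nat.card W ∣ 168 := h ▸ card_subgroup_dvd_card W
        obtain ⟨j, hj⟩ := IsPGroup.iff_card.1 hWp
        rw [hWc] at hj h3
        rw [hj] at h3 ⊢
        have hc : Nat.Coprime (2 ^ j) 21 := Nat.Coprime.pow_left _ (by norm_num)
        exact hc.dvd_of_dvd_mul_right (show 2 ^ j ∣ 2 ^ 3 * 21 from h3))
    have hn1 : i ≠ 0 := by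
      rintro rfl
      rw [hi', pow_zero, one_mul] at h2
      have := Nat.le_of_dvd (by norm_num) hdvd
      omega
    have hn2 : i ≠ 1 := by
      rintro rfl
      obtain ⟨w, hw, hw1⟩ := (W.bot_or_exists_ne_one).resolve_left (fun hb => by
        rw [← hWc, hb, card_bot] at hi'; norm_num at hi')
      have hcomm : (y : G) * w * (y : G)⁻¹ = w := by
        have hm := (Subgroup.mem_normalizer_iff.1 (hMN y.2) w).1 hw
        by_contra hne
        have hne1 : (y : G) * w * (y : G)⁻¹ ≠ 1 := by simpa [conj_eq_one_iff] using hw1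
        haveI := Fintype.ofFinite W
        have hc2 : Fintype.card W = 2 := by rw [← Nat.card_eq_fintype_card, hWc, hi', pow_one]
        have hsub : ({(1 : W), ⟨w, hw⟩, ⟨_, hm⟩} : Finset W).card ≤ 2 := hc2 ▸ Finset.card_le_univ _
        rw [Finset.card_insert_of_notMem (by simp [Subtype.ext_iff, Ne.symm hw1, Ne.symm hne1]),
          Finset.card_pair (by simpa [Subtype.ext_iff] using Ne.symm hne)] at hsub
        omega
      have h4 := orderOf_dvd_natCard _ (show w ∈ centralizer ({(y : G)} : Set G) from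
        mem_centralizer_singleton_iff.2 (mul_inv_eq_iff_eq_mul.1 hcomm).symm)
      rw [centralizer_prime h (Or.inl rfl) hy'] at h4
      have h5 := orderOf_dvd_natCard _ hw
      rw [hWc, hi', pow_one] at h5
      exact hw1 (orderOf_eq_one_iff.1 (Nat.eq_one_of_dvd_coprimes (by norm_num) h4 h5))
    have hn3 : i ≠ 3 := by
      rintro rfl
      obtain ⟨T, hT⟩ := hWp.exists_le_sylow
      have e := eq_of_le_of_card_ge hT (by rw [card_sylow_two h T, hWc, hi']; norm_num)
      rw [e, normalizer_two h T] at hMN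
      have h3 := card_dvd_of_le hMN
      rw [card_sylow_two h T] at h3
      rcases hM with h1 | h1 <;> rw [h1] at h3 <;> norm_num at h3
    have : i = 2 := by omega
    rw [hi', this]; norm_num
  refine ⟨W, isKleinFour_of hcard fun k hk => ?_, hMN⟩
  by_contra hk2
  obtain ⟨T, hT⟩ := hWp.exists_le_sylow
  obtain ⟨x, t, D⟩ := gens h T
  have hsq : ∀ {b : G}, b ∈ (T : Subgroup G) → b * b ≠ 1 → b * b = x * x := by
    intro b hb hb2
    rcases D.eq_x_of_sq_ne hb hb2 with rfl | rfl
    · rfl
    · rw [← mul_inv_rev]; exact inv_eq_of_mul_eq_one_right D.x4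
  have hle : M ≤ centralizer ({x * x} : Set G) := fun g hg => by
    refine mem_centralizer_singleton_iff.2 (mul_inv_eq_iff_eq_mul.1 ?_)
    rw [← hsq (hT hk) hk2]
    have hgk := (Subgroup.mem_normalizer_iff.1 (hMN hg) k).1 hk
    have hne : g * k * g⁻¹ * (g * k * g⁻¹) ≠ 1 := by rw [conj_mul]; simpa [conj_eq_one_iff] using hk2
    rw [← conj_mul, hsq (hT hgk) hne, hsq (hT hk) hk2]
  rw [centralizer_z h D] at hle
  have h3 := card_dvd_of_le hle
  rw [card_sylow_two h T] at h3
  rcases hM with h1 | h1 <;> rw [h1] at h3 <;> norm_num at h3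

theorem eq_normalizer_klein {M : Subgroup G} (hM : Nat.card M = 24) :
    ∃ U : Subgroup G, IsKleinFour ↥U ∧ M = normalizer (U : Set G) := by
  obtain ⟨U, hU, hle⟩ := exists_klein_of_card h (Or.inr hM)
  exact ⟨U, hU, eq_of_le_of_card_ge hle (by rw [card_normalizer_klein h hU, hM])⟩

theorem no_order_six (M : Subgroup G) (g : M) : orderOf g ≠ 6 := by
  rw [← orderOf_coe g]
  intro h6
  rcases orderOf_cases h (g : G) with h1 | h1 | h1 <;> rw [h6] at h1 <;> norm_num at h1

theorem isCoatom_normalizer_klein {U : Subgroup G} (hU : IsKleinFour ↥U) :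
    IsCoatom (normalizer (U : Set G)) := by
  refine ⟨normalizer_klein_ne_top h hU, fun M hM => ?_⟩
  by_contra hne
  refine hM.ne (eq_of_le_of_card_ge hM.le ?_)
  rw [card_normalizer_klein h hU]
  exact card_le_of_ne_top h hne

theorem maximal_cases {M : Subgroup G} (hM : IsCoatom M) :
    Nat.card M = 24 ∨ (Nat.card M = 21 ∧ ∃ S : Sylow 7 G, M = normalizer ((S : Subgroup G) : Set G)) := by
  haveI : Fact (Nat.Prime 2) := ⟨Nat.prime_two⟩
  haveI : Fact (Nat.Prime 3) := ⟨Nat.prime_three⟩
  haveI : Fact (Nat.Prime 7) := ⟨by norm_num⟩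
  have hle := card_le_of_ne_top h hM.1
  have hd : Nat.card M ∣ 168 := h ▸ card_subgroup_dvd_card _
  obtain ⟨T0⟩ : Nonempty (Sylow 2 G) := inferInstance
  obtain ⟨x0, t0, D0⟩ := gens h T0
  have below : ∀ N : Subgroup G, M ≤ N → N ≠ ⊤ → Nat.card M = Nat.card N := fun N h1 h2 => by
    rcases h1.lt_or_eq with h3 | h3
    · exact absurd (hM.2 N h3) h2
    · rw [h3]
  by_cases h7 : 7 ∣ Nat.card M
  · right
    obtain ⟨P⟩ : Nonempty (Sylow 7 M) := inferInstance
    have hn : Nat.card (Sylow 7 M) = 1 := by
      have h1 := card_sylow_modEq_one 7 M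
      rw [Nat.ModEq] at h1
      have h2 := card_sylow_mul P
      have h3 : 7 ∣ Nat.card (normalizer ((P : Subgroup M) : Set M)) :=
        (P.dvd_card_of_dvd_card h7).trans (card_dvd_of_le le_normalizer)
      obtain ⟨c, hc⟩ := h3
      rw [hc] at h2
      have hpos : 0 < c := Nat.pos_of_ne_zero (fun h0 => by rw [h0, mul_zero, mul_zero] at h2; exact Nat.card_pos.ne h2)
      have : 7 * Nat.card (Sylow 7 M) ≤ 24 := le_trans (by nlinarith) hle
      omega
    haveI := (Nat.card_eq_one_iff_unique.1 hn).1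
    have hPn : (P : Subgroup M).Normal := Sylow.normal_of_subsingleton P
    set V := (P : Subgroup M).map M.subtype with hV
    obtain ⟨S, hS⟩ := (P.2.map M.subtype).exists_le_sylow
    have hVc : Nat.card V = 7 := by
      rw [hV, card_map_of_injective M.subtype_injective]
      have h1 := P.dvd_card_of_dvd_card h7
      have h2 := card_dvd_of_le hS
      rw [card_sylow_seven h S, card_map_of_injective M.subtype_injective] at h2
      exact Nat.dvd_antisymm h2 h1
    have hVS : V = (S : Subgroup G) := eq_of_le_of_card_ge hS (by rw [card_sylow_seven h S, hVc])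
    have hMN : M ≤ normalizer ((S : Subgroup G) : Set G) := by
      rw [← hVS]
      intro g hg
      rw [Subgroup.mem_normalizer_iff]
      intro a
      constructor
      · rintro ⟨b, hb, rfl⟩
        exact ⟨⟨g, hg⟩ * b * ⟨g, hg⟩⁻¹, hPn.conj_mem b hb _, by simp⟩
      · rintro ⟨b, hb, hb'⟩
        refine ⟨(⟨g, hg⟩ : M)⁻¹ * b * ⟨g, hg⟩, hPn.conj_mem' b hb _, ?_⟩
        simp only [map_mul, map_inv, Subgroup.coe_subtype]
        rw [show ((b : M) : G) = g * a * g⁻¹ from hb']
        group
    have hne := normalizer_sylow_ne_top (not_comm h) (p := 7) (by rw [h]; norm_num) S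
    have hc := below _ hMN hne
    rw [card_normalizer_seven h S] at hc
    exact ⟨hc, S, eq_of_le_of_card_ge hMN (by rw [hc, card_normalizer_seven h S])⟩
  · left
    have key : Nat.card M = 1 ∨ Nat.card M = 2 ∨ Nat.card M = 4 ∨ Nat.card M = 8 ∨ Nat.card M = 3 ∨
        Nat.card M = 6 ∨ Nat.card M = 12 ∨ Nat.card M = 24 := by
      have key' : ∀ n ∈ Nat.divisors 168, n ≤ 24 → ¬ 7 ∣ n →
          n = 1 ∨ n = 2 ∨ n = 4 ∨ n = 8 ∨ n = 3 ∨ n = 6 ∨ n = 12 ∨ n = 24 := by decide +kernel
      exact key' _ (Nat.mem_divisors.2 ⟨hd, by norm_num⟩) hle h7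
    rcases key with k | k | k | k | k | k | k | k
    iterate 4
      exfalso
      obtain ⟨T, hT⟩ := (IsPGroup.of_card_dvd_pow (p := 2) (n := 3) (G := M) (by rw [k]; norm_num)).exists_le_sylow
      obtain ⟨x, t, D⟩ := gens h T
      have hMN := hT.trans (le_normalizer_of_index_two h D.kleinA_le D.card_kleinA (card_sylow_two h T))
      have := below _ hMN (normalizer_klein_ne_top h D.isKlein_A)
      rw [card_normalizer_klein h D.isKlein_A, k] at this
      norm_num at this
    iterate 2
      exfalso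
      obtain ⟨y, hy⟩ := exists_prime_orderOf_dvd_card' (G := M) 3 (by simp only [k]; norm_num)
      obtain ⟨S, hS⟩ := (IsPGroup.of_card (p := 3) (n := 1) (G := zpowers (y : G))
        (by rw [Nat.card_zpowers, orderOf_coe, hy, pow_one])).exists_le_sylow
      have eS : zpowers (y : G) = S := eq_of_le_of_card_ge hS
        (by rw [card_sylow_three h S, Nat.card_zpowers, orderOf_coe, hy])
      have hidx : ((zpowers (y : G)).subgroupOf M).index ∣ 2 := by
        have h3 := ((zpowers (y : G)).subgroupOf M).card_mul_index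
        rw [Nat.card_congr (subgroupOfEquivOfLe (zpowers_le.2 y.2)).toEquiv, Nat.card_zpowers,
          orderOf_coe, hy, k] at h3
        exact ⟨2 / ((zpowers (y : G)).subgroupOf M).index, by
          rcases (show ((zpowers (y : G)).subgroupOf M).index = 1 ∨
            ((zpowers (y : G)).subgroupOf M).index = 2 by omega) with e | e <;> rw [e]⟩
      have hn : ((zpowers (y : G)).subgroupOf M).Normal := by
        rcases (Nat.dvd_prime Nat.prime_two).1 hidx with e | e
        · rw [index_eq_one.1 e]; infer_instance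
        · exact normal_of_index_eq_two e
      have hMN : M ≤ normalizer ((S : Subgroup G) : Set G) := by
        rw [← eS]
        exact (normal_subgroupOf_iff_le_normalizer (zpowers_le.2 y.2)).1 hn
      -- `N(S)` lies in a conjugate of a Klein normaliser
      set N0 := normalizer (D0.kleinA : Set G)
      have hN0 := card_normalizer_klein h D0.isKlein_A
      obtain ⟨y0, hy0⟩ := exists_prime_orderOf_dvd_card' (G := N0) 3 (by rw [hN0]; norm_num)
      obtain ⟨S0, hS0⟩ := (IsPGroup.of_card (p := 3) (n := 1) (G := zpowers (y0 : G))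
        (by rw [Nat.card_zpowers, orderOf_coe, hy0, pow_one])).exists_le_sylow
      have eS0 : zpowers (y0 : G) = S0 := eq_of_le_of_card_ge hS0
        (by rw [card_sylow_three h S0, Nat.card_zpowers, orderOf_coe, hy0])
      have hS0N : (S0 : Subgroup G) ≤ N0 := eS0 ▸ zpowers_le.2 y0.2
      have hn3 := card_sylow_subgroup_mul S0 N0 hS0N
      have hmod := card_sylow_modEq_one 3 N0
      rw [Nat.ModEq] at hmod
      have h6 : Nat.card ↥(normalizer ((S0 : Subgroup G) : Set G) ⊓ N0) ∣ 6 :=
        card_normalizer_three h S0 ▸ card_dvd_of_le inf_le_left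
      have h3d : 3 ∣ Nat.card ↥(normalizer ((S0 : Subgroup G) : Set G) ⊓ N0) :=
        (dvd_of_eq (card_sylow_three h S0).symm).trans (card_dvd_of_le (le_inf le_normalizer hS0N))
      rw [hN0] at hn3
      have hle0 : normalizer ((S0 : Subgroup G) : Set G) ≤ N0 := by
        have he : Nat.card ↥(normalizer ((S0 : Subgroup G) : Set G) ⊓ N0) = 6 := by
          obtain ⟨j, hj⟩ := h3d
          rw [hj] at h6 hn3 ⊢
          have : j ∣ 2 := Nat.dvd_of_mul_dvd_mul_left (show 0 < 3 by norm_num) h6
          rcases (Nat.dvd_prime Nat.prime_two).1 this with rfl | rfl <;> omega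
        exact inf_eq_left.1 (eq_of_le_of_card_ge inf_le_left (by rw [he, card_normalizer_three h S0]))
      obtain ⟨g, hg⟩ := MulAction.exists_smul_eq G S0 S
      have hle1 : M ≤ N0.map (MulAut.conj g).toMonoidHom := by
        intro m hm
        refine ⟨g⁻¹ * m * g, hle0 ?_, by simp [mul_assoc]⟩
        have hm' := hMN hm
        rw [← SylowFive.smul_sylow_eq, ← hg] at hm'
        refine (SylowFive.smul_sylow_eq S0).1 ?_
        rw [mul_smul, mul_smul, hm', inv_smul_smul]
      have hc := below _ hle1 (fun ht => by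
        have := congrArg (fun H : Subgroup G => Nat.card H) ht
        rw [card_map_of_injective (MulAut.conj g).injective, hN0, card_top, h] at this
        norm_num at this)
      rw [card_map_of_injective (MulAut.conj g).injective, hN0, k] at hc
      norm_num at hc
    · exfalso
      obtain ⟨U, hU, hle1⟩ := exists_klein_of_card h (Or.inl k)
      have := below _ hle1 (normalizer_klein_ne_top h hU)
      rw [card_normalizer_klein h hU, k] at this
      norm_num at this
    · exact k

end

end Cfsg.Agent.Order168
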