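import Cfsg.Agent.Lib.SmallSimple.BlockRigid

/-!
# Degrees modulo `p` for a Frobenius normalizer of order `p(p-1)`

If `C(P) = P` and `|N(P)| = p(p-1)` then every character degree is congruent to `0` or `±1` modulo `p`.
-/

set_option autoImplicit false

namespace Cfsg.Agent.SmallSimple

open Cfsg
open scoped ComplexConjugate

universe u

theorem sq_sum_bound {ι : Type*} [Fintype ι] (n : ι → ℤ) {p : ℕ} (hcard : Fintype.card ι = p) {d : ℕ}
    (hd : ∑ i, n i = (d : ℤ)) :
    ((d % p : ℕ) : ℤ) * ((p : ℤ) - ((d % p : ℕ) : ℤ)) + (d : ℤ) ^ 2 ≤ (p : ℤ) * ∑ i, n i ^ 2 := by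
  set q : ℤ := ((d / p : ℕ) : ℤ) with hq
  have h0 : (0 : ℤ) ≤ ∑ i, (n i - q) * (n i - q - 1) := Finset.sum_nonneg fun i _ => by
    rcases le_or_gt (n i) q with h | h <;> nlinarith
  have h1 : ∑ i, (n i - q) * (n i - q - 1) = ∑ i, n i ^ 2 - (2 * q + 1) * (d : ℤ) + (p : ℤ) * (q * (q + 1)) := by
    rw [← hd, Finset.mul_sum, ← hcard, ← Finset.sum_sub_distrib,
      show (Fintype.card ι : ℤ) * (q * (q + 1)) = ∑ _i : ι, q * (q + 1) by
        rw [Finset.sum_const, Finset.card_univ, nsmul_eq_mul],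
      ← Finset.sum_add_distrib]
    exact Finset.sum_congr rfl fun i _ => by ring
  rw [h1] at h0
  have hdm : (d : ℤ) = (p : ℤ) * q + ((d % p : ℕ) : ℤ) := by
    rw [hq]; exact_mod_cast (Nat.div_add_mod d p).symm
  have h2 := mul_nonneg (Int.natCast_nonneg p) h0
  rw [hdm] at h2 ⊢
  nlinarith [h2]

variable {G : Type u} [Group G] [Finite G] [IsSimpleGroup G]

/-- The bound on a Sylow subgroup of prime order. -/
theorem restrict_bound {p : ℕ} [hp : Fact p.Prime] (P : Subgroup G) [Fintype P] (hP : Nat.card P = p)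
    (χ : IrrCharacter G) :
    ((((charDegree (χ : G → ℂ)) % p : ℕ) : ℝ) * ((p : ℝ) - (((charDegree (χ : G → ℂ)) % p : ℕ) : ℝ))) +
      (charDegree (χ : G → ℂ) : ℝ) ^ 2 ≤ ∑ x : P, ‖(χ : G → ℂ) x‖ ^ 2 := by
  classical
  haveI : IsCyclic P := isCyclic_of_prime_card hP
  letI := IsCyclic.commGroup (α := P)
  set f : P → ℂ := fun x => (χ : G → ℂ) x with hf
  have hres : IsCharacter P f := CT.isCharacter_restrict P (CT.isCharacter_of_isIrr χ.2)
  have hcf : IsClassFunction P f := CT.isClassFunction_of_isCharacter hres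
  have hlin : ∀ ξ : IrrCharacter P, (ξ : P → ℂ) 1 = 1 := fun ξ => by
    have h := CT.irr_degree_one_of_comm (fun a b : P => mul_comm a b) ξ.2
    exact h
  have hn : ∀ ξ : IrrCharacter P, ∃ k : ℕ, classInner f (ξ : P → ℂ) = k := fun ξ =>
    CT.classInner_character_nat hres (CT.isCharacter_of_isIrr ξ.2)
  choose k hk using hn
  have hcard : Fintype.card (IrrCharacter P) = p := by
    have h : ∑ ξ : IrrCharacter P, (ξ : P → ℂ) 1 ^ 2 = (Nat.card P : ℂ) := CT.sum_degree_sq
    simp only [hlin, one_pow, Finset.sum_const, Finset.card_univ, nsmul_eq_mul, mul_one, hP] at h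
    exact_mod_cast h
  have hsum : ∑ ξ : IrrCharacter P, (k ξ : ℤ) = ((charDegree (χ : G → ℂ) : ℕ) : ℤ) := by
    have h := congrFun (CT.classFunction_eq_sum hcf) 1
    simp only [Finset.sum_apply, Pi.smul_apply, smul_eq_mul, hk, hlin, mul_one] at h
    have h1 : f 1 = ((charDegree (χ : G → ℂ) : ℕ) : ℂ) := by
      simp only [hf, OneMemClass.coe_one, charDegree_apply_one, Int.cast_natCast]
    rw [h1] at h
    exact_mod_cast h.symm
  have hb := sq_sum_bound (fun ξ => (k ξ : ℤ)) hcard hsum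
  have hinner : classInner f f = ((∑ ξ : IrrCharacter P, (k ξ : ℝ) ^ 2 : ℝ) : ℂ) := by
    rw [CT.classInner_eq_sum hcf]
    simp only [hk, Complex.conj_natCast, ← pow_two]
    push_cast
    rfl
  rw [CT.classInner_self] at hinner
  have hinner' : (Nat.card P : ℝ)⁻¹ * ∑ x : P, ‖f x‖ ^ 2 = ∑ ξ : IrrCharacter P, (k ξ : ℝ) ^ 2 := by
    exact_mod_cast hinner
  rw [hP, inv_mul_eq_iff_eq_mul₀ (Nat.cast_ne_zero.2 hp.out.ne_zero)] at hinner'
  rw [hinner']
  have hb' := (Int.cast_le (R := ℝ)).2 hb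
  push_cast at hb'
  exact hb'

/-- Every degree is `0` or `±1` modulo `p`. -/
theorem deg_mod_cases (hnc : ¬ IsMulCommutative G) {p : ℕ} [hp : Fact p.Prime] (P : Sylow p G)
    (hP : Nat.card P = p)
    (hC : Nat.card (Subgroup.centralizer ((P : Subgroup G) : Set G)) = p)
    (hN : Nat.card (Subgroup.normalizer ((P : Subgroup G) : Set G)) = p * (p - 1)) (χ : IrrCharacter G) :
    charDegree (χ : G → ℂ) % p = 0 ∨ charDegree (χ : G → ℂ) % p = 1 ∨
      charDegree (χ : G → ℂ) % p = p - 1 := by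
  classical
  haveI := Fintype.ofFinite G
  haveI := Fintype.ofFinite (P : Subgroup G)
  obtain ⟨M, hM⟩ := Blocks.exists_isPModular hp.out
  haveI := hM.2.1.isPrime
  have hp2 := hp.out.two_le
  have hrel : (Blocks.D1.cC P).relIndex (Blocks.D1.cN P) = p - 1 := by
    have hle : Subgroup.centralizer ((P : Subgroup G) : Set G) ≤
        Subgroup.normalizer ((P : Subgroup G) : Set G) := Subgroup.centralizer_le_normalizer _
    have h := Subgroup.card_mul_index ((Subgroup.centralizer ((P : Subgroup G) : Set G)).subgroupOf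
      (Subgroup.normalizer ((P : Subgroup G) : Set G)))
    rw [Nat.card_congr (Subgroup.subgroupOfEquivOfLe hle).toEquiv, hC, hN] at h
    exact Nat.eq_of_mul_eq_mul_left hp.out.pos h
  obtain ⟨X, Y, εX, ε, hdvd, hXY, hdis, hXc, hYc, hX, hε, hY, hag, hrel'⟩ :=
    Blocks.D1.exists_principal_structure hM P hP hrel
  rw [Nat.div_self (by omega)] at hYc
  set r : IrrCharacter G → ℕ := fun χ => charDegree (χ : G → ℂ) % p with hr
  have hres : ∀ a : ℤ, (a = 1 ∨ a = -1) → ∀ n : ℕ, (n : ℤ) ≡ a [ZMOD p] → n % p = 1 ∨ n % p = p - 1 := by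
    intro a ha n hn
    have hmod : ((n % p : ℕ) : ℤ) = a % (p : ℤ) := by push_cast; exact hn
    have hp' : (2 : ℤ) ≤ p := by exact_mod_cast hp2
    rcases ha with rfl | rfl
    · left
      rw [Int.emod_eq_of_lt (by norm_num) (by omega)] at hmod
      exact_mod_cast hmod
    · right
      rw [← Int.add_emod_right, Int.emod_eq_of_lt (by omega) (by omega)] at hmod
      omega
  have hBr : ∀ ψ ∈ X.toFinset ∪ Y.toFinset, r ψ = 1 ∨ r ψ = p - 1 := by
    intro ψ hψ
    rcases Finset.mem_union.1 hψ with h | h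
    · obtain ⟨hs, hm, -⟩ := hX ψ (Set.mem_toFinset.1 h)
      exact hres _ hs _ hm
    · refine hres (-ε) (by rcases hε with e | e <;> simp [e]) _ ((hY ψ (Set.mem_toFinset.1 h)).trans ?_)
      rw [Int.modEq_iff_dvd]
      refine ⟨-ε, ?_⟩
      push_cast [Nat.cast_sub hp.out.one_lt.le]
      ring
  have hBc : (X.toFinset ∪ Y.toFinset).card = p := by
    rw [Finset.card_union_of_disjoint (Set.disjoint_toFinset.2 hdis), ← Set.ncard_eq_toFinset_card',
      ← Nat.card_coe_set_eq, hXc, ← Set.ncard_eq_toFinset_card', ← Nat.card_coe_set_eq, hYc]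
    omega
  -- the total over all characters
  set F : IrrCharacter G → ℝ := fun ψ => ∑ x : (P : Subgroup G), ‖(ψ : G → ℂ) x‖ ^ 2 with hF
  have hgen : ∀ x : (P : Subgroup G), x ≠ 1 → Nat.card (Subgroup.centralizer ({(x : G)} : Set G)) = p := by
    intro x hx
    have hz : Subgroup.zpowers (x : G) = (P : Subgroup G) := Subgroup.eq_of_le_of_card_ge
      (Subgroup.zpowers_le.2 x.2) (by
        rw [Nat.card_zpowers, Subgroup.orderOf_coe]
        have hd := orderOf_dvd_natCard x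
        rw [hP] at hd
        rw [hP, ((Nat.dvd_prime hp.out).1 hd).resolve_left fun h => hx (orderOf_eq_one_iff.1 h)])
    have e : Subgroup.centralizer ({(x : G)} : Set G) = Subgroup.centralizer ((P : Subgroup G) : Set G) := by
      refine le_antisymm (fun g hg => Subgroup.mem_centralizer_iff.2 fun y hy => ?_)
        (Subgroup.centralizer_le (Set.singleton_subset_iff.2 x.2))
      rw [← hz] at hy
      obtain ⟨i, rfl⟩ := hy
      exact ((show Commute g (x : G) from Subgroup.mem_centralizer_singleton_iff.1 hg).zpow_right i).eq.symm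
    rw [e, hC]
  have htotal : ∑ ψ : IrrCharacter G, F ψ =
      (∑ ψ : IrrCharacter G, (charDegree (ψ : G → ℂ) : ℝ) ^ 2) + ((p : ℝ) - 1) * p := by
    simp only [hF]
    rw [Finset.sum_comm, ← Finset.add_sum_erase _ _ (Finset.mem_univ (1 : (P : Subgroup G)))]
    congr 1
    · refine Finset.sum_congr rfl fun ψ _ => ?_
      rw [OneMemClass.coe_one, charDegree_apply_one, Int.cast_natCast, Complex.norm_natCast]
    · rw [Finset.sum_congr rfl (g := fun _ => (p : ℝ)) fun x hx => ?_, Finset.sum_const,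
        Finset.card_erase_of_mem (Finset.mem_univ _), Finset.card_univ, ← Nat.card_eq_fintype_card, hP,
        nsmul_eq_mul, Nat.cast_sub hp.out.one_lt.le, Nat.cast_one]
      have h := CT.column_orthogonality (x : G) (x : G)
      rw [if_pos (IsConj.refl _), hgen x (Finset.ne_of_mem_erase hx)] at h
      simp only [Complex.mul_conj'] at h
      exact_mod_cast h
  have hbound : ∀ ψ : IrrCharacter G, ((r ψ : ℕ) : ℝ) * ((p : ℝ) - (r ψ : ℕ)) +
      (charDegree (ψ : G → ℂ) : ℝ) ^ 2 ≤ F ψ := fun ψ => restrict_bound (P : Subgroup G) hP ψ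
  have hR : ∑ ψ : IrrCharacter G, ((r ψ : ℕ) : ℝ) * ((p : ℝ) - (r ψ : ℕ)) ≤ ((p : ℝ) - 1) * p := by
    have h := Finset.sum_le_sum fun ψ (_ : ψ ∈ Finset.univ) => hbound ψ
    rw [Finset.sum_add_distrib, htotal] at h
    linarith
  have hnonneg : ∀ ψ : IrrCharacter G, (0 : ℝ) ≤ ((r ψ : ℕ) : ℝ) * ((p : ℝ) - (r ψ : ℕ)) := fun ψ => by
    have h : (r ψ : ℝ) ≤ (p : ℝ) := by exact_mod_cast (Nat.mod_lt _ hp.out.pos).le
    exact mul_nonneg (Nat.cast_nonneg _) (by linarith)
  by_cases hχ : χ ∈ X.toFinset ∪ Y.toFinset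
  · exact Or.inr (hBr χ hχ)
  left
  have hsplit : ∑ ψ ∈ insert χ (X.toFinset ∪ Y.toFinset), ((r ψ : ℕ) : ℝ) * ((p : ℝ) - (r ψ : ℕ)) ≤
      ((p : ℝ) - 1) * p :=
    le_trans (Finset.sum_le_univ_sum_of_nonneg hnonneg) hR
  have hB : ∀ ψ ∈ X.toFinset ∪ Y.toFinset, ((r ψ : ℕ) : ℝ) * ((p : ℝ) - (r ψ : ℕ)) = (p : ℝ) - 1 := by
    intro ψ hψ
    rcases hBr ψ hψ with h | h <;> rw [h]
    · simp
    · rw [Nat.cast_sub hp.out.one_lt.le, Nat.cast_one]; ring
  rw [Finset.sum_insert hχ, Finset.sum_congr rfl hB, Finset.sum_const, hBc, nsmul_eq_mul] at hsplit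
  have h0 : ((r χ : ℕ) : ℝ) * ((p : ℝ) - (r χ : ℕ)) = 0 := le_antisymm (by linarith) (hnonneg χ)
  rcases mul_eq_zero.1 h0 with h | h
  · exact_mod_cast h
  · exfalso
    have h1 : r χ = p := by exact_mod_cast (sub_eq_zero.1 h).symm
    exact (Nat.mod_lt (charDegree (χ : G → ℂ)) hp.out.pos).ne h1

/-- Every degree is `0`, `±1` or `±e` modulo `p`. -/
theorem deg_mod_cases_general (hnc : ¬ IsMulCommutative G) {p e : ℕ} [hp : Fact p.Prime] (P : Sylow p G)
    (hP : Nat.card P = p)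
    (hC : Nat.card (Subgroup.centralizer ((P : Subgroup G) : Set G)) = p)
    (hN : Nat.card (Subgroup.normalizer ((P : Subgroup G) : Set G)) = e * p) (χ : IrrCharacter G) :
    charDegree (χ : G → ℂ) % p = 0 ∨ charDegree (χ : G → ℂ) % p = 1 ∨
      charDegree (χ : G → ℂ) % p = p - 1 ∨ charDegree (χ : G → ℂ) % p = e % p ∨
      charDegree (χ : G → ℂ) % p = p - e := by
  classical
  haveI := Fintype.ofFinite G
  haveI := Fintype.ofFinite (P : Subgroup G)
  obtain ⟨M, hM⟩ := Blocks.exists_isPModular hp.out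
  haveI := hM.2.1.isPrime
  have hp2 := hp.out.two_le
  have hrel : (Blocks.D1.cC P).relIndex (Blocks.D1.cN P) = e := by
    have hle : Subgroup.centralizer ((P : Subgroup G) : Set G) ≤
        Subgroup.normalizer ((P : Subgroup G) : Set G) := Subgroup.centralizer_le_normalizer _
    have h := Subgroup.card_mul_index ((Subgroup.centralizer ((P : Subgroup G) : Set G)).subgroupOf
      (Subgroup.normalizer ((P : Subgroup G) : Set G)))
    rw [Nat.card_congr (Subgroup.subgroupOfEquivOfLe hle).toEquiv, hC, hN] at h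
    exact Nat.eq_of_mul_eq_mul_left hp.out.pos (h.trans (mul_comm e p))
  obtain ⟨X, Y, εX, ε, hdvd, hXY, hdis, hXc, hYc, hX, hε, hY, hag, hrel'⟩ :=
    Blocks.D1.exists_principal_structure hM P hP hrel
  have he0 : 0 < e := Nat.pos_of_dvd_of_pos hdvd (by omega)
  have hep : e < p := by
    have := Nat.le_of_dvd (by omega) hdvd
    omega
  set r : IrrCharacter G → ℕ := fun χ => charDegree (χ : G → ℂ) % p with hr
  have hres : ∀ a : ℤ, (a = 1 ∨ a = -1) → ∀ n : ℕ, (n : ℤ) ≡ a [ZMOD p] → n % p = 1 ∨ n % p = p - 1 := by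
    intro a ha n hn
    have hmod : ((n % p : ℕ) : ℤ) = a % (p : ℤ) := by push_cast; exact hn
    have hp' : (2 : ℤ) ≤ p := by exact_mod_cast hp2
    rcases ha with rfl | rfl
    · left
      rw [Int.emod_eq_of_lt (by norm_num) (by omega)] at hmod
      exact_mod_cast hmod
    · right
      rw [← Int.add_emod_right, Int.emod_eq_of_lt (by omega) (by omega)] at hmod
      omega
  have hXr : ∀ ψ ∈ X.toFinset, r ψ = 1 ∨ r ψ = p - 1 := fun ψ h => by
    obtain ⟨hs, hm, -⟩ := hX ψ (Set.mem_toFinset.1 h)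
    exact hres _ hs _ hm
  have hYr : ∀ ψ ∈ Y.toFinset, r ψ = e ∨ r ψ = p - e := fun ψ h => by
    have hmod : ((r ψ : ℕ) : ℤ) = (ε * (e : ℤ)) % (p : ℤ) := by
      simp only [hr]
      push_cast
      exact hY ψ (Set.mem_toFinset.1 h)
    rcases hε with h' | h'
    · left
      rw [h', one_mul, Int.emod_eq_of_lt (by omega) (by omega)] at hmod
      exact_mod_cast hmod
    · right
      rw [h', neg_one_mul, ← Int.add_emod_right, Int.emod_eq_of_lt (by omega) (by omega)] at hmod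
      omega
  -- the total over all characters
  set F : IrrCharacter G → ℝ := fun ψ => ∑ x : (P : Subgroup G), ‖(ψ : G → ℂ) x‖ ^ 2 with hF
  have hgen : ∀ x : (P : Subgroup G), x ≠ 1 → Nat.card (Subgroup.centralizer ({(x : G)} : Set G)) = p := by
    intro x hx
    have hz : Subgroup.zpowers (x : G) = (P : Subgroup G) := Subgroup.eq_of_le_of_card_ge
      (Subgroup.zpowers_le.2 x.2) (by
        rw [Nat.card_zpowers, Subgroup.orderOf_coe]
        have hd := orderOf_dvd_natCard x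
        rw [hP] at hd
        rw [hP, ((Nat.dvd_prime hp.out).1 hd).resolve_left fun h => hx (orderOf_eq_one_iff.1 h)])
    have e : Subgroup.centralizer ({(x : G)} : Set G) = Subgroup.centralizer ((P : Subgroup G) : Set G) := by
      refine le_antisymm (fun g hg => Subgroup.mem_centralizer_iff.2 fun y hy => ?_)
        (Subgroup.centralizer_le (Set.singleton_subset_iff.2 x.2))
      rw [← hz] at hy
      obtain ⟨i, rfl⟩ := hy
      exact ((show Commute g (x : G) from Subgroup.mem_centralizer_singleton_iff.1 hg).zpow_right i).eq.symm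
    rw [e, hC]
  have htotal : ∑ ψ : IrrCharacter G, F ψ =
      (∑ ψ : IrrCharacter G, (charDegree (ψ : G → ℂ) : ℝ) ^ 2) + ((p : ℝ) - 1) * p := by
    simp only [hF]
    rw [Finset.sum_comm, ← Finset.add_sum_erase _ _ (Finset.mem_univ (1 : (P : Subgroup G)))]
    congr 1
    · refine Finset.sum_congr rfl fun ψ _ => ?_
      rw [OneMemClass.coe_one, charDegree_apply_one, Int.cast_natCast, Complex.norm_natCast]
    · rw [Finset.sum_congr rfl (g := fun _ => (p : ℝ)) fun x hx => ?_, Finset.sum_const,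
        Finset.card_erase_of_mem (Finset.mem_univ _), Finset.card_univ, ← Nat.card_eq_fintype_card, hP,
        nsmul_eq_mul, Nat.cast_sub hp.out.one_lt.le, Nat.cast_one]
      have h := CT.column_orthogonality (x : G) (x : G)
      rw [if_pos (IsConj.refl _), hgen x (Finset.ne_of_mem_erase hx)] at h
      simp only [Complex.mul_conj'] at h
      exact_mod_cast h
  have hbound : ∀ ψ : IrrCharacter G, ((r ψ : ℕ) : ℝ) * ((p : ℝ) - (r ψ : ℕ)) +
      (charDegree (ψ : G → ℂ) : ℝ) ^ 2 ≤ F ψ := fun ψ => restrict_bound (P : Subgroup G) hP ψ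
  have hR : ∑ ψ : IrrCharacter G, ((r ψ : ℕ) : ℝ) * ((p : ℝ) - (r ψ : ℕ)) ≤ ((p : ℝ) - 1) * p := by
    have h := Finset.sum_le_sum fun ψ (_ : ψ ∈ Finset.univ) => hbound ψ
    rw [Finset.sum_add_distrib, htotal] at h
    linarith
  have hnonneg : ∀ ψ : IrrCharacter G, (0 : ℝ) ≤ ((r ψ : ℕ) : ℝ) * ((p : ℝ) - (r ψ : ℕ)) := fun ψ => by
    have h : (r ψ : ℝ) ≤ (p : ℝ) := by exact_mod_cast (Nat.mod_lt _ hp.out.pos).le
    exact mul_nonneg (Nat.cast_nonneg _) (by linarith)
  by_cases hχ : χ ∈ X.toFinset ∪ Y.toFinset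
  · rcases Finset.mem_union.1 hχ with h | h
    · rcases hXr χ h with h | h
      · exact Or.inr (Or.inl h)
      · exact Or.inr (Or.inr (Or.inl h))
    · rcases hYr χ h with h | h
      · exact Or.inr (Or.inr (Or.inr (Or.inl (h.trans (Nat.mod_eq_of_lt hep).symm))))
      · exact Or.inr (Or.inr (Or.inr (Or.inr h)))
  left
  have hsplit : ∑ ψ ∈ insert χ (X.toFinset ∪ Y.toFinset), ((r ψ : ℕ) : ℝ) * ((p : ℝ) - (r ψ : ℕ)) ≤
      ((p : ℝ) - 1) * p :=
    le_trans (Finset.sum_le_univ_sum_of_nonneg hnonneg) hR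
  have h1 : ∀ ψ ∈ X.toFinset, ((r ψ : ℕ) : ℝ) * ((p : ℝ) - (r ψ : ℕ)) = (p : ℝ) - 1 := by
    intro ψ hψ
    rcases hXr ψ hψ with h | h <;> rw [h]
    · simp
    · rw [Nat.cast_sub hp.out.one_lt.le, Nat.cast_one]; ring
  have h2 : ∀ ψ ∈ Y.toFinset, ((r ψ : ℕ) : ℝ) * ((p : ℝ) - (r ψ : ℕ)) = (e : ℝ) * ((p : ℝ) - e) := by
    intro ψ hψ
    rcases hYr ψ hψ with h | h <;> rw [h]
    rw [Nat.cast_sub hep.le]; ring
  obtain ⟨t, ht⟩ := hdvd
  have ht' : (p : ℝ) - 1 = (e : ℝ) * t := by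
    have h : ((p - 1 : ℕ) : ℝ) = ((e * t : ℕ) : ℝ) := by rw [ht]
    rwa [Nat.cast_sub hp.out.one_lt.le, Nat.cast_one, Nat.cast_mul] at h
  have hYt : Y.toFinset.card = t := by
    rw [← Set.ncard_eq_toFinset_card', ← Nat.card_coe_set_eq, hYc, ht, Nat.mul_div_cancel_left _ he0]
  rw [Finset.sum_insert hχ, Finset.sum_union (Set.disjoint_toFinset.2 hdis), Finset.sum_congr rfl h1,
    Finset.sum_congr rfl h2, Finset.sum_const, Finset.sum_const, hYt, ← Set.ncard_eq_toFinset_card',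
    ← Nat.card_coe_set_eq, hXc, nsmul_eq_mul, nsmul_eq_mul] at hsplit
  have heq : (e : ℝ) * ((p : ℝ) - 1) + (t : ℝ) * ((e : ℝ) * ((p : ℝ) - e)) = ((p : ℝ) - 1) * p := by
    rw [ht']; ring
  have h0 : ((r χ : ℕ) : ℝ) * ((p : ℝ) - (r χ : ℕ)) = 0 := le_antisymm (by linarith) (hnonneg χ)
  rcases mul_eq_zero.1 h0 with h | h
  · exact_mod_cast h
  · exfalso
    have h3 : r χ = p := by exact_mod_cast (sub_eq_zero.1 h).symm
    exact (Nat.mod_lt (charDegree (χ : G → ℂ)) hp.out.pos).ne h3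

end Cfsg.Agent.SmallSimple
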