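import Cfsg.Agent.Lib.SmallSimple.BlockDeg

/-!
# Searching the possible degree patterns of a principal block
-/

set_option autoImplicit false

namespace Cfsg.Agent.SmallSimple

open Subgroup

/-- Candidates for a signed non-exceptional degree. -/
def cands (N p B : ℕ) : List ℤ :=
  let l : List ℕ := (List.range (B + 1)).filter fun a => decide (2 ≤ a ∧ a ∣ N)
  l.flatMap fun (a : ℕ) => [(a : ℤ), -(a : ℤ)].filter fun s => decide ((s - 1) % (p : ℤ) = 0)

/-- The exhaustive search. -/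
def search (N p B e : ℕ) : ℕ → ℤ → ℤ → Bool
  | 0, sum, sq => decide (2 ≤ sum.natAbs ∧ sum.natAbs ∣ N ∧ (sum - e) % (p : ℤ) = 0 ∧
      sq + (((p - 1) / e : ℕ) : ℤ) * sum ^ 2 ≤ (N : ℤ))
  | k + 1, sum, sq => (cands N p B).any fun s => decide (sq + s * s ≤ (N : ℤ)) && search N p B e k (sum + s) (sq + s * s)

theorem search_of_sol {N p B e : ℕ} : ∀ (k : ℕ) (s : Fin k → ℤ) (sum sq : ℤ),
    (∀ i, s i ∈ cands N p B) → 2 ≤ (sum + ∑ i, s i).natAbs → (sum + ∑ i, s i).natAbs ∣ N →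
    (sum + ∑ i, s i - e) % (p : ℤ) = 0 →
    sq + ∑ i, s i * s i + (((p - 1) / e : ℕ) : ℤ) * (sum + ∑ i, s i) ^ 2 ≤ (N : ℤ) →
    search N p B e k sum sq = true := by
  intro k
  induction k with
  | zero =>
    intro s sum sq _ h1 h2 h3 h4
    simp only [Fin.sum_univ_zero, add_zero] at h1 h2 h3 h4
    rw [search]
    exact decide_eq_true ⟨h1, h2, h3, h4⟩
  | succ k ih =>
    intro s sum sq hs h1 h2 h3 h4
    rw [Fin.sum_univ_succ, ← add_assoc] at h1 h2 h3
    rw [Fin.sum_univ_succ, Fin.sum_univ_succ, ← add_assoc, ← add_assoc] at h4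
    rw [search, List.any_eq_true]
    refine ⟨s 0, hs 0, ?_⟩
    rw [Bool.and_eq_true]
    refine ⟨decide_eq_true ?_, ih (fun i => s i.succ) _ _ (fun i => hs _) h1 h2 h3 h4⟩
    have hn : 0 ≤ ∑ i : Fin k, s i.succ * s i.succ := Finset.sum_nonneg fun i _ => mul_self_nonneg _
    have ht : (0 : ℤ) ≤ (((p - 1) / e : ℕ) : ℤ) * (sum + s 0 + ∑ i : Fin k, s i.succ) ^ 2 := by positivity
    linarith

/-- What the Sylow theorems and the principal block give when `p` divides the order exactly once. -/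
theorem block_data {G : Type*} [Group G] [Finite G] [IsSimpleGroup G] (p : ℕ) [hp : Fact p.Prime]
    {N m B : ℕ} (hN : Nat.card G = N) (hm : N = p * m) (hpm : ¬ p ∣ m) (hB : N < (B + 1) * (B + 1))
    (hnp : ¬ N.Prime) :
    ∃ n e c : ℕ, n ∣ m ∧ n % p = 1 ∧ n ≠ 1 ∧ e ∣ p - 1 ∧ e ≠ 1 ∧ n * (e * c) = m ∧
      search N p B e (e - 1) 1 1 = true ∧ ∃ P : Sylow p G,
        Nat.card (Sylow p G) = n ∧ Nat.card (normalizer ((P : Subgroup G) : Set G)) = e * (p * c) ∧
        Nat.card (centralizer ((P : Subgroup G) : Set G)) = p * c := by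
  classical
  have hnc : ¬ IsMulCommutative G := not_isMulCommutative (by rw [hN]; exact hnp)
  obtain ⟨P⟩ : Nonempty (Sylow p G) := inferInstance
  have hP : Nat.card P = p := by
    simpa using card_sylow_of_eq (k := 1) (m := m) P (by rw [hN, hm, pow_one]) hpm
  obtain ⟨e, hed, he1, heC⟩ := sylow_relIndex hnc P hP
  haveI : IsCyclic (P : Subgroup G) := isCyclic_of_prime_card hP
  obtain ⟨c, hc⟩ : p ∣ Nat.card (centralizer ((P : Subgroup G) : Set G)) :=
    by
      have h := card_dvd_of_le (le_centralizer (P : Subgroup G))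
      rwa [hP] at h
  have hnN := card_sylow_mul P
  rw [hN, ← heC, hc, hm] at hnN
  have hnm : Nat.card (Sylow p G) * (e * c) = m :=
    Nat.eq_of_mul_eq_mul_left hp.out.pos (by rw [← hnN]; ring)
  have hn1 : Nat.card (Sylow p G) % p = 1 := by
    have := card_sylow_modEq_one p G
    rwa [Nat.ModEq, Nat.mod_eq_of_lt hp.out.one_lt] at this
  refine ⟨_, e, c, ⟨_, hnm.symm⟩, hn1, card_sylow_ne_one hnc (by rw [hN, hm]; exact dvd_mul_right p m),
    hed, he1, hnm, ?_, P, rfl, by rw [← heC, hc], hc⟩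
  obtain ⟨s, d, hs, hd2, hdN, hde, hsum, hsq⟩ := signed_degrees hnc P hP he1 heC
  rw [hN] at hs hdN hsq
  have hsB : ∀ i, (s i).natAbs ≤ B := fun i => by
    by_contra hlt
    have h1 : s i ^ 2 ≤ ∑ j, s j ^ 2 := Finset.single_le_sum (fun j _ => sq_nonneg (s j)) (Finset.mem_univ i)
    have h2 : (0 : ℤ) ≤ (((p - 1) / e : ℕ) : ℤ) * d ^ 2 := by positivity
    have h3 : ((B + 1) * (B + 1) : ℤ) ≤ ((s i).natAbs : ℤ) * ((s i).natAbs : ℤ) := by
      have : B + 1 ≤ (s i).natAbs := by omega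
      exact_mod_cast Nat.mul_le_mul this this
    rw [Int.natAbs_mul_self' , ← pow_two] at h3
    have hB' : (N : ℤ) < (B + 1) * (B + 1) := by exact_mod_cast hB
    linarith
  refine search_of_sol _ s 1 1 (fun i => ?_) ?_ ?_ ?_ ?_
  · obtain ⟨h2, hd, hm1⟩ := hs i
    rw [cands, List.mem_flatMap]
    refine ⟨(s i).natAbs, ?_, ?_⟩
    · rw [List.mem_filter, List.mem_range]
      exact ⟨by have := hsB i; omega, decide_eq_true ⟨h2, hd⟩⟩
    · rw [List.mem_filter]
      refine ⟨?_, decide_eq_true (Int.emod_eq_zero_of_dvd (Int.ModEq.dvd hm1.symm))⟩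
      rcases Int.natAbs_eq (s i) with h | h
      · exact List.mem_cons.2 (Or.inl h)
      · exact List.mem_cons.2 (Or.inr (List.mem_singleton.2 h))
  · rwa [hsum]
  · rwa [hsum]
  · rw [hsum]; exact Int.emod_eq_zero_of_dvd (Int.ModEq.dvd hde.symm)
  · rw [hsum]
    simp only [← pow_two]
    exact hsq

end Cfsg.Agent.SmallSimple
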