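import Cfsg.Agent.Lib.SmallSimple.BlockDihedral
import Cfsg.Agent.Lib.CT.Integral
import Cfsg.Agent.Lib.OddLocal.Puig

/-!
# Local arguments for simple groups with a Sylow subgroup of order seven
-/

set_option autoImplicit false

namespace Cfsg.Agent.SmallSimple

open Subgroup

/-- An even permutation of at most nine points with order divisible by seven has order seven. -/
theorem order_eq_seven {α : Type*} [Fintype α] [DecidableEq α] (hα : Fintype.card α ≤ 9)
    {σ : Equiv.Perm α} (hsign : Equiv.Perm.sign σ = 1) (h7 : 7 ∣ orderOf σ) : orderOf σ = 7 := by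
  classical
  obtain ⟨n, hn, hn7⟩ : ∃ n ∈ σ.cycleType, 7 ∣ n := by
    by_contra h
    push Not at h
    have key : ∀ m : Multiset ℕ, (∀ n ∈ m, ¬ 7 ∣ n) → ¬ 7 ∣ m.lcm := by
      intro m
      induction m using Multiset.induction with
      | empty => intro _; simp
      | cons a m ih =>
        intro hm hd
        rw [Multiset.lcm_cons] at hd
        rcases (Nat.Prime.dvd_mul (by norm_num)).1 (hd.trans (Nat.lcm_dvd_mul a m.lcm)) with h | h
        · exact hm a (Multiset.mem_cons_self a m) h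
        · exact ih (fun n hn => hm n (Multiset.mem_cons_of_mem hn)) h
    rw [← Equiv.Perm.lcm_cycleType] at h7
    exact key _ h h7
  obtain ⟨rest, hrest⟩ := Multiset.exists_cons_of_mem hn
  have hsum := σ.sum_cycleType_le
  rw [hrest, Multiset.sum_cons] at hsum
  have hn2 := Equiv.Perm.two_le_of_mem_cycleType hn
  have hn' : n = 7 := by
    obtain ⟨k, rfl⟩ := hn7
    omega
  subst hn'
  rcases rest.empty_or_exists_mem with rfl | ⟨b, hb⟩
  · rw [← Equiv.Perm.lcm_cycleType, hrest]
    rfl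
  · obtain ⟨r', rfl⟩ := Multiset.exists_cons_of_mem hb
    have hb2 := Equiv.Perm.two_le_of_mem_cycleType (show b ∈ σ.cycleType by rw [hrest]; simp)
    rw [Multiset.sum_cons] at hsum
    have hb' : b = 2 := by omega
    subst hb'
    rcases r'.empty_or_exists_mem with rfl | ⟨c, hc⟩
    · rw [Equiv.Perm.sign_of_cycleType, hrest] at hsign
      norm_num at hsign
    · have hc2 := Equiv.Perm.two_le_of_mem_cycleType (show c ∈ σ.cycleType by rw [hrest]; simp [hc])
      have := Multiset.le_sum_of_mem hc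
      omega

variable {G : Type*} [Group G] [Finite G] [IsSimpleGroup G]

/-- In a simple group with a subgroup of index at most nine an element of order `7` has a centraliser of
exponent seven. -/
theorem orderOf_eq_seven_of_index (hnc : ¬ IsMulCommutative G) {H : Subgroup G} (hH : H ≠ ⊤)
    (hi : H.index ≤ 9) {g : G} (hg : 7 ∣ orderOf g) : orderOf g = 7 := by
  classical
  haveI := Fintype.ofFinite (G ⧸ H)
  let φ := MulAction.toPermHom G (G ⧸ H)
  have hinj : Function.Injective φ := toPermHom_injective hH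
  have hsign : Equiv.Perm.sign (φ g) = 1 := by
    rcases (MonoidHom.normal_ker ((Equiv.Perm.sign (α := G ⧸ H)).comp φ)).eq_bot_or_eq_top with h | h
    · exact absurd ⟨⟨fun a b => (MonoidHom.ker_eq_bot_iff _).1 h (by
        rw [map_mul, map_mul, mul_comm])⟩⟩ hnc
    · have hm : g ∈ ((Equiv.Perm.sign (α := G ⧸ H)).comp φ).ker := by rw [h]; exact Subgroup.mem_top g
      exact MonoidHom.mem_ker.1 hm
  rw [← orderOf_injective φ hinj g] at hg ⊢
  exact order_eq_seven (by rw [← Nat.card_eq_fintype_card, ← Subgroup.index]; exact hi) hsign hg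

theorem card_eq_seven_of_index (hnc : ¬ IsMulCommutative G) {H : Subgroup G} (hH : H ≠ ⊤)
    (hi : H.index ≤ 9) (P : Subgroup G) (hP : Nat.card P = 7) {c : ℕ}
    (hC : Nat.card (centralizer (P : Set G)) = 7 * c) (h7 : ¬ 7 ∣ c) : c = 1 := by
  by_contra hc
  obtain ⟨q, hq, hqc⟩ := Nat.exists_prime_and_dvd hc
  haveI : Fact q.Prime := ⟨hq⟩
  obtain ⟨y, hy⟩ := exists_prime_orderOf_dvd_card' (G := centralizer (P : Set G)) q
    (by rw [hC]; exact hqc.mul_left 7)
  haveI : Fact (Nat.Prime 7) := ⟨by norm_num⟩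
  obtain ⟨x, hx⟩ := exists_prime_orderOf_dvd_card' (G := P) 7 (by rw [hP])
  have hxy : Commute (x : G) (y : G) := Subgroup.mem_centralizer_iff.1 y.2 x x.2
  have hq7 : q ≠ 7 := fun h => h7 (h ▸ hqc)
  have hco : (orderOf (x : G)).Coprime (orderOf (y : G)) := by
    rw [Subgroup.orderOf_coe, Subgroup.orderOf_coe, hx, hy]
    exact (Nat.coprime_primes (by norm_num) hq).2 (Ne.symm hq7)
  have ho := hxy.orderOf_mul_eq_mul_orderOf_of_coprime hco
  rw [Subgroup.orderOf_coe, Subgroup.orderOf_coe, hx, hy] at ho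
  have h := orderOf_eq_seven_of_index hnc hH hi (g := (x : G) * y) (by rw [ho]; exact dvd_mul_right 7 q)
  rw [ho] at h
  have := hq.two_le
  omega

/-- The configuration with an abelian factor of `2`-power order in the centraliser of the Sylow `7`. -/
theorem no_dihedral_times_two_group (hnc : ¬ IsMulCommutative G) {k : ℕ} (hk : 2 ≤ k)
    (hG : Nat.card G = 2 ^ (k + 3) * 63) (P : Sylow 7 G) (hP : Nat.card P = 7)
    (hN : Nat.card (normalizer ((P : Subgroup G) : Set G)) = 2 * (7 * 2 ^ k))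
    (hC : Nat.card (centralizer ((P : Subgroup G) : Set G)) = 7 * 2 ^ k) : False := by
  classical
  haveI : Fact (Nat.Prime 2) := ⟨Nat.prime_two⟩
  haveI : Fact (Nat.Prime 7) := ⟨by norm_num⟩
  set C := centralizer ((P : Subgroup G) : Set G) with hCdef
  set N := normalizer ((P : Subgroup G) : Set G) with hNdef
  have hCN : C ≤ N := Subgroup.centralizer_le_normalizer _
  obtain ⟨T0⟩ : Nonempty (Sylow 2 N) := inferInstance
  set T : Subgroup G := (T0 : Subgroup N).map N.subtype with hTdef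
  have hTN : T ≤ N := Subgroup.map_subtype_le _
  have hTcard : Nat.card T = 2 ^ (k + 1) := by
    rw [hTdef, Subgroup.card_subtype, card_sylow_of_eq (k := k + 1) (m := 7) T0 (by rw [hN]; ring) (by norm_num)]
  have hTp : IsPGroup 2 T := IsPGroup.of_card hTcard
  have hPN : (P : Subgroup G) ≤ N := Subgroup.le_normalizer
  have h7 : ∀ v : G, v ≠ 1 → N ≤ centralizer ({v} : Set G) → centralizer ({v} : Set G) = N := by
    intro v hv1 hle
    have hPC : (P : Subgroup G) ≤ centralizer ({v} : Set G) := hPN.trans hle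
    have h := card_sylow_subgroup_mul P _ hPC
    rw [← hNdef, inf_eq_left.2 hle, hN] at h
    have hmod : Nat.card (Sylow 7 (centralizer ({v} : Set G))) % 7 = 1 := card_sylow_modEq_one 7 _
    have hd : Nat.card (centralizer ({v} : Set G)) ∣ 2 ^ (k + 3) * 63 := hG ▸ Subgroup.card_subgroup_dvd_card _
    rw [← h, show 2 ^ (k + 3) * 63 = 36 * (2 * (7 * 2 ^ k)) by ring] at hd
    have hd' := Nat.dvd_of_mul_dvd_mul_right (by positivity) hd
    have key : ∀ n ∈ Nat.divisors 36, n % 7 = 1 → n = 1 ∨ n = 36 := by decide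
    rcases key _ (Nat.mem_divisors.2 ⟨hd', by norm_num⟩) hmod with e | e
    · rw [e, one_mul] at h
      exact (Subgroup.eq_of_le_of_card_ge hle (by rw [← h, hN])).symm
    · exfalso
      refine centralizer_singleton_ne_top hnc hv1 (Subgroup.eq_top_of_card_eq _ ?_)
      rw [← h, e, hG]; ring
  -- the part of `T` centralising `P`
  set D := T ⊓ C with hDdef
  have hDT : D ≤ T := inf_le_left
  have hDn : ∀ g ∈ T, ∀ d ∈ D, g * d * g⁻¹ ∈ D := by
    intro g hg d hd
    refine ⟨T.mul_mem (T.mul_mem hg hd.1) (T.inv_mem hg), Subgroup.mem_centralizer_iff.2 fun y hy => ?_⟩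
    have hgN := hTN hg
    have hy' : g⁻¹ * y * g ∈ (P : Subgroup G) := by
      simpa using (Subgroup.mem_normalizer_iff.1 (inv_mem hgN) y).1 hy
    have h := Subgroup.mem_centralizer_iff.1 hd.2 _ hy'
    calc y * (g * d * g⁻¹) = g * (g⁻¹ * y * g * d) * g⁻¹ := by group
      _ = g * (d * (g⁻¹ * y * g)) * g⁻¹ := by rw [h]
      _ = g * d * g⁻¹ * y := by group
  have hCnT : ¬ T ≤ C := fun h => by
    have hd := Subgroup.card_dvd_of_le h
    rw [hTcard, hC, pow_succ, mul_comm 7] at hd
    exact absurd (Nat.dvd_of_mul_dvd_mul_left (by positivity) hd) (by norm_num)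
  have hDcard : 2 * Nat.card D = Nat.card T := by
    have h1 := Subgroup.card_mul_index (D.subgroupOf T)
    rw [Nat.card_congr (Subgroup.subgroupOfEquivOfLe hDT).toEquiv] at h1
    have h2 : D.relIndex T ∣ 2 := by
      have hrel : C.relIndex N = 2 := by
        have h3 := Subgroup.card_mul_index (C.subgroupOf N)
        rw [Nat.card_congr (Subgroup.subgroupOfEquivOfLe hCN).toEquiv, hC, hN] at h3
        exact Nat.eq_of_mul_eq_mul_left (by positivity : 0 < 7 * 2 ^ k) (by rw [show C.relIndex N = (C.subgroupOf N).index from rfl, h3]; ring)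
      rw [hDdef, inf_comm, Subgroup.inf_relIndex_right]
      haveI : (C.subgroupOf N).Normal := by
        refine ⟨fun c hc g => ?_⟩
        rw [Subgroup.mem_subgroupOf] at hc ⊢
        refine Subgroup.mem_centralizer_iff.2 fun y hy => ?_
        have hy' : (g : G)⁻¹ * y * g ∈ (P : Subgroup G) := by
          simpa using (Subgroup.mem_normalizer_iff.1 (inv_mem g.2) y).1 hy
        have h := Subgroup.mem_centralizer_iff.1 hc _ hy'
        simp only [Subgroup.coe_mul, Subgroup.coe_inv]
        calc y * ((g : G) * c * (g : G)⁻¹) = g * ((g : G)⁻¹ * y * g * c) * (g : G)⁻¹ := by group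
          _ = g * (c * ((g : G)⁻¹ * y * g)) * (g : G)⁻¹ := by rw [h]
          _ = g * c * (g : G)⁻¹ * y := by group
      have h4 : C.relIndex T ∣ C.relIndex N := by
        rw [← Subgroup.relIndex_subgroupOf (H := C) hTN]
        exact Subgroup.relIndex_dvd_index_of_normal _ _
      rwa [hrel] at h4
    rcases (Nat.dvd_prime Nat.prime_two).1 h2 with h | h
    · exfalso
      exact hCnT ((Subgroup.relIndex_eq_one.1 h).trans inf_le_right)
    · rw [show (D.subgroupOf T).index = D.relIndex T from rfl, h] at h1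
      omega
  have hsupN : ∀ v : G, (∀ t ∈ T, t * v = v * t) → (∀ y ∈ (P : Subgroup G), y * v = v * y) →
      N ≤ centralizer ({v} : Set G) := by
    intro v hT hP'
    have hle : T ⊔ (P : Subgroup G) ≤ centralizer ({v} : Set G) :=
      sup_le (fun t ht => Subgroup.mem_centralizer_singleton_iff.2 (hT t ht))
        (fun y hy => Subgroup.mem_centralizer_singleton_iff.2 (hP' y hy))
    refine le_trans (le_of_eq (Eq.symm (Subgroup.eq_of_le_of_card_ge (sup_le hTN hPN) ?_))) hle
    refine Nat.le_of_dvd Nat.card_pos ?_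
    rw [hN, show 2 * (7 * 2 ^ k) = 2 ^ (k + 1) * 7 by ring]
    exact Nat.Coprime.mul_dvd_of_dvd_of_dvd (Nat.Coprime.pow_left _ (by norm_num))
      (by rw [← hTcard]; exact Subgroup.card_dvd_of_le le_sup_left)
      (by conv_lhs => rw [← hP]
          exact Subgroup.card_dvd_of_le le_sup_right)
  -- an involution central in a Sylow 2-subgroup over `T`
  obtain ⟨S, hTS⟩ := hTp.exists_le_sylow
  have hScard : Nat.card S = 2 ^ (k + 3) := card_sylow_of_eq S hG (by norm_num)
  -- any normal non-trivial subgroup of `T` contains a central involution of `T`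
  have hcen : ∀ R : Subgroup G, R ≤ T → R ≠ ⊥ → (∀ g ∈ T, ∀ r ∈ R, g * r * g⁻¹ ∈ R) →
      ∃ v ∈ R, orderOf v = 2 ∧ ∀ t ∈ T, t * v = v * t := by
    intro R hRT hR hRn
    haveI : Nontrivial (R.subgroupOf T) := by
      rw [Subgroup.nontrivial_iff_ne_bot, Ne, Subgroup.subgroupOf_eq_bot, disjoint_iff, inf_eq_left.2 hRT]
      exact hR
    haveI : (R.subgroupOf T).Normal := ⟨fun r hr g => hRn g g.2 r hr⟩
    have hne : R.subgroupOf T ⊓ Subgroup.center T ≠ ⊥ := fun h0 => by
      obtain ⟨x, hx, hxc, hx1⟩ := OddLocal.exists_mem_center_ne_one_of_normal hTp (R.subgroupOf T)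
        ((Subgroup.nontrivial_iff_ne_bot _).1 inferInstance)
      exact hx1 (Subgroup.mem_bot.1 (h0 ▸ Subgroup.mem_inf.2 ⟨hx, hxc⟩))
    obtain ⟨z, hz⟩ := exists_prime_orderOf_dvd_card' (G := ↥(R.subgroupOf T ⊓ Subgroup.center T)) 2 (by
      obtain ⟨n, hn⟩ := (hTp.to_subgroup (R.subgroupOf T ⊓ Subgroup.center T)).exists_card_eq
      rw [hn]
      refine dvd_pow_self 2 fun h0 => hne ?_
      rw [h0, pow_zero] at hn
      exact Subgroup.card_eq_one.1 hn)
    refine ⟨((z : T) : G), z.2.1, by rw [Subgroup.orderOf_coe, Subgroup.orderOf_coe, hz],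
      fun t ht => congrArg Subtype.val (Subgroup.mem_center_iff.1 z.2.2 ⟨t, ht⟩)⟩
  have hDbot : D ≠ ⊥ := fun h => by
    rw [h, Subgroup.card_bot, hTcard, pow_succ] at hDcard
    have : 2 ≤ 2 ^ k := le_self_pow₀ (by norm_num) (by omega)
    omega
  obtain ⟨z, hzD, hz2, hzT⟩ := hcen D hDT hDbot hDn
  have hz1 : z ≠ 1 := fun h => by rw [h, orderOf_one] at hz2; norm_num at hz2
  have hzN : centralizer ({z} : Set G) = N :=
    h7 z hz1 (hsupN z hzT fun y hy => Subgroup.mem_centralizer_iff.1 hzD.2 y hy)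
  haveI : Nontrivial (S : Subgroup G) := Finite.one_lt_card_iff_nontrivial.1 (by
    rw [hScard]; exact Nat.one_lt_two_pow (by omega))
  haveI := S.2.center_nontrivial
  obtain ⟨w', hw'⟩ := exists_prime_orderOf_dvd_card' (G := Subgroup.center (S : Subgroup G)) 2 (by
    obtain ⟨n, hn⟩ := (S.2.to_subgroup (Subgroup.center (S : Subgroup G))).exists_card_eq
    rw [hn]
    refine dvd_pow_self 2 fun h0 => ?_
    rw [h0, pow_zero] at hn
    exact absurd hn (Finite.one_lt_card_iff_nontrivial.2 inferInstance).ne')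
  set w : G := ((w' : (S : Subgroup G)) : G) with hwdef
  have hwS : ∀ s ∈ (S : Subgroup G), s * w = w * s := fun s hs =>
    congrArg Subtype.val (Subgroup.mem_center_iff.1 w'.2 ⟨s, hs⟩)
  have hw2 : orderOf w = 2 := by rw [hwdef, Subgroup.orderOf_coe, Subgroup.orderOf_coe, hw']
  have hw1 : w ≠ 1 := fun h => by rw [h, orderOf_one] at hw2; norm_num at hw2
  have hSN : (S : Subgroup G) ⊓ N = T := by
    refine (Subgroup.eq_of_le_of_card_ge (le_inf hTS hTN) ?_).symm
    obtain ⟨n, hn⟩ := (S.2.to_le (inf_le_left : (S : Subgroup G) ⊓ N ≤ S)).exists_card_eq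
    have hd : 2 ^ n ∣ 2 ^ (k + 1) * 7 := by
      rw [← hn, show 2 ^ (k + 1) * 7 = 2 * (7 * 2 ^ k) by ring, ← hN]
      exact Subgroup.card_dvd_of_le inf_le_right
    rw [hn, hTcard]
    exact Nat.le_of_dvd (by positivity) ((Nat.Coprime.pow_left n (by norm_num)).dvd_of_dvd_mul_right hd)
  have hwT : w ∈ T := by
    rw [← hSN]
    refine ⟨(w' : (S : Subgroup G)).2, ?_⟩
    show w ∈ N
    rw [← hzN, Subgroup.mem_centralizer_singleton_iff]
    exact (hwS z (hTS hzD.1)).symm
  have hwC : w ∉ C := by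
    intro hwC
    have hd1 : 2 ^ (k + 3) ∣ Nat.card (centralizer ({w} : Set G)) := by
      rw [← hScard]
      exact Subgroup.card_dvd_of_le fun s hs => Subgroup.mem_centralizer_singleton_iff.2 (hwS s hs)
    have hd2 : 7 ∣ Nat.card (centralizer ({w} : Set G)) := by
      refine hP ▸ Subgroup.card_dvd_of_le fun y hy => ?_
      exact Subgroup.mem_centralizer_singleton_iff.2 (Subgroup.mem_centralizer_iff.1 hwC y hy)
    have hne := centralizer_singleton_ne_top hnc hw1
    have hi : (centralizer ({w} : Set G)).index ≤ 9 := by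
      obtain ⟨j, hj⟩ := Nat.Coprime.mul_dvd_of_dvd_of_dvd (Nat.Coprime.pow_left _ (by norm_num)) hd1 hd2
      have h := Subgroup.card_mul_index (centralizer ({w} : Set G))
      rw [hG, hj, show 2 ^ (k + 3) * 63 = 2 ^ (k + 3) * 7 * 9 by ring, mul_assoc (2 ^ (k + 3) * 7)] at h
      exact Nat.le_of_dvd (by norm_num) ⟨j, by rw [mul_comm]; exact (Nat.eq_of_mul_eq_mul_left (by positivity) h).symm⟩
    have := card_eq_seven_of_index hnc hne hi P hP hC
      (fun h => by have := (Nat.prime_dvd_prime_iff_eq (by norm_num : Nat.Prime 7) Nat.prime_two).1 ((Fact.out : Nat.Prime 7).dvd_of_dvd_pow h); norm_num at this)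
    have : 2 ≤ 2 ^ k := le_self_pow₀ (by norm_num) (by omega)
    omega
  -- an element of `S` normalising `T` outside `T`
  obtain ⟨s, hsS, hsT, hsn⟩ : ∃ s ∈ (S : Subgroup G), s ∉ T ∧ ∀ t ∈ T, s * t * s⁻¹ ∈ T := by
    haveI : Group.IsNilpotent (S : Subgroup G) := S.2.isNilpotent
    have hlt : T.subgroupOf (S : Subgroup G) < ⊤ := by
      rw [lt_top_iff_ne_top, Ne, Subgroup.subgroupOf_eq_top]
      intro h
      have := Subgroup.card_le_of_le h
      rw [hScard, hTcard] at this
      exact absurd this (not_le.2 (Nat.pow_lt_pow_right (by norm_num) (by omega)))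
    obtain ⟨s, hs, hsn⟩ := SetLike.exists_of_lt ((Group.normalizerCondition_of_isNilpotent (G := (S : Subgroup G))) _ hlt)
    refine ⟨s, s.2, hsn, fun t ht => ?_⟩
    exact (Subgroup.mem_normalizer_iff.1 hs ⟨t, hTS ht⟩).1 ht
  have hsninv : ∀ t ∈ T, s⁻¹ * t * s ∈ T := fun t ht => by
    have hmap : T.map (MulAut.conj s).toMonoidHom = T := by
      refine Subgroup.eq_of_le_of_card_ge ?_ ?_
      · rintro _ ⟨t, ht, rfl⟩; exact hsn t ht
      · exact (Nat.card_congr (T.equivMapOfInjective _ (MulAut.conj s).injective).toEquiv).le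
    rw [← hmap] at ht
    obtain ⟨t', ht', rfl⟩ := ht
    show s⁻¹ * (s * t' * s⁻¹) * s ∈ T
    rwa [show s⁻¹ * (s * t' * s⁻¹) * s = t' by group]
  set R := D ⊓ D.map (MulAut.conj s).toMonoidHom with hRdef
  have hRn : ∀ g ∈ T, ∀ r ∈ R, g * r * g⁻¹ ∈ R := by
    intro g hg r hr
    obtain ⟨hr1, d, hd, rfl⟩ := hr
    refine ⟨hDn g hg _ hr1, s⁻¹ * g * s * d * (s⁻¹ * g * s)⁻¹, hDn _ (hsninv g hg) d hd, ?_⟩
    show s * _ * s⁻¹ = g * (s * d * s⁻¹) * g⁻¹
    group
  have hRbot : R ≠ ⊥ := by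
    intro h
    have hDs : D.map (MulAut.conj s).toMonoidHom ≤ T := by
      rintro _ ⟨d, hd, rfl⟩; exact hsn d (hDT hd)
    have hdis : Disjoint D (D.map (MulAut.conj s).toMonoidHom) := disjoint_iff.2 h
    let f : D × D → T := fun x => ⟨x.1 * (s * x.2 * s⁻¹), mul_mem (hDT x.1.2) (hsn _ (hDT x.2.2))⟩
    have hf : Function.Injective f := by
      rintro ⟨a, b⟩ ⟨a', b'⟩ e
      have e' : (a : G) * (s * b * s⁻¹) = a' * (s * b' * s⁻¹) := congrArg Subtype.val e
      have h1 : (a' : G)⁻¹ * a = s * ((b' : G) * (b : G)⁻¹) * s⁻¹ := by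
        calc (a' : G)⁻¹ * a = (a' : G)⁻¹ * (a * (s * b * s⁻¹)) * (s * b * s⁻¹)⁻¹ := by group
          _ = _ := by rw [e']; group
      have h2 : (a' : G)⁻¹ * a = 1 := Subgroup.disjoint_def.1 hdis (mul_mem (inv_mem a'.2) a.2)
        ⟨(b' : G) * (b : G)⁻¹, mul_mem b'.2 (inv_mem b.2), h1.symm⟩
      have ha : a = a' := Subtype.ext (inv_mul_eq_one.1 h2).symm
      subst ha
      exact Prod.ext rfl (Subtype.ext (mul_left_cancel (mul_right_cancel (mul_left_cancel e'))))
    have hle := Nat.card_le_card_of_injective f hf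
    rw [Nat.card_prod, ← hDcard] at hle
    have hD2 : Nat.card D = 2 ^ k := by
      rw [hTcard, pow_succ] at hDcard; omega
    have hk2 : Nat.card D ≤ 2 := Nat.le_of_mul_le_mul_right hle Nat.card_pos
    have : 2 ^ 2 ≤ 2 ^ k := Nat.pow_le_pow_right (by norm_num) hk
    omega
  obtain ⟨v, hvR, hv2, hvT⟩ := hcen R (inf_le_left.trans hDT) hRbot hRn
  obtain ⟨hvD, d, hd, hdv⟩ := hvR
  change s * d * s⁻¹ = v at hdv
  have hd' : d = s⁻¹ * v * s := by rw [← hdv]; group
  have hdT : ∀ t ∈ T, t * d = d * t := fun t ht => by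
    have h := hvT (s * t * s⁻¹) (hsn t ht)
    rw [hd']
    calc t * (s⁻¹ * v * s) = s⁻¹ * (s * t * s⁻¹ * v) * s := by group
      _ = s⁻¹ * (v * (s * t * s⁻¹)) * s := by rw [h]
      _ = s⁻¹ * v * s * t := by group
  have hv1 : v ≠ 1 := fun h => by rw [h, orderOf_one] at hv2; norm_num at hv2
  have hd1 : d ≠ 1 := fun h => hv1 (by rw [← hdv, h]; group)
  have hCv := h7 v hv1 (hsupN v hvT fun y hy => Subgroup.mem_centralizer_iff.1 hvD.2 y hy)
  have hCd := h7 d hd1 (hsupN d hdT fun y hy => Subgroup.mem_centralizer_iff.1 hd.2 y hy)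
  -- so `s` normalises `N`, hence `P`
  have hsP : s ∈ N := by
    have hmap : ∀ a, a ∈ N → s * a * s⁻¹ ∈ N := fun a ha => by
      rw [← hCd, Subgroup.mem_centralizer_singleton_iff] at ha
      rw [← hCv, Subgroup.mem_centralizer_singleton_iff, ← hdv]
      calc s * a * s⁻¹ * (s * d * s⁻¹) = s * (a * d) * s⁻¹ := by group
        _ = s * (d * a) * s⁻¹ := by rw [ha]
        _ = s * d * s⁻¹ * (s * a * s⁻¹) := by group
    have hle : (P : Subgroup G).map (MulAut.conj s).toMonoidHom ≤ N := by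
      rintro _ ⟨a, ha, rfl⟩; exact hmap a (hPN ha)
    have hPn : ((P : Subgroup G).subgroupOf N).Normal := inferInstance
    have hsub : (P : Subgroup G).map (MulAut.conj s).toMonoidHom ≤ P := by
      rintro _ ⟨a, ha, rfl⟩
      have h1 : orderOf (s * a * s⁻¹) ∣ 7 := by
        rw [← MulAut.conj_apply, MulEquiv.orderOf_eq, ← hP]; exact Subgroup.orderOf_dvd_natCard _ ha
      have h2 : IsPGroup 7 (Subgroup.zpowers (s * a * s⁻¹)) := by
        rcases (Nat.dvd_prime (by norm_num)).1 h1 with e | e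
        · exact IsPGroup.of_card (n := 0) (by rw [Nat.card_zpowers, e, pow_zero])
        · exact IsPGroup.of_card (n := 1) (by rw [Nat.card_zpowers, e, pow_one])
      have h3 : IsPGroup 7 ↥(Subgroup.zpowers (s * a * s⁻¹) ⊔ (P : Subgroup G)) :=
        h2.to_sup_of_normal_right' P.2 (Subgroup.zpowers_le.2 (hmap a (hPN ha)))
      have h4 := P.3 h3 le_sup_right
      rw [← h4]
      exact Subgroup.mem_sup_left (Subgroup.mem_zpowers _)
    refine Subgroup.mem_normalizer_iff.2 fun a => ⟨fun ha => hsub ⟨a, ha, rfl⟩, fun ha => ?_⟩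
    have hmap2 := Subgroup.eq_of_le_of_card_ge hsub (by rw [Subgroup.card_map_of_injective (MulAut.conj s).injective])
    rw [← hmap2] at ha
    obtain ⟨b, hb, hbe⟩ := ha
    change s * b * s⁻¹ = s * a * s⁻¹ at hbe
    rwa [← mul_left_cancel (mul_right_cancel hbe)]
  exact hsT (hSN ▸ ⟨hsS, hsP⟩)

end Cfsg.Agent.SmallSimple
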