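import Cfsg.Agent.Lib.Recog.GLTwoThree

/-!
# The elements of two-power order of `GL(2,3)`
-/

set_option autoImplicit false
set_option maxRecDepth 4000
set_option synthInstance.maxSize 4000
set_option synthInstance.maxHeartbeats 400000

namespace Cfsg.Agent.SmallSimple.Octahedral

open Cfsg.Agent.Recog.GL23 (M x y)

theorem x_pow_four_ne : (x : M) ^ 4 ≠ 1 := by decide +kernel
theorem x_pow_eight : (x : M) ^ 8 = 1 := by decide +kernel
theorem x_pow_four_sq : (x : M) ^ 4 * x ^ 4 = 1 := by decide +kernel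
theorem x_pow_four_central : ∀ m : M, m * x ^ 4 = x ^ 4 * m := by decide +kernel

theorem center_involution : ∀ m : M, (∀ a : M, m * a = a * m) → m * m = 1 → m = 1 ∨ m = x ^ 4 := by
  decide +kernel

theorem conj_one : ∃ m : M, m * x ^ 1 * m⁻¹ = x ^ 3 := by decide +kernel
theorem conj_five : ∃ m : M, m * x ^ 5 * m⁻¹ = x ^ 7 := by decide +kernel
theorem conj_two : ∃ m : M, m * x ^ 2 * m⁻¹ = x ^ 6 := by decide +kernel
theorem not_conj_one_five : ∀ m : M, m * x ^ 1 * m⁻¹ ≠ x ^ 5 := by decide +kernel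

theorem card_commute_one : (Finset.univ.filter fun m : M => m * x ^ 1 = x ^ 1 * m).card = 8 := by decide +kernel
theorem card_commute_five : (Finset.univ.filter fun m : M => m * x ^ 5 = x ^ 5 * m).card = 8 := by decide +kernel
theorem card_commute_two : (Finset.univ.filter fun m : M => m * x ^ 2 = x ^ 2 * m).card = 8 := by decide +kernel

/-- No involution inverts an element of order eight. -/
theorem not_inverted : ∀ m : M, m * m = 1 → (m * x ^ 1) * (m * x ^ 1) ≠ 1 := by decide +kernel

theorem card_inverting :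
    (Finset.univ.filter fun m : M => m * m = 1 ∧ (m * x ^ 2) * (m * x ^ 2) = 1).card = 4 := by
  decide +kernel

theorem inverting_noncentral :
    ∀ m : M, m * m = 1 → (m * x ^ 2) * (m * x ^ 2) = 1 →
      (m ≠ 1 ∧ m ≠ x ^ 4) ∧ (m * x ^ 2 ≠ 1 ∧ m * x ^ 2 ≠ x ^ 4) := by decide +kernel

/-- The noncentral involutions form one class. -/
theorem conj_involution : ∀ m : M, m * m = 1 → m ≠ 1 → m ≠ x ^ 4 → ∃ a : M, a * y * a⁻¹ = m := by decide +kernel

theorem y_involution : (y : M) * y = 1 ∧ (y : M) ≠ 1 ∧ (y : M) ≠ x ^ 4 := by decide +kernel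

end Cfsg.Agent.SmallSimple.Octahedral
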