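import Cfsg.Agent.Lib.SmallSimple.Basic
import Cfsg.Agent.Lib.Invol.Dihedral
import Cfsg.Agent.S1003
import Cfsg.Agent.S1012

/-!
Local structure of a simple group of order 168.
-/

set_option autoImplicit false

namespace Cfsg.Agent.Order168

open Subgroup SmallSimple

variable {G : Type*} [Group G] [Finite G]

theorem eq_pm_of_order_four {x b : G} (hx : orderOf x = 4) (hb : b ∈ zpowers x) :
    b = 1 ∨ b = x ∨ b = x * x ∨ b = x⁻¹ := by
  obtain ⟨i, rfl⟩ := (mem_powers_iff_mem_zpowers.2 hb : b ∈ Submonoid.powers x)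
  have h4 : x ^ 4 = 1 := hx ▸ pow_orderOf_eq_one x
  show x ^ i = 1 ∨ x ^ i = x ∨ x ^ i = x * x ∨ x ^ i = x⁻¹
  rw [pow_eq_pow_mod i h4]
  have h3 : x ^ 3 = x⁻¹ := eq_inv_of_mul_eq_one_left (by rw [← pow_succ, h4])
  have := Nat.mod_lt i (show 4 > 0 by norm_num)
  interval_cases i % 4 <;> simp [pow_two, h3]

omit [Finite G] in
theorem sq_sq_eq_one {x : G} (hx : orderOf x = 4) : x * x * (x * x) = 1 := by
  have h : x ^ 4 = 1 := by rw [← hx]; exact pow_orderOf_eq_one x
  rw [← h]; simp [pow_succ, mul_assoc]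

theorem le_sylow_of_le_normalizer (T : Sylow 2 G) {M : Subgroup G} (W : Subgroup G) (hTM : (T : Subgroup G) ≤ M)
    (hW : IsPGroup 2 W) (hMN : M ≤ normalizer (W : Set G)) : W ≤ (T : Subgroup G) := by
  have h := IsPGroup.to_sup_of_normal_right' (T.2) hW (hTM.trans hMN)
  rw [← T.3 h le_sup_left]
  exact le_sup_right

variable [IsSimpleGroup G]

section

variable (h : Nat.card G = 168)
include h

theorem not_comm : ¬ IsMulCommutative G :=
  SmallSimple.not_isMulCommutative (by rw [h]; norm_num)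

theorem card_sylow_three (S : Sylow 3 G) [Fact (Nat.Prime 3)] : Nat.card ↥(S : Subgroup G) = 3 := by
  rw [card_sylow_of_eq (k := 1) (m := 56) S (by rw [h]; norm_num) (by norm_num), pow_one]

theorem card_sylow_seven (S : Sylow 7 G) [Fact (Nat.Prime 7)] : Nat.card ↥(S : Subgroup G) = 7 := by
  rw [card_sylow_of_eq (k := 1) (m := 24) S (by rw [h]; norm_num) (by norm_num), pow_one]

theorem card_sylow_two (S : Sylow 2 G) : Nat.card ↥(S : Subgroup G) = 8 := by
  haveI : Fact (Nat.Prime 2) := ⟨Nat.prime_two⟩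
  rw [card_sylow_of_eq (k := 3) (m := 21) S (by rw [h]; norm_num) (by norm_num)]; norm_num

theorem card_normalizer_three [Fact (Nat.Prime 3)] (S : Sylow 3 G) :
    Nat.card (normalizer ((S : Subgroup G) : Set G)) = 6 := by
  have h1 := card_sylow_mul S
  rw [(S1003.result h).2.1, h] at h1
  omega

theorem card_normalizer_seven [Fact (Nat.Prime 7)] (S : Sylow 7 G) :
    Nat.card (normalizer ((S : Subgroup G) : Set G)) = 21 := by
  have h1 := card_sylow_mul S
  rw [(S1003.result h).2.2, h] at h1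
  omega

theorem normalizer_two (T : Sylow 2 G) : normalizer ((T : Subgroup G) : Set G) = T := by
  haveI : Fact (Nat.Prime 2) := ⟨Nat.prime_two⟩
  have h1 := card_sylow_mul T
  rw [(S1003.result h).1, h] at h1
  exact (eq_of_le_of_card_ge le_normalizer (by rw [card_sylow_two h T]; omega)).symm

theorem centralizer_prime {p : ℕ} (hp : p = 3 ∨ p = 7) {y : G} (hy : orderOf y = p) :
    Nat.card (centralizer ({y} : Set G)) = p := by
  haveI : Fact p.Prime := ⟨by rcases hp with rfl | rfl <;> norm_num⟩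
  haveI : Fact (Nat.Prime 3) := ⟨Nat.prime_three⟩
  haveI : Fact (Nat.Prime 7) := ⟨by norm_num⟩
  obtain ⟨S, hS⟩ := (IsPGroup.of_card (p := p) (n := 1) (G := zpowers y)
    (by rw [Nat.card_zpowers, hy, pow_one])).exists_le_sylow
  have hSc : Nat.card ↥(S : Subgroup G) = p := by
    rcases hp with rfl | rfl
    · exact card_sylow_three h S
    · exact card_sylow_seven h S
  have hSy : (S : Subgroup G) = zpowers y :=
    (eq_of_le_of_card_ge hS (by rw [hSc, Nat.card_zpowers, hy])).symm
  have hC : centralizer ({y} : Set G) = centralizer ((S : Subgroup G) : Set G) := by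
    refine le_antisymm (fun g hg => mem_centralizer_iff.2 fun a ha => ?_) ?_
    · rw [hSy] at ha
      obtain ⟨i, rfl⟩ := ha
      exact ((Commute.zpow_left (mem_centralizer_singleton_iff.1 hg).symm i)).eq
    · exact centralizer_le (by rw [hSy]; simp)
  obtain ⟨e, he, he1, hec⟩ := sylow_relIndex (not_comm h) S hSc
  have hpC : p ∣ Nat.card (centralizer ((S : Subgroup G) : Set G)) := by
    have hyC : y ∈ centralizer ({y} : Set G) := mem_centralizer_singleton_iff.2 rfl
    rw [hC] at hyC
    have := orderOf_dvd_natCard _ hyC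
    rwa [hy] at this
  rw [hC]
  obtain ⟨c, hc⟩ := hpC
  rw [hc] at hec ⊢
  rcases hp with rfl | rfl
  · rw [card_normalizer_three h S] at hec
    have h2 : e * c = 2 := by linarith
    rcases (Nat.dvd_prime Nat.prime_two).1 (Dvd.intro c h2) with rfl | rfl
    · exact absurd rfl he1
    · omega
  · rw [card_normalizer_seven h S] at hec
    have h2 : e * c = 3 := by linarith
    rcases (Nat.dvd_prime Nat.prime_three).1 (Dvd.intro c h2) with rfl | rfl
    · exact absurd rfl he1
    · omega

theorem orderOf_cases (g : G) : orderOf g = 3 ∨ orderOf g = 7 ∨ orderOf g ∣ 8 := by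
  have hd : orderOf g ∣ 168 := h ▸ _root_.orderOf_dvd_natCard g
  have key : ∀ p : ℕ, (p = 3 ∨ p = 7) → p.Prime → p ∣ orderOf g → orderOf g = p := by
    intro p hp hpp hpd
    obtain ⟨k, hk⟩ := hpd
    have hy : orderOf (g ^ k) = p := by
      rw [show g ^ k = g ^ (orderOf g / p) by rw [hk, Nat.mul_div_cancel_left _ hpp.pos],
        orderOf_pow_orderOf_div (orderOf_pos g).ne' ⟨k, hk⟩]
    have h1 := orderOf_dvd_natCard _ (show g ∈ centralizer ({g ^ k} : Set G) from
      mem_centralizer_singleton_iff.2 (Commute.self_pow g k).eq)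
    rw [centralizer_prime h hp hy] at h1
    exact (Nat.dvd_antisymm h1 ⟨k, hk⟩)
  by_cases h3 : 3 ∣ orderOf g
  · exact Or.inl (key 3 (Or.inl rfl) Nat.prime_three h3)
  by_cases h7 : 7 ∣ orderOf g
  · exact Or.inr (Or.inl (key 7 (Or.inr rfl) (by norm_num) h7))
  refine Or.inr (Or.inr ?_)
  have hc : Nat.Coprime (orderOf g) 21 := Nat.Coprime.symm (Nat.Coprime.mul_left
    ((Nat.Prime.coprime_iff_not_dvd Nat.prime_three).2 h3)
    ((Nat.Prime.coprime_iff_not_dvd (by norm_num : Nat.Prime 7)).2 h7))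
  exact hc.dvd_of_dvd_mul_right (show orderOf g ∣ 8 * 21 from hd)

theorem centralizer_card_dvd {t : G} (ht : orderOf t ∣ 8) (ht1 : t ≠ 1) :
    Nat.card (centralizer ({t} : Set G)) ∣ 8 := by
  have hd : Nat.card (centralizer ({t} : Set G)) ∣ 168 := h ▸ card_subgroup_dvd_card _
  have key : ∀ p : ℕ, (p = 3 ∨ p = 7) → ¬ p ∣ Nat.card (centralizer ({t} : Set G)) := by
    intro p hp hpd
    haveI : Fact p.Prime := ⟨by rcases hp with rfl | rfl <;> norm_num⟩
    obtain ⟨y, hy⟩ := exists_prime_orderOf_dvd_card' p hpd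
    rw [← orderOf_coe] at hy
    have h1 := orderOf_dvd_natCard _ (show t ∈ centralizer ({(y : G)} : Set G) from
      mem_centralizer_singleton_iff.2 (mem_centralizer_singleton_iff.1 y.2).symm)
    rw [centralizer_prime h hp hy] at h1
    refine ht1 (orderOf_eq_one_iff.1 (Nat.eq_one_of_dvd_coprimes ?_ h1 ht))
    rcases hp with rfl | rfl <;> norm_num
  have hc : Nat.Coprime (Nat.card (centralizer ({t} : Set G))) 21 := Nat.Coprime.symm (Nat.Coprime.mul_left
    ((Nat.Prime.coprime_iff_not_dvd Nat.prime_three).2 (key 3 (Or.inl rfl)))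
    ((Nat.Prime.coprime_iff_not_dvd (by norm_num : Nat.Prime 7)).2 (key 7 (Or.inr rfl))))
  exact hc.dvd_of_dvd_mul_right (show _ ∣ 8 * 21 from hd)

theorem orderOf_dvd_eight_of_mem (T : Sylow 2 G) {a : G} (ha : a ∈ (T : Subgroup G)) :
    orderOf a ∣ 8 := card_sylow_two h T ▸ orderOf_dvd_natCard _ ha

theorem centralizer_eq (T : Sylow 2 G) {z : G} (hz : z ∈ (T : Subgroup G)) (hz1 : z ≠ 1)
    (hc : ∀ a ∈ (T : Subgroup G), a * z = z * a) :
    centralizer ({z} : Set G) = (T : Subgroup G) := by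
  refine (eq_of_le_of_card_ge (fun a ha => mem_centralizer_singleton_iff.2 (hc a ha)) ?_).symm
  rw [card_sylow_two h T]
  exact Nat.le_of_dvd (by norm_num) (centralizer_card_dvd h (orderOf_dvd_eight_of_mem h T hz) hz1)

theorem card_orderOf_prime {p : ℕ} [Fact p.Prime] (hS : ∀ S : Sylow p G, Nat.card ↥(S : Subgroup G) = p) :
    Nat.card {g : G // orderOf g = p} = Nat.card (Sylow p G) * (p - 1) := by
  classical
  haveI := Fintype.ofFinite (Sylow p G)
  have ho : ∀ (S : Sylow p G) (a : ↥(S : Subgroup G)), a ≠ 1 → orderOf (a : G) = p := fun S a ha => by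
    rcases (Nat.dvd_prime (Fact.out : p.Prime)).1 (hS S ▸ orderOf_dvd_natCard _ a.2) with h1 | h1
    · exact absurd (Subtype.ext (orderOf_eq_one_iff.1 h1)) ha
    · exact h1
  let f : (Σ S : Sylow p G, {a : ↥(S : Subgroup G) // a ≠ 1}) → {g : G // orderOf g = p} :=
    fun a => ⟨a.2.1, ho a.1 a.2.1 a.2.2⟩
  have hf : Function.Bijective f := by
    constructor
    · rintro ⟨S, a, ha⟩ ⟨S', a', ha'⟩ he
      have he' : (a : G) = a' := congrArg Subtype.val he
      have e1 : zpowers (a : G) = S := eq_of_le_of_card_ge (zpowers_le.2 a.2)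
        (by rw [Nat.card_zpowers, ho S a ha, hS])
      have e2 : zpowers (a' : G) = S' := eq_of_le_of_card_ge (zpowers_le.2 a'.2)
        (by rw [Nat.card_zpowers, ho S' a' ha', hS])
      obtain rfl : S = S' := Sylow.ext (by rw [← e1, ← e2, he'])
      obtain rfl : a = a' := Subtype.ext he'
      rfl
    · rintro ⟨g, hg⟩
      obtain ⟨S, hgS⟩ := (IsPGroup.of_card (p := p) (n := 1) (G := zpowers g)
        (by rw [Nat.card_zpowers, hg, pow_one])).exists_le_sylow
      refine ⟨⟨S, ⟨g, hgS (mem_zpowers g)⟩, fun h1 => ?_⟩, rfl⟩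
      rw [show g = 1 from congrArg Subtype.val h1, orderOf_one] at hg
      exact (Fact.out : p.Prime).one_lt.ne hg
  rw [← Nat.card_congr (Equiv.ofBijective f hf), Nat.card_sigma]
  have hone : ∀ S : Sylow p G, Nat.card {a : ↥(S : Subgroup G) // a ≠ 1} = p - 1 := fun S => by
    haveI := Fintype.ofFinite ↥(S : Subgroup G)
    rw [Nat.card_eq_fintype_card, Fintype.card_subtype_compl, Fintype.card_subtype_eq,
      ← Nat.card_eq_fintype_card, hS]
  simp only [hone, Finset.sum_const, Finset.card_univ, ← Nat.card_eq_fintype_card, smul_eq_mul]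

theorem card_order_three : Nat.card {g : G // orderOf g = 3} = 56 := by
  haveI : Fact (Nat.Prime 3) := ⟨Nat.prime_three⟩
  rw [card_orderOf_prime h (fun S => card_sylow_three h S), (S1003.result h).2.1]

theorem card_order_seven : Nat.card {g : G // orderOf g = 7} = 48 := by
  haveI : Fact (Nat.Prime 7) := ⟨by norm_num⟩
  rw [card_orderOf_prime h (fun S => card_sylow_seven h S), (S1003.result h).2.2]

theorem card_order_dvd_eight : Nat.card {g : G // orderOf g ∣ 8} = 64 := by
  classical
  haveI := Fintype.ofFinite G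
  have h37 : Nat.card {g : G // orderOf g = 3 ∨ orderOf g = 7} = 104 := by
    rw [Nat.card_congr (subtypeOrEquiv _ _ (by
      rw [Pi.disjoint_iff]
      intro g
      simp only [Prop.disjoint_iff, not_and]
      omega)), Nat.card_sum, card_order_three h, card_order_seven h]
  have hsum : Nat.card {g : G // orderOf g ∣ 8} + Nat.card {g : G // ¬ orderOf g ∣ 8} = 168 := by
    rw [← Nat.card_sum, Nat.card_congr (Equiv.sumCompl _), h]
  have hcongr : Nat.card {g : G // ¬ orderOf g ∣ 8} = 104 := by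
    rw [← h37]
    refine Nat.card_congr (Equiv.subtypeEquivRight fun g => ?_)
    constructor
    · intro hg
      rcases orderOf_cases h g with h1 | h1 | h1
      · exact Or.inl h1
      · exact Or.inr h1
      · exact absurd h1 hg
    · rintro (h1 | h1) <;> rw [h1] <;> norm_num
  omega

/-- A dihedral pair of generators of a Sylow 2-subgroup. -/
theorem exists_gens (T : Sylow 2 G) : ∃ x t : G, x ∈ (T : Subgroup G) ∧ t ∈ (T : Subgroup G) ∧
    orderOf x = 4 ∧ t * t = 1 ∧ t ∉ zpowers x ∧ t * x * t⁻¹ = x⁻¹ ∧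
    ∀ a ∈ (T : Subgroup G), a ∈ zpowers x ∨ t * a ∈ zpowers x := by
  classical
  haveI : Fact (Nat.Prime 2) := ⟨Nat.prime_two⟩
  have hT := card_sylow_two h T
  have hncomm : ¬ ∀ a ∈ (T : Subgroup G), ∀ b ∈ (T : Subgroup G), a * b = b * a := by
    intro hc
    refine not_normalizer_le_centralizer (not_comm h) (by rw [h]; norm_num) T ?_
    rw [normalizer_two h T]
    exact fun a ha => mem_centralizer_iff.2 fun b hb => hc b hb a ha
  have hno8 : ∀ a ∈ (T : Subgroup G), orderOf a ≠ 8 := by
    intro a ha h8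
    refine hncomm fun b hb c hc => ?_
    have hz : zpowers a = (T : Subgroup G) :=
      eq_of_le_of_card_ge (zpowers_le.2 ha) (by rw [Nat.card_zpowers, h8, hT])
    rw [← hz] at hb hc
    obtain ⟨i, rfl⟩ := hb
    obtain ⟨j, rfl⟩ := hc
    exact ((Commute.refl a).zpow_zpow i j).eq
  obtain ⟨x, hxT, hx4⟩ : ∃ x ∈ (T : Subgroup G), orderOf x = 4 := by
    by_contra hc
    push_neg at hc
    apply hncomm
    have h2 : ∀ a ∈ (T : Subgroup G), a⁻¹ = a := by
      intro a ha
      obtain ⟨i, hi, hi'⟩ := (Nat.dvd_prime_pow Nat.prime_two).1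
        (show orderOf a ∣ 2 ^ 3 from orderOf_dvd_eight_of_mem h T ha)
      interval_cases i
      · simp [orderOf_eq_one_iff.1 (show orderOf a = 1 by simpa using hi')]
      · rw [pow_one] at hi'
        exact inv_eq_of_mul_eq_one_right (by rw [← pow_two, ← hi', pow_orderOf_eq_one])
      · exact absurd hi' (hc a ha)
      · exact absurd hi' (hno8 a ha)
    intro a ha b hb
    rw [← h2 _ (mul_mem ha hb), mul_inv_rev, h2 a ha, h2 b hb]
  have hx1 : x * x ≠ 1 := fun h1 => by
    have := orderOf_dvd_of_pow_eq_one (show x ^ 2 = 1 by rw [pow_two, h1])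
    rw [hx4] at this
    norm_num at this
  set X := (zpowers x).subgroupOf (T : Subgroup G)
  have hXi : X.index = 2 := by
    have h1 := X.card_mul_index
    rw [Nat.card_congr (subgroupOfEquivOfLe (zpowers_le.2 hxT)).toEquiv, Nat.card_zpowers, hx4, hT] at h1
    omega
  have hXn : X.Normal := normal_of_index_eq_two hXi
  have hconj : ∀ a ∈ (T : Subgroup G), a * x * a⁻¹ = x ∨ a * x * a⁻¹ = x⁻¹ := by
    intro a ha
    have hm : a * x * a⁻¹ ∈ zpowers x := hXn.conj_mem ⟨x, hxT⟩ (mem_zpowers x) ⟨a, ha⟩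
    rcases eq_pm_of_order_four hx4 hm with h1 | h1 | h1 | h1
    · rw [mul_inv_eq_one, mul_eq_left] at h1
      rw [h1, orderOf_one] at hx4; norm_num at hx4
    · exact Or.inl h1
    · have h2 : orderOf (x * x) = 4 := by
        rw [← h1]
        exact (orderOf_injective (MulAut.conj a).toMonoidHom (MulAut.conj a).injective x).trans hx4
      have h3 : orderOf (x * x) ∣ 2 := orderOf_dvd_of_pow_eq_one (by
        rw [pow_two]; exact sq_sq_eq_one hx4)
      rw [h2] at h3; norm_num at h3
    · exact Or.inr h1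
  have hout : ∀ t ∈ (T : Subgroup G), t ∉ zpowers x → ∀ a ∈ (T : Subgroup G),
      a ∈ zpowers x ∨ t * a ∈ zpowers x := by
    intro t ht htn a ha
    by_cases hax : a ∈ zpowers x
    · exact Or.inl hax
    · exact Or.inr ((mul_mem_iff_of_index_two hXi (a := ⟨t, ht⟩) (b := ⟨a, ha⟩)).2
        (iff_of_false htn hax))
  have hinv : ∀ t ∈ (T : Subgroup G), t ∉ zpowers x → t * x * t⁻¹ = x⁻¹ := by
    intro t ht htn
    refine (hconj t ht).resolve_left fun hc => hncomm ?_
    have hcx : Commute t x := mul_inv_eq_iff_eq_mul.1 hc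
    have hform : ∀ a ∈ (T : Subgroup G), ∃ i : ℤ, a = x ^ i ∨ a = t⁻¹ * x ^ i := fun a ha => by
      rcases hout t ht htn a ha with h1 | ⟨i, hi⟩
      · obtain ⟨i, rfl⟩ := h1
        exact ⟨i, Or.inl rfl⟩
      · exact ⟨i, Or.inr (eq_inv_mul_iff_mul_eq.2 hi.symm)⟩
    intro a ha b hb
    obtain ⟨i, ha'⟩ := hform a ha
    obtain ⟨j, hb'⟩ := hform b hb
    have c1 : ∀ k l : ℤ, Commute (x ^ k) (x ^ l) := fun k l => (Commute.refl x).zpow_zpow k l
    have c2 : ∀ k : ℤ, Commute t⁻¹ (x ^ k) := fun k => hcx.inv_left.zpow_right k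
    rcases ha' with rfl | rfl <;> rcases hb' with rfl | rfl
    · exact (c1 i j).eq
    · exact ((c2 i).symm.mul_right (c1 i j)).eq
    · exact ((c2 j).mul_left (c1 i j)).eq
    · exact (Commute.mul_left ((Commute.refl _).mul_right (c2 j)) ((c2 i).symm.mul_right (c1 i j))).eq
  have hz : ∀ a ∈ (T : Subgroup G), a * (x * x) = (x * x) * a := by
    intro a ha
    rcases hconj a ha with h1 | h1
    · exact (Commute.mul_right (mul_inv_eq_iff_eq_mul.1 h1) (mul_inv_eq_iff_eq_mul.1 h1)).eq
    · have hx' : x⁻¹ * x⁻¹ = x * x := by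
        rw [← mul_inv_rev]
        exact inv_eq_of_mul_eq_one_right (sq_sq_eq_one hx4)
      exact mul_inv_eq_iff_eq_mul.1 (calc a * (x * x) * a⁻¹ = (a * x * a⁻¹) * (a * x * a⁻¹) := conj_mul.symm
        _ = x * x := by rw [h1, hx'])
  obtain ⟨t, htT, htt, htn⟩ : ∃ t ∈ (T : Subgroup G), t * t = 1 ∧ t ∉ zpowers x := by
    by_contra hc
    push_neg at hc
    -- then `x²` is the only involution of `T`, and the conjugates of `T` meet trivially
    have huniq : ∀ a ∈ (T : Subgroup G), a * a = 1 → a = 1 ∨ a = x * x := by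
      intro a ha haa
      rcases eq_pm_of_order_four hx4 (hc a ha haa) with h1 | h1 | h1 | h1
      · exact Or.inl h1
      · exact absurd (h1 ▸ haa) hx1
      · exact Or.inr h1
      · refine absurd (inv_eq_one.1 ?_) hx1
        rw [mul_inv_rev]; exact h1 ▸ haa
    have hzT : x * x ∈ (T : Subgroup G) := mul_mem hxT hxT
    have hTI : ∀ R : Sylow 2 G, ∀ a, a ∈ (T : Subgroup G) → a ∈ (R : Subgroup G) → a ≠ 1 → R = T := by
      intro R a haT haR ha1
      obtain ⟨b, hbT, hbR, hb1, hbb⟩ : ∃ b, b ∈ (T : Subgroup G) ∧ b ∈ (R : Subgroup G) ∧ b ≠ 1 ∧ b * b = 1 := by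
        obtain ⟨i, hi, hi'⟩ := (Nat.dvd_prime_pow Nat.prime_two).1
          (show orderOf a ∣ 2 ^ 3 from orderOf_dvd_eight_of_mem h T haT)
        obtain ⟨j, rfl⟩ : ∃ j, i = j + 1 := ⟨i - 1, by
          rcases i with _ | i
          · exact absurd (orderOf_eq_one_iff.1 (by simpa using hi')) ha1
          · simp⟩
        refine ⟨a ^ 2 ^ j, pow_mem haT _, pow_mem haR _, fun h1 => ?_, ?_⟩
        · have := orderOf_dvd_of_pow_eq_one h1
          rw [hi'] at this
          exact absurd ((Nat.pow_dvd_pow_iff_le_right (by norm_num)).1 this) (by omega)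
        · rw [← pow_add, ← two_mul, ← pow_succ', ← hi', pow_orderOf_eq_one]
      rcases huniq b hbT hbb with h1 | h1
      · exact absurd h1 hb1
      obtain ⟨g, hg⟩ := MulAction.exists_smul_eq G T R
      have hmem : g⁻¹ * b * g ∈ (T : Subgroup G) := by
        rw [← hg, Sylow.coe_subgroup_smul, Subgroup.mem_pointwise_smul_iff_inv_smul_mem] at hbR
        simpa [MulAut.smul_def] using hbR
      rcases huniq _ hmem (by rw [show g⁻¹ * b * g * (g⁻¹ * b * g) = g⁻¹ * (b * b) * g by group, hbb]; group) with h2 | h2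
      · refine absurd ?_ hb1
        calc b = g * (g⁻¹ * b * g) * g⁻¹ := by group
          _ = 1 := by rw [h2]; group
      · rw [h1] at h2
        have hgC : g ∈ centralizer ({x * x} : Set G) := mem_centralizer_singleton_iff.2 (by
          conv_lhs => rw [← h2]
          group)
        rw [centralizer_eq h T hzT hx1 hz] at hgC
        rw [← hg]
        exact Sylow.smul_eq_iff_mem_normalizer.2 (le_normalizer hgC)
    have hTI' : ∀ R R' : Sylow 2 G, ∀ a, a ∈ (R : Subgroup G) → a ∈ (R' : Subgroup G) → a ≠ 1 → R = R' := by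
      intro R R' a ha ha' ha1
      obtain ⟨g, hg⟩ := MulAction.exists_smul_eq G R T
      have hm : ∀ S : Sylow 2 G, a ∈ (S : Subgroup G) → g * a * g⁻¹ ∈ ((g • S : Sylow 2 G) : Subgroup G) := by
        intro S hS
        rw [Sylow.coe_subgroup_smul]
        exact ⟨a, hS, rfl⟩
      have := hTI (g • R') (g * a * g⁻¹) (hg ▸ hm R ha) (hm R' ha')
        (by simp [ha1])
      exact (smul_left_cancel g (this.trans hg.symm)).symm
    haveI := Fintype.ofFinite (Sylow 2 G)
    let f : (Σ S : Sylow 2 G, {a : ↥(S : Subgroup G) // a ≠ 1}) → {g : G // orderOf g ∣ 8} :=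
      fun a => ⟨a.2.1, orderOf_dvd_eight_of_mem h a.1 a.2.1.2⟩
    have hf : Function.Injective f := by
      rintro ⟨S, a, ha⟩ ⟨S', a', ha'⟩ he
      have he' : (a : G) = a' := congrArg Subtype.val he
      obtain rfl := hTI' S S' a a.2 (he'.symm ▸ a'.2) (fun h1 => ha (Subtype.ext h1))
      obtain rfl : a = a' := Subtype.ext he'
      rfl
    have hle := Nat.card_le_card_of_injective f hf
    rw [card_order_dvd_eight h, Nat.card_sigma] at hle
    have hone : ∀ S : Sylow 2 G, Nat.card {a : ↥(S : Subgroup G) // a ≠ 1} = 7 := fun S => by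
      haveI := Fintype.ofFinite ↥(S : Subgroup G)
      rw [Nat.card_eq_fintype_card, Fintype.card_subtype_compl, Fintype.card_subtype_eq,
        ← Nat.card_eq_fintype_card, card_sylow_two h S]
    simp only [hone, Finset.sum_const, Finset.card_univ, ← Nat.card_eq_fintype_card, smul_eq_mul,
      (S1003.result h).1] at hle
    omega
  exact ⟨x, t, hxT, htT, hx4, htt, htn, hinv t htT htn, hout t htT htn⟩

end

/-- Data of a Sylow 2-subgroup. -/
structure Gens (T : Sylow 2 G) (x t : G) : Prop where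
  hx : x ∈ (T : Subgroup G)
  ht : t ∈ (T : Subgroup G)
  ox : orderOf x = 4
  tt : t * t = 1
  tn : t ∉ zpowers x
  inv : t * x * t⁻¹ = x⁻¹
  cover : ∀ a ∈ (T : Subgroup G), a ∈ zpowers x ∨ t * a ∈ zpowers x

namespace Gens

variable {T : Sylow 2 G} {x t : G} (D : Gens T x t)
include D

theorem x4 : x * x * (x * x) = 1 := sq_sq_eq_one D.ox

theorem xx_ne : x * x ≠ 1 := fun h1 => by
  have := orderOf_dvd_of_pow_eq_one (show x ^ 2 = 1 by rw [pow_two, h1])
  rw [D.ox] at this
  norm_num at this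

theorem cases_mem {a : G} (ha : a ∈ (T : Subgroup G)) :
    a = 1 ∨ a = x ∨ a = x * x ∨ a = x⁻¹ ∨ a = t ∨ a = t * x ∨ a = t * (x * x) ∨ a = t * x⁻¹ := by
  rcases D.cover a ha with h1 | h1
  · rcases eq_pm_of_order_four D.ox h1 with h2 | h2 | h2 | h2 <;> simp [h2]
  · have hat : ∀ {b : G}, t * a = b → a = t * b := fun hb => by
      rw [← hb, ← mul_assoc, D.tt, one_mul]
    rcases eq_pm_of_order_four D.ox h1 with h2 | h2 | h2 | h2
    · exact Or.inr (Or.inr (Or.inr (Or.inr (Or.inl (by simpa using hat h2)))))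
    · exact Or.inr (Or.inr (Or.inr (Or.inr (Or.inr (Or.inl (hat h2))))))
    · exact Or.inr (Or.inr (Or.inr (Or.inr (Or.inr (Or.inr (Or.inl (hat h2)))))))
    · exact Or.inr (Or.inr (Or.inr (Or.inr (Or.inr (Or.inr (Or.inr (hat h2)))))))

theorem t_inv : t⁻¹ = t := inv_eq_of_mul_eq_one_right D.tt

theorem tx : t * x = x⁻¹ * t := mul_inv_eq_iff_eq_mul.1 D.inv

theorem xt : x * t = t * x⁻¹ := by
  have h1 := congrArg (fun b => x * b * x⁻¹) D.tx
  simp only [mul_inv_cancel_left] at h1
  rw [← h1]; group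

theorem comm_t_z : Commute t (x * x) := by
  refine mul_inv_eq_iff_eq_mul.1 (calc t * (x * x) * t⁻¹ = (t * x * t⁻¹) * (t * x * t⁻¹) := conj_mul.symm
    _ = x * x := ?_)
  rw [D.inv, ← mul_inv_rev]
  exact inv_eq_of_mul_eq_one_right D.x4

theorem z_central {a : G} (ha : a ∈ (T : Subgroup G)) : a * (x * x) = (x * x) * a := by
  have c1 : Commute x (x * x) := (Commute.refl x).mul_right (Commute.refl x)
  rcases D.cases_mem ha with rfl | rfl | rfl | rfl | rfl | rfl | rfl | rfl
  · simp
  · exact c1.eq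
  · rfl
  · exact c1.inv_left.eq
  · exact D.comm_t_z.eq
  · exact (D.comm_t_z.mul_left c1).eq
  · exact (D.comm_t_z.mul_left (Commute.refl _)).eq
  · exact (D.comm_t_z.mul_left c1.inv_left).eq

theorem sq_out {i : G} (hi : i ∈ zpowers x) : t * i * (t * i) = 1 := by
  obtain ⟨k, rfl⟩ := hi
  calc t * x ^ k * (t * x ^ k) = (t * x ^ k * t⁻¹) * (t * t) * x ^ k := by group
    _ = 1 := by rw [← conj_zpow, D.inv, D.tt, mul_one, inv_zpow, inv_mul_cancel]

/-- An element of `T` of order four is `x^±1`. -/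
theorem eq_x_of_sq_ne {a : G} (ha : a ∈ (T : Subgroup G)) (h2 : a * a ≠ 1) : a = x ∨ a = x⁻¹ := by
  rcases D.cover a ha with h1 | h1
  · rcases eq_pm_of_order_four D.ox h1 with h3 | h3 | h3 | h3
    · exact absurd (by rw [h3, one_mul]) h2
    · exact Or.inl h3
    · exact absurd (by rw [h3]; exact D.x4) h2
    · exact Or.inr h3
  · refine absurd ?_ h2
    have := D.sq_out h1
    rwa [← mul_assoc t t a, D.tt, one_mul] at this

theorem center_eq {c : G} (hc : c ∈ (T : Subgroup G)) (hcomm : ∀ a ∈ (T : Subgroup G), a * c = c * a) :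
    c = 1 ∨ c = x * x := by
  rcases D.cover c hc with h1 | h1
  · rcases eq_pm_of_order_four D.ox h1 with h2 | h2 | h2 | h2
    · exact Or.inl h2
    · exfalso
      have h3 := hcomm t D.ht
      rw [h2] at h3
      have h4 : t * x * t⁻¹ = x := mul_inv_eq_iff_eq_mul.2 h3
      rw [D.inv, inv_eq_iff_mul_eq_one] at h4
      exact D.xx_ne h4
    · exact Or.inr h2
    · exfalso
      have h3 := hcomm t D.ht
      rw [h2] at h3
      have h4 : t * x⁻¹ * t⁻¹ = x⁻¹ := mul_inv_eq_iff_eq_mul.2 h3
      rw [← conj_inv, D.inv, inv_inv] at h4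
      exact D.xx_ne (mul_eq_one_iff_eq_inv.2 h4)
  · exfalso
    obtain ⟨k, hk⟩ := h1
    have hck : c = t * x ^ k := by
      rw [show x ^ k = t * c from hk, ← mul_assoc, D.tt, one_mul]
    have h3 : c * x * c⁻¹ = x := mul_inv_eq_iff_eq_mul.2 (hcomm x D.hx).symm
    rw [hck, show t * x ^ k * x * (t * x ^ k)⁻¹ = t * x * t⁻¹ by group, D.inv,
      inv_eq_iff_mul_eq_one] at h3
    exact D.xx_ne h3

end Gens

section

variable (h : Nat.card G = 168)
include h

theorem gens (T : Sylow 2 G) : ∃ x t : G, Gens T x t := by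
  obtain ⟨x, t, h1, h2, h3, h4, h5, h6, h7⟩ := exists_gens h T
  exact ⟨x, t, ⟨h1, h2, h3, h4, h5, h6, h7⟩⟩

theorem centralizer_z {T : Sylow 2 G} {x t : G} (D : Gens T x t) :
    centralizer ({x * x} : Set G) = (T : Subgroup G) :=
  centralizer_eq h T (mul_mem D.hx D.hx) D.xx_ne fun _ ha => D.z_central ha

theorem exists_sylow_of_dvd_eight {g : G} (hg : orderOf g ∣ 8) :
    ∃ T : Sylow 2 G, g ∈ (T : Subgroup G) := by
  haveI : Fact (Nat.Prime 2) := ⟨Nat.prime_two⟩
  obtain ⟨T, hT⟩ := (IsPGroup.of_card_dvd_pow (p := 2) (n := 3) (G := zpowers g)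
    (by rw [Nat.card_zpowers]; exact hg)).exists_le_sylow
  exact ⟨T, hT (mem_zpowers g)⟩

theorem orderOf_ne_eight (g : G) : orderOf g ≠ 8 := by
  intro h8
  obtain ⟨T, hgT⟩ := exists_sylow_of_dvd_eight h (g := g) (by rw [h8])
  obtain ⟨x, t, D⟩ := gens h T
  have h1 : g * g ≠ 1 := fun h1 => by
    have := orderOf_dvd_of_pow_eq_one (show g ^ 2 = 1 by rw [pow_two, h1])
    rw [h8] at this; norm_num at this
  rcases D.eq_x_of_sq_ne hgT h1 with rfl | rfl
  · rw [D.ox] at h8; norm_num at h8
  · rw [orderOf_inv, D.ox] at h8; norm_num at h8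

theorem card_order_four : Nat.card {g : G // orderOf g = 4} = 42 := by
  classical
  haveI := Fintype.ofFinite (Sylow 2 G)
  choose x t D using fun T => gens h T
  let f : Sylow 2 G × Bool → {g : G // orderOf g = 4} := fun p =>
    ⟨cond p.2 (x p.1) (x p.1)⁻¹, by cases p.2 <;> simp [(D p.1).ox]⟩
  have hsq : ∀ p : Sylow 2 G × Bool, (f p).1 * (f p).1 = x p.1 * x p.1 := by
    rintro ⟨T, b⟩
    cases b
    · show (x T)⁻¹ * (x T)⁻¹ = _
      rw [← mul_inv_rev]
      exact inv_eq_of_mul_eq_one_right (D T).x4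
    · rfl
  have hf : Function.Bijective f := by
    constructor
    · intro p p' he
      have h1 := hsq p
      rw [congrArg Subtype.val he, hsq p'] at h1
      have hT : p.1 = p'.1 := Sylow.ext (by rw [← centralizer_z h (D p.1), ← h1, centralizer_z h (D p'.1)])
      obtain ⟨T, b⟩ := p
      obtain ⟨T', b'⟩ := p'
      obtain rfl : T = T' := hT
      have he' : cond b (x T) (x T)⁻¹ = cond b' (x T) (x T)⁻¹ := congrArg Subtype.val he
      cases b <;> cases b' <;> first | rfl | (exfalso; refine (D T).xx_ne ?_)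
      · simp only [cond_false, cond_true] at he'
        conv_lhs => arg 2; rw [← he']
        rw [mul_inv_cancel]
      · simp only [cond_false, cond_true] at he'
        conv_lhs => arg 2; rw [he']
        rw [mul_inv_cancel]
    · rintro ⟨g, hg⟩
      obtain ⟨T, hgT⟩ := exists_sylow_of_dvd_eight h (g := g) (by rw [hg]; norm_num)
      have h1 : g * g ≠ 1 := fun h1 => by
        have := orderOf_dvd_of_pow_eq_one (show g ^ 2 = 1 by rw [pow_two, h1])
        rw [hg] at this; norm_num at this
      rcases (D T).eq_x_of_sq_ne hgT h1 with h2 | h2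
      · exact ⟨(T, true), Subtype.ext h2.symm⟩
      · exact ⟨(T, false), Subtype.ext h2.symm⟩
  rw [← Nat.card_congr (Equiv.ofBijective f hf), Nat.card_prod, (S1003.result h).1,
    Nat.card_eq_fintype_card, Fintype.card_bool]

theorem card_order_two : Nat.card {g : G // orderOf g = 2} = 21 := by
  classical
  haveI := Fintype.ofFinite G
  have h1 : ({g : G | orderOf g ∣ 8} : Finset G) =
      insert 1 (({g : G | orderOf g = 2} : Finset G) ∪ ({g : G | orderOf g = 4} : Finset G)) := by
    ext g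
    simp only [Finset.mem_filter, Finset.mem_univ, true_and, Finset.mem_insert, Finset.mem_union]
    constructor
    · intro hg
      obtain ⟨i, hi, hi'⟩ := (Nat.dvd_prime_pow Nat.prime_two).1 (show orderOf g ∣ 2 ^ 3 from hg)
      interval_cases i
      · exact Or.inl (orderOf_eq_one_iff.1 (by simpa using hi'))
      · exact Or.inr (Or.inl (by simpa using hi'))
      · exact Or.inr (Or.inr (by simpa using hi'))
      · exact absurd hi' (orderOf_ne_eight h g)
    · rintro (rfl | hg | hg)
      · simp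
      · rw [hg]; norm_num
      · rw [hg]; norm_num
  have h2 := congrArg Finset.card h1
  rw [Finset.card_insert_of_notMem (by simp), Finset.card_union_of_disjoint (by
    rw [Finset.disjoint_filter]; intro g _ e; omega)] at h2
  have e8 := card_order_dvd_eight h
  have e4 := card_order_four h
  rw [Nat.card_eq_fintype_card, Fintype.card_subtype] at e8 e4 ⊢
  omega

/-- Every involution is the square of an element of order four. -/
theorem involution_eq {s : G} (hs : orderOf s = 2) :
    ∃ (T : Sylow 2 G) (x t : G), Gens T x t ∧ s = x * x := by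
  classical
  choose x t D using fun T => gens h T
  have ho : ∀ T, orderOf (x T * x T) = 2 := fun T => by
    refine orderOf_eq_prime ?_ (D T).xx_ne
    rw [pow_two, (D T).x4]
  let f : Sylow 2 G → {g : G // orderOf g = 2} := fun T => ⟨x T * x T, ho T⟩
  have hinj : Function.Injective f := fun T T' he => Sylow.ext (by
    rw [← centralizer_z h (D T), show x T * x T = x T' * x T' from congrArg Subtype.val he, centralizer_z h (D T')])
  have hb : Function.Bijective f := (Nat.bijective_iff_injective_and_card f).2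
    ⟨hinj, by rw [card_order_two h, (S1003.result h).1]⟩
  obtain ⟨T, hT⟩ := hb.2 ⟨s, hs⟩
  exact ⟨T, x T, t T, D T, (congrArg Subtype.val hT).symm⟩

theorem isConj_involution {s s' : G} (hs : orderOf s = 2) (hs' : orderOf s' = 2) : IsConj s s' := by
  haveI : Fact (Nat.Prime 2) := ⟨Nat.prime_two⟩
  obtain ⟨T, x, t, D, rfl⟩ := involution_eq h hs
  obtain ⟨T', x', t', D', rfl⟩ := involution_eq h hs'
  obtain ⟨g, rfl⟩ := MulAction.exists_smul_eq G T T'
  have hm : ∀ a, a ∈ (T : Subgroup G) → g * a * g⁻¹ ∈ ((g • T : Sylow 2 G) : Subgroup G) := fun a ha => by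
    rw [Sylow.coe_subgroup_smul]; exact ⟨a, ha, rfl⟩
  refine isConj_iff.2 ⟨g, ((D'.center_eq (hm _ (mul_mem D.hx D.hx)) ?_).resolve_left (by simp [D.xx_ne]))⟩
  intro b hb
  rw [Sylow.coe_subgroup_smul] at hb
  obtain ⟨a, ha, rfl⟩ := hb
  show g * a * g⁻¹ * (g * (x * x) * g⁻¹) = g * (x * x) * g⁻¹ * (g * a * g⁻¹)
  rw [conj_mul, conj_mul, D.z_central ha]

theorem isConj_order_four {a b : G} (ha : orderOf a = 4) (hb : orderOf b = 4) : IsConj a b := by
  have ho : ∀ c : G, orderOf c = 4 → orderOf (c * c) = 2 := fun c hc => by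
    refine orderOf_eq_prime (by rw [pow_two]; exact sq_sq_eq_one hc) fun h1 => ?_
    have := orderOf_dvd_of_pow_eq_one (show c ^ 2 = 1 by rw [pow_two, h1])
    rw [hc] at this; norm_num at this
  obtain ⟨g, hg⟩ := isConj_iff.1 (isConj_involution h (ho a ha) (ho b hb))
  set a' := g * a * g⁻¹ with ha'
  have hsq : a' * a' = b * b := by rw [ha', conj_mul, hg]
  refine (isConj_iff.2 ⟨g, rfl⟩ : IsConj a a').trans ?_
  obtain ⟨T, x, t, D, hz⟩ := involution_eq h (ho b hb)
  have hmem : ∀ c : G, c * c = b * b → c ∈ (T : Subgroup G) := fun c hc => by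
    rw [← centralizer_z h D, ← hz, ← hc]
    exact mem_centralizer_singleton_iff.2 (by group)
  have hne : ∀ c : G, c * c = b * b → c * c ≠ 1 := fun c hc => by
    rw [hc]
    intro h1
    have := ho b hb
    rw [h1, orderOf_one] at this; norm_num at this
  have hx : IsConj x x⁻¹ := isConj_iff.2 ⟨t, D.inv⟩
  rcases D.eq_x_of_sq_ne (hmem a' hsq) (hne a' hsq) with e1 | e1 <;>
    rcases D.eq_x_of_sq_ne (hmem b rfl) (hne b rfl) with e2 | e2 <;> rw [e1, e2]
  · exact hx
  · exact hx.symm

theorem isConj_order_three {a b : G} (ha : orderOf a = 3) (hb : orderOf b = 3) : IsConj a b := by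
  haveI : Fact (Nat.Prime 3) := ⟨Nat.prime_three⟩
  obtain ⟨S, hS⟩ := (IsPGroup.of_card (p := 3) (n := 1) (G := zpowers a)
    (by rw [Nat.card_zpowers, ha, pow_one])).exists_le_sylow
  obtain ⟨S', hS'⟩ := (IsPGroup.of_card (p := 3) (n := 1) (G := zpowers b)
    (by rw [Nat.card_zpowers, hb, pow_one])).exists_le_sylow
  have eS : zpowers a = S := eq_of_le_of_card_ge hS (by rw [card_sylow_three h S, Nat.card_zpowers, ha])
  have eS' : zpowers b = S' := eq_of_le_of_card_ge hS' (by rw [card_sylow_three h S', Nat.card_zpowers, hb])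
  obtain ⟨g, rfl⟩ := MulAction.exists_smul_eq G S' S
  set b' := g * b * g⁻¹ with hb'
  have hmem : b' ∈ zpowers a := by
    rw [eS, Sylow.coe_subgroup_smul]
    exact ⟨b, hS' (mem_zpowers b), rfl⟩
  have hb'o : orderOf b' = 3 :=
    (orderOf_injective (MulAut.conj g).toMonoidHom (MulAut.conj g).injective b).trans hb
  refine IsConj.trans ?_ (isConj_iff.2 ⟨g, rfl⟩ : IsConj b b').symm
  -- an element inverting `a`
  obtain ⟨n, hn, hn'⟩ : ∃ n ∈ normalizer (((g • S' : Sylow 3 G) : Subgroup G) : Set G),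
      n ∉ centralizer (((g • S' : Sylow 3 G) : Subgroup G) : Set G) := by
    by_contra hc
    push_neg at hc
    exact not_normalizer_le_centralizer (not_comm h) (by rw [h]; norm_num) _ hc
  rw [← eS] at hn hn'
  have h3 : a ^ 3 = 1 := ha ▸ pow_orderOf_eq_one a
  have hpm : ∀ c : G, c ∈ zpowers a → c ≠ 1 → c = a ∨ c = a⁻¹ := by
    intro c hc hc1
    obtain ⟨i, rfl⟩ := (mem_powers_iff_mem_zpowers.2 hc : c ∈ Submonoid.powers a)
    show a ^ i = a ∨ a ^ i = a⁻¹
    change a ^ i ≠ 1 at hc1
    rw [pow_eq_pow_mod i h3] at hc1 ⊢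
    have := Nat.mod_lt i (show 3 > 0 by norm_num)
    interval_cases i % 3
    · simp at hc1
    · simp
    · exact Or.inr (eq_inv_of_mul_eq_one_left (by rw [← pow_succ, h3]))
  have hna : IsConj a a⁻¹ := by
    refine isConj_iff.2 ⟨n, (hpm _ ((Subgroup.mem_normalizer_iff.1 hn a).1 (mem_zpowers a)) ?_).resolve_left ?_⟩
    · simp only [ne_eq, conj_eq_one_iff]
      intro h1; rw [h1, orderOf_one] at ha; norm_num at ha
    · intro h1
      refine hn' (mem_centralizer_iff.2 fun c hc => ?_)
      obtain ⟨i, rfl⟩ := hc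
      exact (Commute.zpow_right (mul_inv_eq_iff_eq_mul.1 h1 : Commute n a) i).eq.symm
  rcases hpm b' hmem (fun h1 => by rw [h1, orderOf_one] at hb'o; norm_num at hb'o) with e | e <;> rw [e]
  exact hna

theorem centralizer_seven_class {x : G} (hx : orderOf x = 7) :
    Nat.card {g : G // IsConj x g} = 24 ∧ ¬ IsConj x x⁻¹ := by
  classical
  haveI : Fact (Nat.Prime 7) := ⟨by norm_num⟩
  have hc := centralizer_prime h (Or.inr rfl) hx
  constructor
  · have e : {g : G // IsConj x g} ≃ G ⧸ centralizer ({x} : Set G) :=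
      (Equiv.ofBijective (fun q : G ⧸ centralizer ({x} : Set G) => Quotient.liftOn' q
        (fun g => (⟨g * x * g⁻¹, isConj_iff.2 ⟨g, rfl⟩⟩ : {g : G // IsConj x g})) (fun a b hab => by
          have hab' := mem_centralizer_singleton_iff.1 (QuotientGroup.leftRel_apply.1 hab)
          refine Subtype.ext ?_
          show a * x * a⁻¹ = b * x * b⁻¹
          calc a * x * a⁻¹ = a * (x * (a⁻¹ * b)) * b⁻¹ := by group
            _ = a * ((a⁻¹ * b) * x) * b⁻¹ := by rw [hab']
            _ = b * x * b⁻¹ := by group))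
        ⟨fun q q' => by
          induction q using QuotientGroup.induction_on with | H a =>
          induction q' using QuotientGroup.induction_on with | H b =>
          intro he
          have he' : a * x * a⁻¹ = b * x * b⁻¹ := congrArg Subtype.val he
          refine QuotientGroup.eq.2 (mem_centralizer_singleton_iff.2 ?_)
          calc a⁻¹ * b * x = a⁻¹ * (b * x * b⁻¹) * b := by group
            _ = a⁻¹ * (a * x * a⁻¹) * b := by rw [he']
            _ = x * (a⁻¹ * b) := by group,
        fun ⟨y, hy⟩ => by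
          obtain ⟨g, hg⟩ := isConj_iff.1 hy
          exact ⟨(g : G ⧸ centralizer ({x} : Set G)), Subtype.ext hg⟩⟩).symm
    rw [Nat.card_congr e, ← Subgroup.index]
    have := card_mul_index (centralizer ({x} : Set G))
    rw [hc, h] at this
    omega
  · intro hi
    obtain ⟨w, hw⟩ := isConj_iff.1 hi
    have hw2 : w ^ 2 ∈ centralizer ({x} : Set G) := mem_centralizer_singleton_iff.2 (by
      refine mul_inv_eq_iff_eq_mul.1 ?_
      calc w ^ 2 * x * (w ^ 2)⁻¹ = w * (w * x * w⁻¹) * w⁻¹ := by simp [pow_two, mul_assoc]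
        _ = (w * x * w⁻¹)⁻¹ := by rw [conj_inv, hw]
        _ = x := by rw [hw, inv_inv])
    have hne : x ≠ x⁻¹ := fun h1 => by
      have := orderOf_dvd_of_pow_eq_one (show x ^ 2 = 1 by rw [pow_two]; nth_rw 2 [h1]; exact mul_inv_cancel x)
      rw [hx] at this; norm_num at this
    have hwC : ¬ Commute w x := fun hcm => hne (by
      conv_rhs => rw [← hw]
      rw [hcm.eq, mul_inv_cancel_right])
    rcases orderOf_cases h w with h1 | h1 | h1
    · refine hwC (?_ : Commute w x)
      have : w = (w ^ 2) ^ 2 := by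
        rw [← pow_mul, show 2 * 2 = 3 + 1 by rfl, pow_succ, ← h1, pow_orderOf_eq_one, one_mul]
      rw [this]
      exact Commute.pow_left (mem_centralizer_singleton_iff.1 hw2) 2
    · refine hwC (?_ : Commute w x)
      have : w = (w ^ 2) ^ 4 := by
        rw [← pow_mul, show 2 * 4 = 7 + 1 by rfl, pow_succ, ← h1, pow_orderOf_eq_one, one_mul]
      rw [this]
      exact Commute.pow_left (mem_centralizer_singleton_iff.1 hw2) 4
    · have h2 := orderOf_dvd_natCard _ hw2
      rw [hc] at h2
      have h3 : orderOf (w ^ 2) ∣ 8 := (orderOf_pow_dvd 2).trans h1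
      have h4 : w * w = 1 := by
        rw [← pow_two]; exact orderOf_eq_one_iff.1 (Nat.eq_one_of_dvd_coprimes (by norm_num) h2 h3)
      have h5 : orderOf w ∣ 2 := orderOf_dvd_of_pow_eq_one (by rw [pow_two, h4])
      rcases (Nat.dvd_prime Nat.prime_two).1 h5 with h6 | h6
      · exact hwC (orderOf_eq_one_iff.1 h6 ▸ Commute.one_left x)
      -- `w` would normalise the Sylow 7-subgroup
      obtain ⟨S, hS⟩ := (IsPGroup.of_card (p := 7) (n := 1) (G := zpowers x)
        (by rw [Nat.card_zpowers, hx, pow_one])).exists_le_sylow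
      have eS : zpowers x = S := eq_of_le_of_card_ge hS (by rw [card_sylow_seven h S, Nat.card_zpowers, hx])
      have hwN : w ∈ normalizer ((S : Subgroup G) : Set G) := by
        rw [← eS, Subgroup.mem_normalizer_iff]
        intro y
        have hconj : ∀ i : ℤ, w * x ^ i * w⁻¹ = x ^ (-i) := fun i => by
          rw [← conj_zpow, hw, inv_zpow, zpow_neg]
        constructor
        · rintro ⟨i, rfl⟩; exact ⟨-i, (hconj i).symm⟩
        · rintro ⟨i, hi⟩
          refine ⟨-i, mul_left_cancel (a := w) (mul_right_cancel (b := w⁻¹) ?_)⟩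
          show w * x ^ (-i) * w⁻¹ = w * y * w⁻¹
          rw [hconj, neg_neg]; exact hi
      have h7 := orderOf_dvd_natCard _ hwN
      rw [card_normalizer_seven h S, h6] at h7
      norm_num at h7

end

end Cfsg.Agent.Order168
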