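import Cfsg.Agent.Lib.SmallSimple.RangeExtraHigh

/-!
# There is no simple group of order 5400
-/

set_option autoImplicit false

namespace Cfsg.Agent.SmallSimple

open Subgroup

universe u

theorem le_centralizer_of_le {G : Type u} [Group G] {D P : Subgroup G} (h : D ≤ P)
    (hP : ∀ a ∈ P, ∀ b ∈ P, a * b = b * a) : P ≤ centralizer (D : Set G) :=
  fun a ha => mem_centralizer_iff.2 fun b hb => hP b (h hb) a ha

/-- A group of order twice `75` or `225` has a single Sylow five-subgroup. -/
theorem card_sylow_five_eq_one {M : Type u} [Group M] [Finite M] [Fact (Nat.Prime 5)]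
    (h : Nat.card M = 150 ∨ Nat.card M = 450) : Nat.card (Sylow 5 M) = 1 := by
  haveI : Fact (Nat.Prime 2) := ⟨Nat.prime_two⟩
  obtain ⟨T⟩ : Nonempty (Sylow 2 M) := inferInstance
  have hT : Nat.card T = 2 := by
    rcases h with h | h
    · simpa using card_sylow_of_eq (k := 1) (m := 75) T (by rw [h]; norm_num) (by norm_num)
    · simpa using card_sylow_of_eq (k := 1) (m := 225) T (by rw [h]; norm_num) (by norm_num)
  have hmf : (Nat.card M).minFac = 2 := by rcases h with h | h <;> rw [h] <;> norm_num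
  have hle := IsCyclic.normalizer_le_centralizer hmf (isCyclic_of_prime_card hT)
  set L := (MonoidHom.transferSylow T hle).ker with hL
  have hc : IsComplement' L (T : Subgroup M) := MonoidHom.ker_transferSylow_isComplement' T hle
  have hLc : Nat.card L * 2 = Nat.card M := by rw [← hT]; exact hc.card_mul
  have hLi : L.index = 2 := by rw [hc.symm.index_eq_card, hT]
  have hone : Nat.card (Sylow 5 L) = 1 := by
    obtain ⟨S⟩ : Nonempty (Sylow 5 L) := inferInstance
    have hS : Nat.card S = 25 := by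
      rcases h with h | h <;> rw [h] at hLc
      · simpa using card_sylow_of_eq (k := 2) (m := 3) S (by omega) (by norm_num)
      · simpa using card_sylow_of_eq (k := 2) (m := 9) S (by omega) (by norm_num)
    have h1 := S.card_dvd_index
    have h2 := card_mul_index (S : Subgroup L)
    rw [hS] at h2
    have h3 : Nat.card (Sylow 5 L) % 5 = 1 := card_sylow_modEq_one 5 _
    have hi : (S : Subgroup L).index ∣ 9 := by
      rcases h with h | h <;> rw [h] at hLc
      · rw [show (S : Subgroup L).index = 3 by omega]; norm_num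
      · rw [show (S : Subgroup L).index = 9 by omega]
    have key : ∀ n ∈ Nat.divisors 9, n % 5 = 1 → n = 1 := by decide
    exact key _ (Nat.mem_divisors.2 ⟨h1.trans hi, by norm_num⟩) h3
  haveI := (Nat.card_eq_one_iff_unique.1 hone).1
  have hQL : ∀ Q : Sylow 5 M, (Q : Subgroup M) ≤ L := by
    intro Q x hx
    haveI : L.Normal := MonoidHom.normal_ker _
    rw [← QuotientGroup.eq_one_iff x, ← orderOf_eq_one_iff]
    obtain ⟨k, hk⟩ := Q.2 ⟨x, hx⟩
    have hd1 : orderOf (QuotientGroup.mk' L x) ∣ 5 ^ k := by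
      refine (orderOf_map_dvd _ x).trans (orderOf_dvd_of_pow_eq_one ?_)
      exact congrArg Subtype.val hk
    have hd2 : orderOf (QuotientGroup.mk' L x) ∣ 2 := hLi ▸ orderOf_dvd_natCard _
    exact Nat.eq_one_of_dvd_coprimes (Nat.Coprime.pow_left k (by norm_num)) hd1 hd2
  refine le_antisymm (Finite.card_le_one_iff_subsingleton.2 ⟨fun Q Q' => ?_⟩) Nat.card_pos
  have h1 := congrArg (fun S : Sylow 5 L => (S : Subgroup L).map L.subtype)
    (Subsingleton.elim (Q.subtype (hQL Q)) (Q'.subtype (hQL Q')))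
  simp only [Sylow.coe_subtype, subgroupOf_map_subtype] at h1
  rw [inf_eq_left.2 (hQL Q), inf_eq_left.2 (hQL Q')] at h1
  exact Sylow.ext h1

variable {G : Type u} [Group G] [Finite G] [IsSimpleGroup G]

theorem not_card_5400 (hnc : ¬ IsMulCommutative G) : Nat.card G ≠ 5400 := by
  intro hN
  classical
  haveI : Fact (Nat.Prime 5) := ⟨by norm_num⟩
  haveI : Fact (Nat.Prime 3) := ⟨Nat.prime_three⟩
  have hne := card_sylow_ne_one (p := 5) hnc (by rw [hN]; norm_num)
  obtain ⟨P₀⟩ : Nonempty (Sylow 5 G) := inferInstance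
  obtain ⟨hd, hmod, hf, hmul, hP₀⟩ := sylow_number_cases hnc (a := 2) (m := 216) hN (by norm_num) (by norm_num) (by norm_num) P₀
  have key : ∀ n ∈ Nat.divisors 216, n % 5 = 1 → n ≠ 1 → Range.factOK 5400 n = true → n = 36 ∨ n = 216 := by
    decide +kernel
  rcases key _ (Nat.mem_divisors.2 ⟨hd, by norm_num⟩) hmod hne hf with h36 | h216
  swap
  · rw [h216] at hmul
    exact false_of_self_normalizing hnc (by rw [hN]; norm_num) P₀ hP₀ (by omega)
  have hall : ∀ S : Sylow 5 G, Nat.card S = 5 ^ 2 := fun S =>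
    card_sylow_of_eq (k := 2) (m := 216) S (by rw [hN]; norm_num) (by norm_num)
  have hN150 : ∀ S : Sylow 5 G, Nat.card (normalizer ((S : Subgroup G) : Set G)) = 150 := fun S => by
    have := card_sylow_mul S
    rw [h36, hN] at this
    omega
  have hcomm : ∀ S : Sylow 5 G, ∀ a ∈ (S : Subgroup G), ∀ b ∈ (S : Subgroup G), a * b = b * a := fun S a ha b hb =>
    congrArg Subtype.val ((IsPGroup.isMulCommutative_of_card_eq_prime_sq (hall S)).is_comm.comm (⟨a, ha⟩ : S) ⟨b, hb⟩)
  obtain ⟨P, R, hPR, hD, -, -⟩ := exists_big_intersection (p := 5) (a := 1) hall (by rw [h36]; decide)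
  rw [pow_one] at hD
  set D := (P : Subgroup G) ⊓ (R : Subgroup G) with hDdef
  have hDP : D ≤ P := inf_le_left
  set M := centralizer (D : Set G) with hMdef
  have hPM : (P : Subgroup G) ≤ M := le_centralizer_of_le hDP (hcomm P)
  have hRM : (R : Subgroup G) ≤ M := le_centralizer_of_le inf_le_right (hcomm R)
  have hMne := two_le_sylow_of_le hPR hPM hRM
  have h25 : ∀ (S : Sylow 5 G) (K : Subgroup G), (S : Subgroup G) ≤ K →
      25 ∣ Nat.card ↥(normalizer ((S : Subgroup G) : Set G) ⊓ K) := fun S K hS => by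
    rw [show (25 : ℕ) = 5 ^ 2 by norm_num, ← hall S]
    exact card_dvd_of_le (le_inf le_normalizer hS)
  have h150 : ∀ (S : Sylow 5 G) (K : Subgroup G),
      Nat.card ↥(normalizer ((S : Subgroup G) : Set G) ⊓ K) ∣ 150 := fun S K =>
    hN150 S ▸ card_dvd_of_le inf_le_left
  obtain ⟨d₀, hd₀⟩ := exists_prime_orderOf_dvd_card' (G := D) 5 (by rw [hD])
  set d : G := (d₀ : G) with hddef
  have hdo : orderOf d = 5 := by rw [hddef, orderOf_coe, hd₀]
  have hd1 : d ≠ 1 := fun h => by rw [h, orderOf_one] at hdo; norm_num at hdo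
  have hMd : M ≤ centralizer ({d} : Set G) := centralizer_le (Set.singleton_subset_iff.2 d₀.2)
  have hMtop : M ≠ ⊤ := fun h => centralizer_singleton_ne_top hnc hd1 (top_le_iff.1 (h ▸ hMd))
  have hsmall : ∀ K : Subgroup G, K ≠ ⊤ → Nat.card K < 900 := by
    intro K hK
    by_contra hlt
    refine index_le_six_false hN (by decide) hK ?_
    have hi := card_mul_index K
    rw [hN] at hi
    by_contra h7
    have : 900 * 7 ≤ Nat.card K * K.index := Nat.mul_le_mul (by omega) (by omega)
    omega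
  have hM300 : Nat.card M = 300 ∧ Nat.card (Sylow 5 M) = 6 := by
    have h := card_sylow_subgroup_mul P M hPM
    have hdv : Nat.card M ∣ 5400 := hN ▸ card_subgroup_dvd_card M
    have hn' : Nat.card (Sylow 5 M) ∣ 216 := by
      have h1 : Nat.card (Sylow 5 M) * 25 ∣ 216 * 25 :=
        (mul_dvd_mul_left _ (h25 P M hPM)).trans (by rw [h]; exact hdv)
      exact Nat.dvd_of_mul_dvd_mul_right (by norm_num) h1
    have key2 : ∀ n ∈ Nat.divisors 216, n % 5 = 1 → n ≠ 1 → ∀ j ∈ Nat.divisors 150, 25 ∣ j → n * j < 900 →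
        n = 6 ∧ (n * j = 150 ∨ n * j = 300 ∨ n * j = 450) := by decide +kernel
    obtain ⟨h6, hcases⟩ := key2 _ (Nat.mem_divisors.2 ⟨hn', by norm_num⟩) (card_sylow_modEq_one 5 _) hMne _
      (Nat.mem_divisors.2 ⟨h150 P M, by norm_num⟩) (h25 P M hPM) (by rw [h]; exact hsmall M hMtop)
    rw [h] at hcases
    rcases hcases with e | e | e
    · exact absurd (card_sylow_five_eq_one (Or.inl e)) hMne
    · exact ⟨e, h6⟩
    · exact absurd (card_sylow_five_eq_one (Or.inr e)) hMne
  obtain ⟨hMc, hMn⟩ := hM300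
  have hQ50 : ∀ Q : Sylow 5 G, (Q : Subgroup G) ≤ M →
      Nat.card ↥(normalizer ((Q : Subgroup G) : Set G) ⊓ M) = 50 := fun Q hQ => by
    have h := card_sylow_subgroup_mul Q M hQ
    rw [hMn, hMc] at h
    omega
  -- the normalizer of `D` is its centralizer
  have hND : normalizer (D : Set G) = M := by
    set K := normalizer (D : Set G) with hK
    have hMK : M ≤ K := SmallSimple.centralizer_le_normalizer D
    have hPK : (P : Subgroup G) ≤ K := hPM.trans hMK
    haveI : IsCyclic D := isCyclic_of_prime_card hD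
    have hKtop : K ≠ ⊤ := ne_top_of_normalizes hnc (D := D) (fun h => by
      rw [h, card_bot] at hD; norm_num at hD) IsCyclic.isMulCommutative
    set X := normalizer ((P : Subgroup G) : Set G) ⊓ K with hX
    have hX3 : ¬ 3 ∣ Nat.card X := fun h3 => by
      obtain ⟨y, hy⟩ := exists_prime_orderOf_dvd_card' (G := X) 3 h3
      have hyM : (y : G) ∈ M := mem_centralizer_of_mem_normalizer (q := 5) D hD y.2.2 (by
        rw [orderOf_coe, hy]; norm_num)
      have := orderOf_dvd_natCard _ (show (y : G) ∈ normalizer ((P : Subgroup G) : Set G) ⊓ M from ⟨y.2.1, hyM⟩)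
      rw [orderOf_coe, hy, hQ50 P hPM] at this
      norm_num at this
    have h := card_sylow_subgroup_mul P K hPK
    have hdv : Nat.card K ∣ 5400 := hN ▸ card_subgroup_dvd_card K
    have hn' : Nat.card (Sylow 5 K) ∣ 216 := by
      have h1 : Nat.card (Sylow 5 K) * 25 ∣ 216 * 25 :=
        (mul_dvd_mul_left _ (h25 P K hPK)).trans (by rw [h]; exact hdv)
      exact Nat.dvd_of_mul_dvd_mul_right (by norm_num) h1
    have hge := card_le_of_le hMK
    rw [hMc, ← h] at hge
    have key3 : ∀ n ∈ Nat.divisors 216, n % 5 = 1 → ∀ j ∈ Nat.divisors 150, 25 ∣ j → ¬ 3 ∣ j → 300 ≤ n * j →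
        n * j < 900 → n * j = 300 := by decide +kernel
    have e := key3 _ (Nat.mem_divisors.2 ⟨hn', by norm_num⟩) (card_sylow_modEq_one 5 _) _
      (Nat.mem_divisors.2 ⟨h150 P K, by norm_num⟩) (h25 P K hPK) hX3 hge (by rw [h]; exact hsmall K hKtop)
    rw [h] at e
    exact (eq_of_le_of_card_ge hMK (by rw [e, hMc])).symm
  -- an element of order three in `C(D)` and its centralizer
  obtain ⟨y₀, hy₀⟩ := exists_prime_orderOf_dvd_card' (G := M) 3 (by rw [hMc]; norm_num)
  set y : G := (y₀ : G) with hydef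
  have hyo : orderOf y = 3 := by rw [hydef, orderOf_coe, hy₀]
  set H := centralizer ({y} : Set G) with hH
  have hDH : D ≤ H := fun a ha => mem_centralizer_singleton_iff.2 (mem_centralizer_iff.1 y₀.2 a ha)
  have hH9 : 9 ∣ Nat.card H := by
    have hz : IsPGroup 3 (zpowers y) := IsPGroup.of_card (n := 1) (by rw [Nat.card_zpowers, hyo, pow_one])
    obtain ⟨T, hT⟩ := hz.exists_le_sylow
    have hTc : Nat.card T = 3 ^ 3 := card_sylow_of_eq (k := 3) (m := 200) T (by rw [hN]; norm_num) (by norm_num)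
    haveI : Nontrivial (T : Subgroup G) := Finite.one_lt_card_iff_nontrivial.1 (by rw [hTc]; norm_num)
    haveI := T.2.center_nontrivial
    set Z : Subgroup G := (center (T : Subgroup G)).map (T : Subgroup G).subtype with hZ
    have hZT : Z ≤ T := map_subtype_le _
    have hZy : Z ≤ H := by
      rintro _ ⟨z, hz, rfl⟩
      exact mem_centralizer_singleton_iff.2 (congrArg Subtype.val
        (mem_center_iff.1 hz ⟨y, hT (mem_zpowers y)⟩)).symm
    by_cases hyZ : y ∈ Z
    · have hTH : (T : Subgroup G) ≤ H := fun a ha => mem_centralizer_singleton_iff.2 (by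
        obtain ⟨z, hz, hze⟩ := hyZ
        rw [← hze]
        exact congrArg Subtype.val (mem_center_iff.1 hz ⟨a, ha⟩))
      exact (show (9 : ℕ) ∣ 3 ^ 3 by norm_num).trans (hTc ▸ card_dvd_of_le hTH)
    have hW : Z ⊔ zpowers y ≤ H := sup_le hZy (zpowers_le.2 (mem_centralizer_singleton_iff.2 rfl))
    refine dvd_trans ?_ (card_dvd_of_le hW)
    obtain ⟨i, hi⟩ := (T.2.to_le (sup_le hZT hT) : IsPGroup 3 ↥(Z ⊔ zpowers y)).exists_card_eq
    have hgt : 3 < Nat.card ↥(Z ⊔ zpowers y) := by
      by_contra hle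
      have heq : zpowers y = Z ⊔ zpowers y :=
        eq_of_le_of_card_ge le_sup_right (by rw [Nat.card_zpowers, hyo]; omega)
      have hle' : Z ≤ zpowers y := heq ▸ le_sup_left
      have hdZ := card_dvd_of_le hle'
      rw [Nat.card_zpowers, hyo] at hdZ
      have hj1 : 1 < Nat.card Z := by
        rw [hZ, card_subtype]; exact Finite.one_lt_card_iff_nontrivial.2 inferInstance
      have h3 : Nat.card Z = 3 := ((Nat.dvd_prime Nat.prime_three).1 hdZ).resolve_left hj1.ne'
      exact hyZ ((eq_of_le_of_card_ge hle' (by rw [Nat.card_zpowers, hyo, h3])).ge (mem_zpowers y))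
    rw [hi] at hgt ⊢
    rcases i with _ | _ | i
    · norm_num at hgt
    · norm_num at hgt
    · exact ⟨3 ^ i, by ring⟩
  have hH25 : ¬ 25 ∣ Nat.card H := fun h25H => by
    -- a Sylow five-subgroup of `H` over `D` lies in `C(D)`
    have hp : IsPGroup 5 (D.subgroupOf H) :=
      IsPGroup.of_card (n := 1) (by rw [Nat.card_congr (subgroupOfEquivOfLe hDH).toEquiv, hD, pow_one])
    obtain ⟨S, hS⟩ := hp.exists_le_sylow
    set Q₁ : Subgroup G := (S : Subgroup H).map H.subtype with hQ₁
    have hQp : IsPGroup 5 Q₁ := S.2.map _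
    obtain ⟨Q, hQ⟩ := hQp.exists_le_sylow
    have hQc : Nat.card Q₁ = 5 ^ 2 := by
      rw [hQ₁, card_subtype]
      obtain ⟨k, hk⟩ := S.2.exists_card_eq
      have h1 : 25 ∣ Nat.card S := by
        rw [show (25 : ℕ) = 5 ^ 2 by norm_num]
        exact (Nat.Coprime.dvd_of_dvd_mul_right (Nat.Coprime.pow_left 2 ((Nat.Prime.coprime_iff_not_dvd (by norm_num)).2 S.not_dvd_index))
          (by rw [card_mul_index]; exact h25H))
      have h2 : Nat.card S ∣ 5 ^ 2 := by
        rw [← hall Q, ← card_subtype H (S : Subgroup H)]; exact card_dvd_of_le hQ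
      exact Nat.dvd_antisymm h2 h1
    have hQe : Q₁ = (Q : Subgroup G) := eq_of_le_of_card_ge hQ (by rw [hQc, hall Q])
    have hDQ : D ≤ Q := fun a ha => hQe ▸ ⟨⟨a, hDH ha⟩, hS ha, rfl⟩
    have hQM : (Q : Subgroup G) ≤ M := le_centralizer_of_le hDQ (hcomm Q)
    have hyQ : y ∈ normalizer ((Q : Subgroup G) : Set G) ⊓ M :=
      ⟨SmallSimple.centralizer_le_normalizer _ (mem_centralizer_iff.2 fun b hb => by
        rw [← hQe] at hb
        obtain ⟨b', -, rfl⟩ := hb
        exact mem_centralizer_singleton_iff.1 b'.2), y₀.2⟩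
    have := orderOf_dvd_natCard _ hyQ
    rw [hyo, hQ50 Q hQM] at this
    norm_num at this
  obtain ⟨m, hm⟩ : 5 ∣ Nat.card H := hD ▸ card_dvd_of_le hDH
  have hm5 : ¬ 5 ∣ m := fun h => hH25 (hm ▸ (show (25 : ℕ) = 5 * 5 by norm_num) ▸ Nat.mul_dvd_mul_left 5 h)
  have hDH' : Nat.card (D.subgroupOf H) = 5 := (Nat.card_congr (subgroupOfEquivOfLe hDH).toEquiv).trans hD
  -- Burnside transfer in `H`
  obtain ⟨S5, hS5⟩ := (IsPGroup.of_card (n := 1) (hDH'.trans (pow_one 5).symm)).exists_le_sylow (G := H)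
  have hS5c : Nat.card S5 = 5 := by
    simpa using card_sylow_of_eq (k := 1) (m := m) S5 (by rw [hm, pow_one]) hm5
  have hS5e : (S5 : Subgroup H) = D.subgroupOf H := (eq_of_le_of_card_ge hS5 (by rw [hDH', hS5c])).symm
  have hle : normalizer ((S5 : Subgroup H) : Set H) ≤ centralizer ((S5 : Subgroup H) : Set H) := by
    intro g hg
    rw [hS5e, ← subgroupOf_normalizer_eq hDH, mem_subgroupOf, hND] at hg
    refine mem_centralizer_iff.2 fun b hb => Subtype.ext ?_
    rw [hS5e, SetLike.mem_coe, mem_subgroupOf] at hb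
    exact mem_centralizer_iff.1 hg b hb
  set K := (MonoidHom.transferSylow S5 hle).ker with hKdef
  haveI hKn : K.Normal := MonoidHom.normal_ker _
  have hcomp : IsComplement' K (S5 : Subgroup H) := MonoidHom.ker_transferSylow_isComplement' S5 hle
  have hKc : Nat.card K * 5 = Nat.card H := by rw [← hS5c]; exact hcomp.card_mul
  -- a Sylow three-subgroup of `K` normalised by `D`
  obtain ⟨T⟩ : Nonempty (Sylow 3 K) := inferInstance
  set T' : Subgroup H := (T : Subgroup K).map K.subtype with hT'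
  have hsup : normalizer (T' : Set H) ⊔ K = ⊤ := Sylow.normalizer_sup_eq_top T
  have h5N : 5 ∣ Nat.card (normalizer (T' : Set H)) := by
    have h1 : K.relIndex (normalizer (T' : Set H)) = 5 := by
      rw [← relIndex_sup_right, hsup, relIndex_top_right, hcomp.symm.index_eq_card, hS5c]
    exact h1 ▸ relIndex_dvd_card K _
  obtain ⟨x₀, hx₀⟩ := exists_prime_orderOf_dvd_card' (G := normalizer (T' : Set H)) 5 h5N
  set x : G := (((x₀ : H)) : G) with hxdef
  have hxo : orderOf x = 5 := by rw [hxdef, orderOf_coe, orderOf_coe, hx₀]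
  have hxc : Nat.card (centralizer ({x} : Set G)) = 300 := by
    -- `x` generates a conjugate of `D`
    have hz : IsPGroup 5 (zpowers (x₀ : H)) :=
      IsPGroup.of_card (n := 1) (by rw [Nat.card_zpowers, orderOf_coe, hx₀, pow_one])
    obtain ⟨S', hS'⟩ := hz.exists_le_sylow
    obtain ⟨g, hg⟩ := MulAction.exists_smul_eq H S5 S'
    have hmem : ((g : G))⁻¹ * x * g ∈ D := by
      have h := hS' (mem_zpowers (x₀ : H))
      rw [← hg, Sylow.coe_subgroup_smul, mem_pointwise_smul_iff_inv_smul_mem, hS5e, mem_subgroupOf] at h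
      simpa [hxdef, MulAut.smul_def, mul_assoc] using h
    have hd' : ∀ a ∈ D, orderOf a = 5 → centralizer ({a} : Set G) = M := fun a ha hao => by
      have hz' : zpowers a = D := eq_of_le_of_card_ge (zpowers_le.2 ha) (by rw [hD, Nat.card_zpowers, hao])
      refine le_antisymm (fun w hw => mem_centralizer_iff.2 fun b hb => ?_)
        (centralizer_le (Set.singleton_subset_iff.2 ha))
      rw [← hz'] at hb
      obtain ⟨i, rfl⟩ := hb
      exact ((show Commute w a from mem_centralizer_singleton_iff.1 hw).zpow_right i).eq.symm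
    have hao : orderOf ((g : G)⁻¹ * x * g) = 5 := by
      have h := (MulAut.conj (g : G)⁻¹).orderOf_eq x
      rw [MulAut.conj_apply, inv_inv] at h
      rw [h, hxo]
    rw [← hMc, ← hd' _ hmem hao]
    have e : centralizer ({x} : Set G) =
        (centralizer ({(g : G)⁻¹ * x * g} : Set G)).map (MulAut.conj (g : G)).toMonoidHom := by
      ext w
      rw [mem_map_equiv, mem_centralizer_singleton_iff, mem_centralizer_singleton_iff, MulAut.conj_symm_apply]
      constructor
      · intro h
        calc (g : G)⁻¹ * w * g * ((g : G)⁻¹ * x * g) = (g : G)⁻¹ * (w * x) * g := by group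
          _ = (g : G)⁻¹ * (x * w) * g := by rw [h]
          _ = (g : G)⁻¹ * x * g * ((g : G)⁻¹ * w * g) := by group
      · intro h
        calc w * x = (g : G) * ((g : G)⁻¹ * w * g * ((g : G)⁻¹ * x * g)) * (g : G)⁻¹ := by group
          _ = (g : G) * ((g : G)⁻¹ * x * g * ((g : G)⁻¹ * w * g)) * (g : G)⁻¹ := by rw [h]
          _ = x * w := by group
    rw [e, card_map_of_injective (MulAut.conj (g : G)).injective]
  set T'' : Subgroup G := T'.map H.subtype with hT''
  have hxN : x ∈ normalizer (T'' : Set G) :=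
    le_normalizer_map H.subtype ⟨(x₀ : H), x₀.2, rfl⟩
  obtain ⟨k, hk⟩ := T.2.exists_card_eq
  have hT''c : Nat.card T'' = 3 ^ k := by rw [hT'', card_subtype, hT', card_subtype, hk]
  have hk2 : 2 ≤ k := by
    have h1 : 3 ^ 2 ∣ Nat.card K := by
      refine (Nat.Coprime.dvd_of_dvd_mul_right (show Nat.Coprime (3 ^ 2) 5 by norm_num) ?_)
      rw [hKc]; norm_num; exact hH9
    have h2 : 3 ^ 2 ∣ 3 ^ k := by
      rw [← hk]
      exact Nat.Coprime.dvd_of_dvd_mul_right
        (Nat.Coprime.pow_left 2 ((Nat.Prime.coprime_iff_not_dvd Nat.prime_three).2 T.not_dvd_index))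
        (by rw [card_mul_index]; exact h1)
    exact (Nat.pow_dvd_pow_iff_le_right (by norm_num)).1 h2
  have hk3 : k ≤ 3 := by
    have h1 : 3 ^ k ∣ 3 ^ 3 * 200 := by
      rw [← hT''c, show 3 ^ 3 * 200 = 5400 by norm_num, ← hN]; exact card_subgroup_dvd_card _
    exact (Nat.pow_dvd_pow_iff_le_right (by norm_num)).1
      ((Nat.Coprime.pow_left k (by norm_num : Nat.Coprime 3 200)).dvd_of_dvd_mul_right h1)
  have hfix := card_inf_centralizer_modEq (p := 5) T'' hxo hxN
  set W := T'' ⊓ centralizer ({x} : Set G)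
  have hW : Nat.card W ∣ Nat.gcd (3 ^ k) 300 := by
    rw [← hT''c, ← hxc]
    exact Nat.dvd_gcd (card_dvd_of_le inf_le_left) (card_dvd_of_le inf_le_right)
  rw [hT''c] at hfix
  have key4 : ∀ k ∈ Finset.Icc 2 3, ∀ w ∈ Nat.divisors 3, ¬ w % 5 = 3 ^ k % 5 := by decide
  refine key4 k (Finset.mem_Icc.2 ⟨hk2, hk3⟩) _ (Nat.mem_divisors.2 ⟨hW.trans ?_, by norm_num⟩) hfix
  have e : k = 2 ∨ k = 3 := by omega
  rcases e with rfl | rfl <;> norm_num

end Cfsg.Agent.SmallSimple
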