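import Cfsg.Agent.Lib.SmallSimple.OrderTypeData
import Cfsg.Agent.Lib.SmallSimple.Alternating
import Cfsg.Agent.S0497

/-!
# The same-order types of the alternating groups of degree at most six
-/

set_option autoImplicit false
set_option maxRecDepth 20000
set_option linter.style.haveILetI false

namespace Cfsg.Agent.SmallSimple.OrderType

universe u

theorem prime_of_dvd (T : List ℕ) (b : ℕ) (hb : ∀ t ∈ T, 1 + t ≤ b) {p : ℕ}
    (h : ∃ t ∈ T, t ≠ 0 ∧ p - 1 ∣ t ∧ p ∣ 1 + t) : p ≤ b :=
  (Nat.le_of_dvd (by omega) h.choose_spec.2.2.2).trans (hb _ h.choose_spec.1)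

variable {G : Type u} [Group G] [Finite G]

/-- A normal subgroup of order divisible by the full `p`-part contains every `p`-element. -/
theorem mem_of_normal {p k : ℕ} [hp : Fact p.Prime] (hk : (Nat.card G).factorization p = k) (N : Subgroup G) [hN : N.Normal]
    (hdvd : p ^ k ∣ Nat.card N) {g : G} {j : ℕ} (hg : g ^ p ^ j = 1) : g ∈ N := by
  obtain ⟨Q, hQ⟩ := Sylow.exists_subgroup_card_pow_prime p hdvd
  have hQ' : Nat.card (Q.map N.subtype) = p ^ (Nat.card G).factorization p := by
    rw [Subgroup.card_map_of_injective N.subtype_injective, hQ, hk]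
  set P : Sylow p G := Sylow.ofCard _ hQ' with hP
  have hpg : IsPGroup p (Subgroup.zpowers g) := by
    rintro ⟨a, i, rfl⟩
    refine ⟨j, Subtype.ext ?_⟩
    show (g ^ i) ^ (p ^ j) = 1
    rw [← zpow_natCast, ← zpow_mul, mul_comm, zpow_mul, zpow_natCast, hg, one_zpow]
  obtain ⟨R, hR⟩ := hpg.exists_le_sylow
  obtain ⟨a, ha⟩ := MulAction.exists_smul_eq G P R
  have hgR := hR (Subgroup.mem_zpowers g)
  rw [← ha, Sylow.coe_subgroup_smul] at hgR
  obtain ⟨b, hb, rfl⟩ := hgR
  obtain ⟨b', -, rfl⟩ := (show b ∈ Q.map N.subtype from hb)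
  exact hN.conj_mem _ b'.2 a

/-- An element of prime order fixing none of a set permuted by it divides its cardinality. -/
theorem dvd_card_of_conj {p : ℕ} [hp : Fact p.Prime] {x : G} (hx : x ^ p = 1) (S : Finset G)
    (hS : ∀ g ∈ S, x * g * x⁻¹ ∈ S) (hfix : ∀ g ∈ S, x * g ≠ g * x) : p ∣ S.card := by
  by_contra hcon
  classical
  let σ : Equiv.Perm S := Equiv.ofBijective (fun g => ⟨x * g.1 * x⁻¹, hS g.1 g.2⟩)
    (Finite.injective_iff_bijective.1 fun a b h => Subtype.ext (by simpa using congrArg Subtype.val h))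
  have hpow : ∀ (n : ℕ) (g : S), ((σ ^ n) g).1 = x ^ n * g.1 * (x ^ n)⁻¹ := by
    intro n
    induction n with
    | zero => simp
    | succ n ih =>
      intro g
      rw [pow_succ', Equiv.Perm.mul_apply]
      show x * ((σ ^ n) g).1 * x⁻¹ = _
      rw [ih g, pow_succ']
      group
  obtain ⟨a, ha⟩ := Equiv.Perm.exists_fixed_point_of_prime (α := S) (p := p) (n := 1)
    (by rwa [Fintype.card_coe]) (σ := σ) (by
      refine Equiv.ext fun g => Subtype.ext ?_
      rw [pow_one, hpow, hx]
      simp)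
  refine hfix a.1 a.2 ?_
  have h1 : x * a.1 * x⁻¹ = a.1 := congrArg Subtype.val ha
  exact mul_inv_eq_iff_eq_mul.1 h1

theorem factorization_eq {n p k m : ℕ} (hp : p.Prime) (h : n = p ^ k * m) (hm : ¬ p ∣ m) (hm0 : m ≠ 0) :
    n.factorization p = k := by
  rw [h, Nat.factorization_mul (pow_ne_zero k hp.ne_zero) hm0, Finsupp.add_apply,
    Nat.Prime.factorization_pow hp, Finsupp.single_eq_same, Nat.factorization_eq_zero_of_not_dvd hm, add_zero]

theorem counts_le (N : Subgroup G) (m : ℕ) (h : ∀ g : G, orderOf g = m → g ∈ N) (hm : 1 < m) :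
    cnt G m < Nat.card N := by
  classical
  haveI := Fintype.ofFinite G
  rw [cnt, Nat.card_eq_fintype_card, Fintype.card_subtype, Nat.card_eq_fintype_card, Fintype.card_subtype]
  refine Finset.card_lt_card ⟨fun g hg => ?_, fun hsub => ?_⟩
  · rw [Finset.mem_filter] at hg ⊢
    exact ⟨hg.1, h g hg.2⟩
  · have := hsub (show (1 : G) ∈ Finset.univ.filter (fun g => g ∈ N) by simp [N.one_mem])
    simp at this
    omega

theorem counts_le_two (N : Subgroup G) (m m' : ℕ) (hne : m ≠ m') (h : ∀ g : G, orderOf g = m → g ∈ N)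
    (h' : ∀ g : G, orderOf g = m' → g ∈ N) : cnt G m + cnt G m' ≤ Nat.card N := by
  classical
  haveI := Fintype.ofFinite G
  simp only [cnt, Nat.card_eq_fintype_card, Fintype.card_subtype]
  rw [← Finset.card_union_of_disjoint (Finset.disjoint_filter.2 fun g _ a b => hne (a.symm.trans b))]
  refine Finset.card_le_card fun g hg => ?_
  simp only [Finset.mem_union, Finset.mem_filter, Finset.mem_univ, true_and] at hg ⊢
  exact hg.elim (h g) (h' g)

theorem eq_alt_four (hN : Nat.card G = 12) (h3 : cnt G 3 = 8) : Nonempty (G ≃* alternatingGroup (Fin 4)) := by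
  classical
  haveI : Fact (Nat.Prime 3) := ⟨by norm_num⟩
  have hf : (Nat.card G).factorization 3 = 1 :=
    factorization_eq (m := 4) Nat.prime_three (by rw [hN]; rfl) (by norm_num) (by norm_num)
  obtain ⟨P⟩ : Nonempty (Sylow 3 G) := inferInstance
  have hP : Nat.card (P : Subgroup G) = 3 := by rw [P.card_eq_multiplicity, hf, pow_one]
  have hsmall : ∀ K : Subgroup G, K.Normal → Nat.card K ≠ 3 := by
    intro K hK hcard
    have := counts_le K 3 (fun g hg => mem_of_normal hf K (by rw [hcard]; rfl) (j := 1)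
      (by rw [pow_one, ← hg, pow_orderOf_eq_one])) (by norm_num)
    omega
  have h4 : Nat.card (Sylow 3 G) = 4 := by
    have hmul := P.card_dvd_index
    have hidx := (P : Subgroup G).card_mul_index
    rw [hP, hN] at hidx
    have hi : (P : Subgroup G).index = 4 := by omega
    rw [hi] at hmul
    have hmod : Nat.card (Sylow 3 G) % 3 = 1 := card_sylow_modEq_one 3 G
    have key : ∀ n ∈ (4 : ℕ).divisors, n % 3 = 1 → n = 1 ∨ n = 4 := by decide
    rcases key _ (Nat.mem_divisors.2 ⟨hmul, by norm_num⟩) hmod with h | h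
    · haveI : Subsingleton (Sylow 3 G) := (Nat.card_eq_one_iff_unique.1 h).1
      exact absurd hP (hsmall _ (Sylow.normal_of_subsingleton P))
    · exact h
  refine mulEquiv_alternating_of_injective (by norm_num) h4 (MulAction.toPermHom G (Sylow 3 G)) ?_ (by rw [hN]; rfl)
  rw [← MonoidHom.ker_eq_bot_iff]
  set K := (MulAction.toPermHom G (Sylow 3 G)).ker with hK
  have hKle : K ≤ Subgroup.normalizer ((P : Subgroup G) : Set G) := fun g hg => by
    exact (Sylow.smul_eq_iff_mem_normalizer).1 (Equiv.ext_iff.1 (MonoidHom.mem_ker.1 hg) P)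
  have hn3 : Nat.card (Subgroup.normalizer ((P : Subgroup G) : Set G)) = 3 := by
    have := (Subgroup.normalizer ((P : Subgroup G) : Set G)).card_mul_index
    rw [show (Subgroup.normalizer ((P : Subgroup G) : Set G)).index = 4 from P.card_eq_index_normalizer.symm.trans h4, hN] at this
    omega
  have hd := Subgroup.card_dvd_of_le hKle
  rw [hn3] at hd
  rcases (Nat.dvd_prime Nat.prime_three).1 hd with h | h
  · exact Subgroup.eq_bot_of_card_eq _ h
  · exact absurd h (hsmall _ inferInstance)

theorem no_commute {p : ℕ} (hp : p.Prime) {x g : G} (hx : orderOf x = p) (hg1 : g ≠ 1)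
    (hco : (orderOf x).Coprime (orderOf g)) (hno : ∀ m, 1 < m → cnt G (p * m) = 0) : x * g ≠ g * x := by
  intro hc
  have h := Commute.orderOf_mul_eq_mul_orderOf_of_coprime hc hco
  rw [hx] at h
  haveI : Nonempty {a : G // orderOf a = p * orderOf g} := ⟨⟨x * g, h⟩⟩
  exact Nat.card_pos.ne' (hno _ (lt_of_le_of_ne (orderOf_pos g) fun e => hg1 (orderOf_eq_one_iff.1 e.symm)))

theorem simple_of_five (hG : 1 < Nat.card G) (hno : ∀ m, 1 < m → cnt G (5 * m) = 0) (h5G : 5 ∣ Nat.card G)
    (h5 : ∀ N : Subgroup G, N.Normal → 5 ∣ Nat.card N → N = ⊤)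
    (hsix : ∀ N : Subgroup G, N.Normal → ¬ 5 ∣ Nat.card N → N ≠ ⊥ → Nat.card N ≠ 6 → ¬ 5 ∣ Nat.card N - 1) :
    IsSimpleGroup G := by
  classical
  haveI := Fintype.ofFinite G
  haveI : Nontrivial G := Finite.one_lt_card_iff_nontrivial.1 hG
  refine IsSimpleGroup.mk fun N hN => ?_
  by_cases hd : 5 ∣ Nat.card N
  · exact Or.inr (h5 N hN hd)
  left
  by_contra hbot
  have h1 := hsix N hN hd hbot
  haveI : Fact (Nat.Prime 5) := ⟨by norm_num⟩
  obtain ⟨x, hx⟩ := exists_prime_orderOf_dvd_card' (G := G) 5 h5G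
  have hcop : ∀ g ∈ N, (orderOf x).Coprime (orderOf g) := fun g hg => by
    rw [hx]
    exact (Nat.Prime.coprime_iff_not_dvd (by norm_num)).2 fun h => hd (h.trans (N.orderOf_dvd_natCard hg))
  have hall : ∀ Q : G → Prop, (∀ g, Q g → Q (x * g * x⁻¹)) → ¬ Q 1 →
      5 ∣ (Finset.univ.filter fun g => g ∈ N ∧ Q g).card := fun Q hQ hQ1 =>
    dvd_card_of_conj (by rw [← hx, pow_orderOf_eq_one]) _
      (fun g hg => by
        simp only [Finset.mem_filter, Finset.mem_univ, true_and] at hg ⊢
        exact ⟨hN.conj_mem g hg.1 x, hQ g hg.2⟩)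
      (fun g hg => by
        simp only [Finset.mem_filter, Finset.mem_univ, true_and] at hg
        exact no_commute (by norm_num) hx (fun h => hQ1 (h ▸ hg.2)) (hcop g hg.1) hno)
  have hcard : Nat.card N = (Finset.univ.filter fun g => g ∈ N).card := by
    rw [Nat.card_eq_fintype_card, Fintype.card_subtype]
  by_cases h6 : Nat.card N = 6
  · haveI : Fact (Nat.Prime 3) := ⟨Nat.prime_three⟩
    obtain ⟨b, hb⟩ := exists_prime_orderOf_dvd_card' (G := N) 3 (h6 ▸ by norm_num)
    set S := Finset.univ.filter fun g => g ∈ N ∧ orderOf g = 3 with hS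
    have hdvd : 5 ∣ S.card := by
      convert hall (fun g => orderOf g = 3) (fun g hg => by
        rw [← hg]; exact (MulAut.conj x).orderOf_eq g) (by simp)
    have hpos : 0 < S.card := Finset.card_pos.2 ⟨b, by simp [hS, hb, Subgroup.orderOf_coe]⟩
    have hS5 : S.card ≤ 5 := by
      have hlt : S.card < Nat.card N := hcard ▸ Finset.card_lt_card ⟨fun g hg => by
        simp only [hS, Finset.mem_filter] at hg ⊢; exact ⟨hg.1, hg.2.1⟩, fun hsub => by
        have := hsub (show (1 : G) ∈ Finset.univ.filter (fun g => g ∈ N) by simp [N.one_mem])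
        simp [hS] at this⟩
      omega
    have heq : S.card = 5 := Nat.le_antisymm hS5 (Nat.le_of_dvd hpos hdvd)
    have heven : 2 ∣ S.card := by
      have e : S.card = cnt N 3 := by
        rw [cnt, Nat.card_eq_fintype_card, Fintype.card_subtype, ← Finset.card_map (Function.Embedding.subtype _)]
        congr 1
        ext g
        simp [hS, and_comm]
      rw [e]
      have := phi_dvd_cnt N 3
      rwa [show Nat.totient 3 = 2 by decide] at this
    omega
  · have hdvd : 5 ∣ (Finset.univ.filter fun g => g ∈ N ∧ g ≠ 1).card := by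
      convert hall (fun g => g ≠ 1) (fun g hg h => hg (conj_eq_one_iff.1 h)) (by simp)
    refine h1 h6 ?_
    convert hdvd using 1
    rw [hcard, show (Finset.univ.filter fun g => g ∈ N ∧ g ≠ 1) = (Finset.univ.filter fun g => g ∈ N).erase 1 by
      ext g; simp [and_comm], Finset.card_erase_of_mem (by simp [N.one_mem])]

end Cfsg.Agent.SmallSimple.OrderType
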