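import Cfsg.Agent.Lib.SmallSimple.OrderTypeSearch

/-!
# Evaluated tables for the same-order types of `A₄`, `A₅`, `A₆`
-/

set_option autoImplicit false
set_option maxRecDepth 20000

namespace Cfsg.Agent.SmallSimple.OrderType

theorem image_eq {H : Type*} [Group H] [Fintype H] [DecidableEq H] (O : List ℕ) (v : ℕ → ℕ)
    (hall : ∀ g : H, orderOf g ∈ O)
    (hv : ∀ m ∈ O, 0 < m ∧ v m ≠ 0 ∧
      (Finset.univ.filter fun g : H => g ^ m = 1 ∧ ∀ d < m, 0 < d → g ^ d ≠ 1).card = v m) :
    ((fun m : ℕ => cnt H m) '' Set.range (orderOf : H → ℕ)) = {t | t ∈ O.map v} := by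
  have hc : ∀ m ∈ O, cnt H m = v m := fun m hm => by
    obtain ⟨hm0, -, h⟩ := hv m hm
    rw [cnt, Nat.card_eq_fintype_card, Fintype.card_subtype, ← h]
    exact congrArg Finset.card (Finset.filter_congr fun g _ => orderOf_eq_iff hm0)
  ext t
  simp only [Set.mem_image, Set.mem_range, Set.mem_setOf_eq, List.mem_map]
  constructor
  · rintro ⟨m, ⟨g, rfl⟩, rfl⟩
    exact ⟨_, hall g, (hc _ (hall g)).symm⟩
  · rintro ⟨m, hm, rfl⟩
    obtain ⟨⟨g, hg⟩⟩ := (Nat.card_ne_zero.1 (show cnt H m ≠ 0 from (hc m hm).symm ▸ (hv m hm).2.1)).1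
    exact ⟨m, ⟨g, hg⟩, hc m hm⟩

theorem order_of_pows {H : Type*} [Group H] {g : H} (h : g ^ 3 = 1 ∨ g ^ 4 = 1 ∨ g ^ 5 = 1) :
    orderOf g ∈ [1, 2, 3, 4, 5] := by
  rcases h with h | h | h <;> have hd := Nat.mem_divisors.2 ⟨orderOf_dvd_of_pow_eq_one h, by norm_num⟩
  · revert hd; generalize orderOf g = n; intro hd; revert n; decide
  · revert hd; generalize orderOf g = n; intro hd; revert n; decide
  · revert hd; generalize orderOf g = n; intro hd; revert n; decide

theorem alt_four :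
    ((fun m : ℕ => cnt (alternatingGroup (Fin 4)) m) '' Set.range (orderOf : alternatingGroup (Fin 4) → ℕ)) =
      {t | t ∈ [1, 3, 8]} := by
  have hall : ∀ g : alternatingGroup (Fin 4), g ^ 2 = 1 ∨ g ^ 3 = 1 := by decide +kernel
  rw [image_eq [1, 2, 3] (fun m => if m = 1 then 1 else if m = 2 then 3 else 8) (fun g => ?_) (by decide +kernel)]
  · rfl
  · rcases hall g with h | h <;> have hd := Nat.mem_divisors.2 ⟨orderOf_dvd_of_pow_eq_one h, by norm_num⟩
    · revert hd; generalize orderOf g = n; intro hd; revert n; decide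
    · revert hd; generalize orderOf g = n; intro hd; revert n; decide

theorem alt_five :
    ((fun m : ℕ => cnt (alternatingGroup (Fin 5)) m) '' Set.range (orderOf : alternatingGroup (Fin 5) → ℕ)) =
      {t | t ∈ [1, 15, 20, 24]} := by
  have hall : ∀ g : alternatingGroup (Fin 5), g ^ 2 = 1 ∨ g ^ 3 = 1 ∨ g ^ 5 = 1 := by decide +kernel
  rw [image_eq [1, 2, 3, 5] (fun m => if m = 1 then 1 else if m = 2 then 15 else if m = 3 then 20 else 24)
    (fun g => ?_) (by decide +kernel)]
  · rfl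
  · rcases hall g with h | h | h <;> have hd := Nat.mem_divisors.2 ⟨orderOf_dvd_of_pow_eq_one h, by norm_num⟩
    · revert hd; generalize orderOf g = n; intro hd; revert n; decide
    · revert hd; generalize orderOf g = n; intro hd; revert n; decide
    · revert hd; generalize orderOf g = n; intro hd; revert n; decide

theorem alt_six :
    ((fun m : ℕ => cnt (alternatingGroup (Fin 6)) m) '' Set.range (orderOf : alternatingGroup (Fin 6) → ℕ)) =
      {t | t ∈ [1, 45, 80, 90, 144]} := by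
  have hall : ∀ g : alternatingGroup (Fin 6), g ^ 3 = 1 ∨ g ^ 4 = 1 ∨ g ^ 5 = 1 := by decide +kernel
  rw [image_eq [1, 2, 3, 4, 5]
    (fun m => if m = 1 then 1 else if m = 2 then 45 else if m = 3 then 80 else if m = 4 then 90 else 144)
    (fun g => order_of_pows (hall g)) (by decide +kernel)]
  rfl

theorem check_four : check [1, 3, 8] 48 [2, 3, 4, 6] [3] [(3, 8), (2, 3), (1, 1)] = true := by decide +kernel

theorem check_five : check [1, 15, 20, 24] 3600 [2, 3, 4, 5, 6, 8, 9, 10, 12, 16, 18, 36]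
    [3, 5, 7, 8, 9, 12, 16, 18, 20, 27] [(5, 24), (3, 20), (2, 15), (1, 1)] = true := by decide +kernel

theorem check_six : check [1, 45, 80, 90, 144] 151200
    [2, 3, 4, 5, 6, 7, 8, 9, 10, 12, 14, 18, 20, 21, 24, 25, 36, 40, 42, 50, 72, 100]
    [3, 4, 5, 7, 9, 11, 12, 13, 14, 17, 19, 23, 24, 25, 27, 28, 30, 42, 108]
    [(5, 144), (4, 90), (3, 80), (2, 45), (1, 1)] = true := by decide +kernel

end Cfsg.Agent.SmallSimple.OrderType
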