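import Cfsg.Agent.Lib.FGB.FrobeniusTheorem

/-!
# A search over the numbers of elements of each order

Frobenius' divisibility and the totient divisibility cut the possible same-order counts down to a
finite list, which is searched by evaluation.
-/

set_option autoImplicit false

namespace Cfsg.Agent.SmallSimple.OrderType

universe u

/-- The number of elements of a given order. -/
noncomputable def cnt (G : Type u) [Group G] (m : ℕ) : ℕ := Nat.card {g : G // orderOf g = m}

/-- One candidate order: the order, its proper divisors and the values allowed for it. -/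
structure Entry where
  m : ℕ
  pd : List ℕ
  ts : List ℕ

def tot (a : List (ℕ × ℕ)) : ℕ := (a.map Prod.snd).sum

def dsum (a : List (ℕ × ℕ)) (n : ℕ) : ℕ := ((a.filter fun p => n % p.1 == 0).map Prod.snd).sum

def hasKey (a : List (ℕ × ℕ)) (d : ℕ) : Bool := a.any fun p => p.1 == d

/-- A complete assignment is refuted or is the target. -/
def leaf (T tests : List ℕ) (target a : List (ℕ × ℕ)) : Bool :=
  a == target || T.any (fun t => !((a.map Prod.snd).contains t)) || a.any (fun p => tot a % p.1 != 0) ||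
    tests.any fun n => tot a % n == 0 && dsum a n % n != 0

def go (T tests : List ℕ) (target : List (ℕ × ℕ)) : List Entry → List (ℕ × ℕ) → Bool
  | [], a => leaf T tests target a
  | e :: es, a => go T tests target es a && (!(e.pd.all fun d => hasKey a d) ||
      e.ts.all fun t => (dsum a e.m + t) % e.m != 0 || go T tests target es ((e.m, t) :: a))

/-- All of the listed orders occur: refuted. -/
def must : List Entry → List (ℕ × ℕ) → Bool
  | [], _ => false
  | e :: es, a => e.ts.all fun t => (dsum a e.m + t) % e.m != 0 || must es ((e.m, t) :: a)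

def Entry.mk' (T : List ℕ) (m : ℕ) : Entry :=
  ⟨m, (List.range m).filter (fun d => d != 0 && m % d == 0), T.filter fun t => t % Nat.totient m == 0⟩

/-- The conditions on the counting function. -/
structure Counts (T : List ℕ) (N : ℕ) (c : ℕ → ℕ) : Prop where
  one : c 1 = 1
  mem : ∀ m, c m ≠ 0 → c m ∈ T
  phi : ∀ m, c m ≠ 0 → Nat.totient m ∣ c m
  div : ∀ m, c m ≠ 0 → m ∣ N
  down : ∀ m d, c m ≠ 0 → d ∣ m → c d ≠ 0
  frob : ∀ n, n ∣ N → n ∣ ∑ d ∈ n.divisors, c d
  sum : ∑ d ∈ N.divisors, c d = N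
  surj : ∀ t ∈ T, ∃ m, c m = t
  pos : 0 < N
  zero : ∀ t ∈ T, t ≠ 0

variable {T : List ℕ} {N : ℕ} {c : ℕ → ℕ}

/-- A partial assignment which agrees with `c`. -/
structure Good (c : ℕ → ℕ) (a : List (ℕ × ℕ)) : Prop where
  nodup : (a.map Prod.fst).Nodup
  val : ∀ p ∈ a, p.2 = c p.1 ∧ c p.1 ≠ 0

theorem Good.map_snd {a : List (ℕ × ℕ)} (ha : Good c a) : a.map Prod.snd = (a.map Prod.fst).map c := by
  rw [List.map_map]
  exact List.map_congr_left fun p hp => (ha.val p hp).1

theorem Good.dsum_eq {a : List (ℕ × ℕ)} (ha : Good c a) (n : ℕ) :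
    dsum a n = ∑ d ∈ (a.map Prod.fst).toFinset.filter (fun d => n % d = 0), c d := by
  have h : (a.filter fun p => n % p.1 == 0).map Prod.fst = (a.map Prod.fst).filter fun d => n % d == 0 := by
    rw [List.filter_map]; rfl
  have hn : ((a.filter fun p => n % p.1 == 0).map Prod.fst).Nodup := h ▸ ha.nodup.filter _
  rw [dsum, List.map_congr_left (g := c ∘ Prod.fst) (fun p hp => (ha.val p (List.mem_of_mem_filter hp)).1),
    ← List.map_map, ← List.sum_toFinset c hn, h, List.toFinset_filter]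
  simp

theorem Good.mem_key {a : List (ℕ × ℕ)} (ha : Good c a) {d : ℕ} (hd : d ∈ a.map Prod.fst) : c d ≠ 0 := by
  obtain ⟨p, hp, rfl⟩ := List.mem_map.1 hd
  exact (ha.val p hp).2

theorem Good.step {a : List (ℕ × ℕ)} (ha : Good c a) (hc : Counts T N c) {e : Entry}
    (hpd : ∀ d ∈ e.pd, d ∈ a.map Prod.fst) (he : ∀ d, d ∣ e.m → d ≠ e.m → d ∈ e.pd)
    (hm : e.m ∉ a.map Prod.fst) (hne : c e.m ≠ 0) :
    (dsum a e.m + c e.m) % e.m = 0 ∧ Good c ((e.m, c e.m) :: a) := by
  refine ⟨?_, ⟨List.nodup_cons.2 ⟨hm, ha.nodup⟩, ?_⟩⟩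
  · have hm0 : e.m ≠ 0 := fun h => (hc.pos.ne' (Nat.eq_zero_of_zero_dvd (h ▸ hc.div _ hne)))
    have hset : (a.map Prod.fst).toFinset.filter (fun d => e.m % d = 0) = e.m.divisors.erase e.m := by
      ext d
      simp only [Finset.mem_filter, List.mem_toFinset, Finset.mem_erase, Nat.mem_divisors]
      constructor
      · rintro ⟨h1, h2⟩
        exact ⟨fun h => hm (h ▸ h1), Nat.dvd_of_mod_eq_zero h2, hm0⟩
      · rintro ⟨h1, h2, -⟩
        exact ⟨hpd d (he d h2 h1), Nat.mod_eq_zero_of_dvd h2⟩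
    rw [ha.dsum_eq, hset, add_comm, Finset.add_sum_erase _ _ (Nat.mem_divisors_self _ hm0)]
    exact Nat.mod_eq_zero_of_dvd (hc.frob _ (hc.div _ hne))
  · rintro p hp
    rcases List.mem_cons.1 hp with rfl | hp
    · exact ⟨rfl, hne⟩
    · exact ha.val p hp

theorem leaf_sound (hc : Counts T N c) {tests : List ℕ} {target a : List (ℕ × ℕ)} (ha : Good c a)
    (hall : ∀ d, c d ≠ 0 → d ∈ a.map Prod.fst) (h : leaf T tests target a = true) : a = target := by
  have hfull : ∀ n, n ∣ N → dsum a n = ∑ d ∈ n.divisors, c d := by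
    intro n hn
    rw [ha.dsum_eq]
    refine Finset.sum_subset (fun d hd => ?_) fun d hd hd' => ?_
    · rw [Finset.mem_filter] at hd
      exact Nat.mem_divisors.2 ⟨Nat.dvd_of_mod_eq_zero hd.2, (Nat.pos_of_dvd_of_pos hn hc.pos).ne'⟩
    · by_contra hd0
      exact hd' (Finset.mem_filter.2 ⟨List.mem_toFinset.2 (hall d hd0),
        Nat.mod_eq_zero_of_dvd (Nat.mem_divisors.1 hd).1⟩)
  have htot : tot a = N := by
    conv_rhs => rw [← hc.sum, ← hfull N dvd_rfl]
    rw [tot, dsum, List.filter_eq_self.2 fun p hp => by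
      simpa using Nat.mod_eq_zero_of_dvd (hc.div _ (ha.val p hp).2)]
  simp only [leaf, Bool.or_eq_true, List.any_eq_true, beq_iff_eq, Bool.and_eq_true, bne_iff_ne, ne_eq,
    Bool.not_eq_true'] at h
  rcases h with ((h | ⟨t, ht, h⟩) | ⟨p, hp, h⟩) | ⟨n, -, h1, h2⟩
  · exact h
  · obtain ⟨m, rfl⟩ := hc.surj t ht
    obtain ⟨p, hp, rfl⟩ := List.mem_map.1 (hall m (hc.zero _ ht))
    rw [← (ha.val p hp).1] at h
    simp only [List.contains_eq_mem, decide_eq_false_iff_not] at h
    exact absurd (List.mem_map_of_mem (f := Prod.snd) hp) h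
  · exact absurd (Nat.mod_eq_zero_of_dvd (htot ▸ hc.div _ (ha.val p hp).2)) h
  · rw [htot] at h1
    have hn := Nat.dvd_of_mod_eq_zero h1
    exact absurd (Nat.mod_eq_zero_of_dvd (hfull n hn ▸ hc.frob n hn)) h2

theorem go_sound (hc : Counts T N c) {tests : List ℕ} {target : List (ℕ × ℕ)} :
    ∀ (L : List Entry) (a : List (ℕ × ℕ)), (∀ e ∈ L, (∀ d, d ∣ e.m → d ≠ e.m → d ∈ e.pd) ∧ (∀ d ∈ e.pd, d ∣ e.m ∧ d ≠ e.m) ∧
        (∀ t ∈ T, Nat.totient e.m ∣ t → t ∈ e.ts)) → Good c a → ((L.map Entry.m) ++ a.map Prod.fst).Nodup →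
      (∀ d, c d ≠ 0 → d ∈ L.map Entry.m ∨ d ∈ a.map Prod.fst) → (L.map Entry.m).Pairwise (· < ·) →
      go T tests target L a = true →
      ∃ b, Good c b ∧ b = target ∧ ∀ d, c d ≠ 0 → d ∈ b.map Prod.fst
  | [], a, _, ha, _, hall, _, h => ⟨a, ha, leaf_sound hc ha (fun d hd => (hall d hd).resolve_left (by simp)) h,
      fun d hd => (hall d hd).resolve_left (by simp)⟩
  | e :: es, a, hL, ha, hnd, hall, hsort, h => by
    simp only [go, Bool.and_eq_true, Bool.or_eq_true, Bool.not_eq_true', List.all_eq_true, bne_iff_ne, ne_eq] at h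
    obtain ⟨he1, he2, he3⟩ := hL e List.mem_cons_self
    simp only [List.map_cons, List.cons_append, List.nodup_cons, List.mem_append, not_or, List.pairwise_cons] at hnd hsort
    have hL' := fun e' (he' : e' ∈ es) => hL e' (List.mem_cons_of_mem e he')
    by_cases hne : c e.m = 0
    · refine go_sound hc es a hL' ha hnd.2 (fun d hd => ?_) hsort.2 h.1
      rcases hall d hd with hd' | hd'
      · rcases List.mem_cons.1 hd' with rfl | hd'
        · exact absurd hne hd
        · exact Or.inl hd'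
      · exact Or.inr hd'
    · have hlt : ∀ d ∈ e.pd, d ≠ e.m := fun d hd => (he2 d hd).2
      have hpd : ∀ d ∈ e.pd, d ∈ a.map Prod.fst := fun d hd => by
        have hd0 := hc.down _ _ hne (he2 d hd).1
        rcases hall d hd0 with hd' | hd'
        · have hm0 : 0 < e.m := Nat.pos_of_ne_zero fun h0 => hc.pos.ne' (Nat.eq_zero_of_zero_dvd (h0 ▸ hc.div _ hne))
          have hle := Nat.le_of_dvd hm0 (he2 d hd).1
          rcases List.mem_cons.1 hd' with rfl | hd'
          · exact absurd rfl (hlt _ hd)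
          · exact absurd (hsort.1 d hd') (not_lt.2 hle)
        · exact hd'
      obtain ⟨hmod, hgood⟩ := ha.step hc hpd he1 hnd.1.2 hne
      rcases h.2 with h2 | h2
      · exfalso
        simp only [List.all_eq_false, hasKey, List.any_eq_true, beq_iff_eq] at h2
        obtain ⟨d, hd, hd'⟩ := h2
        obtain ⟨p, hp, hpe⟩ := List.mem_map.1 (hpd d hd)
        exact hd' ⟨p, hp, hpe⟩
      · rcases h2 (c e.m) (he3 _ (hc.mem _ hne) (hc.phi _ hne)) with h3 | h3
        · exact absurd hmod h3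
        · refine go_sound hc es _ hL' hgood ?_ (fun d hd => ?_) hsort.2 h3
          · rw [List.map_cons, List.nodup_middle, List.nodup_cons]
            exact ⟨by simpa using hnd.1, hnd.2⟩
          · rcases hall d hd with hd' | hd'
            · rcases List.mem_cons.1 hd' with rfl | hd'
              · exact Or.inr List.mem_cons_self
              · exact Or.inl hd'
            · exact Or.inr (List.mem_cons_of_mem _ hd')

theorem must_sound (hc : Counts T N c) :
    ∀ (L : List Entry) (a : List (ℕ × ℕ)), Good c a → ((L.map Entry.m) ++ a.map Prod.fst).Nodup →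
      (∀ e ∈ L, c e.m ≠ 0 ∧ (∀ t ∈ T, Nat.totient e.m ∣ t → t ∈ e.ts) ∧ (∀ d, d ∣ e.m → d ≠ e.m → d ∈ e.pd)) →
      (∀ e ∈ L, ∀ d ∈ e.pd, d ∈ a.map Prod.fst ∨ d ∈ L.map Entry.m ∧ d < e.m) → (L.map Entry.m).Pairwise (· < ·) →
      must L a = false
  | [], _, _, _, _, _, _ => rfl
  | e :: es, a, ha, hnd, hL, hpd, hsort => by
    obtain ⟨hne, he3, he1⟩ := hL e List.mem_cons_self
    simp only [List.map_cons, List.cons_append, List.nodup_cons, List.mem_append, not_or, List.pairwise_cons] at hnd hsort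
    have hpd' : ∀ d ∈ e.pd, d ∈ a.map Prod.fst := fun d hd => by
      rcases hpd e List.mem_cons_self d hd with h | ⟨h, hlt⟩
      · exact h
      · rcases List.mem_cons.1 h with rfl | h
        · exact absurd hlt (lt_irrefl _)
        · exact absurd (hsort.1 d h) (not_lt.2 hlt.le)
    obtain ⟨hmod, hgood⟩ := ha.step hc hpd' he1 hnd.1.2 hne
    have hrec := must_sound hc es _ hgood (by
      rw [List.map_cons, List.nodup_middle, List.nodup_cons]
      exact ⟨by simpa using hnd.1, hnd.2⟩) (fun e' he' => hL e' (List.mem_cons_of_mem e he')) (fun e' he' d hd => by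
        rcases hpd e' (List.mem_cons_of_mem e he') d hd with h | ⟨h, hlt⟩
        · exact Or.inl (List.mem_cons_of_mem _ h)
        · rcases List.mem_cons.1 h with rfl | h
          · exact Or.inl List.mem_cons_self
          · exact Or.inr ⟨h, hlt⟩) hsort.2
    simp only [must, List.all_eq_false, Bool.or_eq_true, bne_iff_ne, ne_eq, not_or, not_not, Bool.not_eq_true]
    exact ⟨c e.m, he3 _ (hc.mem _ hne) (hc.phi _ hne), hmod, hrec⟩

theorem mk'_spec (T : List ℕ) {m : ℕ} (hm : m ≠ 0) :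
    (∀ d, d ∣ m → d ≠ m → d ∈ (Entry.mk' T m).pd) ∧ (∀ d ∈ (Entry.mk' T m).pd, d ∣ m ∧ d ≠ m) ∧
      (∀ t ∈ T, Nat.totient m ∣ t → t ∈ (Entry.mk' T m).ts) := by
  refine ⟨fun d hd hne => ?_, fun d hd => ?_, fun t ht h => ?_⟩
  · simp only [Entry.mk', List.mem_filter, List.mem_range, Bool.and_eq_true, bne_iff_ne, ne_eq, beq_iff_eq]
    exact ⟨lt_of_le_of_ne (Nat.le_of_dvd (Nat.pos_of_ne_zero hm) hd) hne,
      fun h => hm (Nat.eq_zero_of_zero_dvd (h ▸ hd)), Nat.mod_eq_zero_of_dvd hd⟩
  · simp only [Entry.mk', List.mem_filter, List.mem_range, Bool.and_eq_true, beq_iff_eq] at hd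
    exact ⟨Nat.dvd_of_mod_eq_zero hd.2.2, hd.1.ne⟩
  · simp only [Entry.mk', List.mem_filter, beq_iff_eq]
    exact ⟨ht, Nat.mod_eq_zero_of_dvd h⟩

/-- The nontrivial divisors of `m`, increasing. -/
def divs (m : ℕ) : List ℕ := (List.range (m + 1)).filter fun d => 2 ≤ d && m % d == 0

/-- The whole computation: `M` bounds the orders, `cand` lists the candidates left. -/
def check (T : List ℕ) (M : ℕ) (cand : List ℕ) (tests : List ℕ) (target : List (ℕ × ℕ)) : Bool :=
  ((divs M).all fun m => cand.contains m || (T.all fun t => t % Nat.totient m != 0) ||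
      must ((divs m).map (Entry.mk' T)) [(1, 1)]) &&
    go T tests target (cand.map (Entry.mk' T)) [(1, 1)]

theorem counts_eq (hc : Counts T N c) {M : ℕ} (hM : M ≠ 0) {cand tests : List ℕ} {target : List (ℕ × ℕ)}
    (hcand : cand.Pairwise (· < ·) ∧ ∀ m ∈ cand, 2 ≤ m) (hbound : ∀ m, c m ≠ 0 → m ∣ M)
    (h : check T M cand tests target = true) :
    N = tot target ∧ ∀ d, c d = ((target.find? fun p => p.1 == d).map Prod.snd).getD 0 := by
  have hstart : Good c [(1, 1)] := ⟨List.nodup_singleton _, by simp [hc.one]⟩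
  have hid : ∀ L : List ℕ, (L.map (Entry.mk' T)).map Entry.m = L := fun L => by
    rw [List.map_map]; exact List.map_id L
  have hnd : ∀ L : List ℕ, L.Pairwise (· < ·) → (∀ m ∈ L, 2 ≤ m) →
      ((L.map (Entry.mk' T)).map Entry.m ++ [((1 : ℕ), (1 : ℕ))].map Prod.fst).Nodup := fun L h1 h2 => by
    rw [hid, List.map_cons, List.map_nil, List.nodup_append]
    exact ⟨h1.imp ne_of_lt, List.nodup_singleton _, fun a ha b hb => by
      rw [List.mem_singleton] at hb; have := h2 a ha; omega⟩
  rw [check, Bool.and_eq_true] at h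
  simp only [List.all_eq_true, Bool.or_eq_true, bne_iff_ne, ne_eq, List.contains_eq_mem, decide_eq_true_eq] at h
  have hsupp : ∀ d, c d ≠ 0 → d = 1 ∨ d ∈ cand := by
    intro m hm
    by_contra hcon
    push Not at hcon
    have hm0 : m ≠ 0 := fun h0 => hM (Nat.eq_zero_of_zero_dvd (h0 ▸ hbound _ hm))
    have hmem : m ∈ divs M := by
      simp only [divs, List.mem_filter, List.mem_range, Bool.and_eq_true, decide_eq_true_eq, beq_iff_eq]
      have := Nat.le_of_dvd (Nat.pos_of_ne_zero hM) (hbound _ hm)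
      exact ⟨by omega, by omega, Nat.mod_eq_zero_of_dvd (hbound _ hm)⟩
    rcases h.1 m hmem with (h1 | h1) | h1
    · exact hcon.2 h1
    · exact h1 _ (hc.mem _ hm) (Nat.mod_eq_zero_of_dvd (hc.phi _ hm))
    · have hds : ∀ d ∈ divs m, 2 ≤ d ∧ d ∣ m := fun d hd => by
        simp only [divs, List.mem_filter, Bool.and_eq_true, decide_eq_true_eq, beq_iff_eq] at hd
        exact ⟨hd.2.1, Nat.dvd_of_mod_eq_zero hd.2.2⟩
      have hsort : (divs m).Pairwise (· < ·) := List.pairwise_lt_range.filter _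
      have := must_sound hc ((divs m).map (Entry.mk' T)) [(1, 1)] hstart (hnd _ hsort fun d hd => (hds d hd).1)
        (fun e he => by
          obtain ⟨d, hd, rfl⟩ := List.mem_map.1 he
          obtain ⟨s1, -, s3⟩ := mk'_spec T (m := d) (by have := (hds d hd).1; omega)
          exact ⟨hc.down _ _ hm (hds d hd).2, s3, s1⟩)
        (fun e he x hx => by
          obtain ⟨d, hd, rfl⟩ := List.mem_map.1 he
          obtain ⟨-, s2, -⟩ := mk'_spec T (m := d) (by have := (hds d hd).1; omega)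
          have hxd := (s2 x hx).1
          simp only [Entry.mk', List.mem_filter, List.mem_range, Bool.and_eq_true, bne_iff_ne, ne_eq] at hx
          rcases eq_or_ne x 1 with h1x | h1x
          · exact Or.inl (by simp [h1x])
          · refine Or.inr ⟨?_, hx.1⟩
            rw [hid]
            simp only [divs, List.mem_filter, List.mem_range, Bool.and_eq_true, decide_eq_true_eq, beq_iff_eq]
            have hxm := hxd.trans (hds d hd).2
            have := Nat.le_of_dvd (Nat.pos_of_ne_zero hm0) hxm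
            exact ⟨by omega, by omega, Nat.mod_eq_zero_of_dvd hxm⟩)
        (by rw [hid]; exact hsort)
      rw [this] at h1
      exact Bool.false_ne_true h1
  obtain ⟨b, hb, rfl, hb'⟩ := go_sound hc (cand.map (Entry.mk' T)) [(1, 1)] (fun e he => by
      obtain ⟨d, hd, rfl⟩ := List.mem_map.1 he
      exact mk'_spec T (m := d) (by have := hcand.2 d hd; omega))
    hstart (hnd _ hcand.1 hcand.2) (fun d hd => by rw [hid]; simpa [or_comm] using hsupp d hd)
    (by rw [hid]; exact hcand.1) h.2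
  refine ⟨?_, fun d => ?_⟩
  · rw [tot, hb.map_snd, ← List.sum_toFinset c hb.nodup]
    refine hc.sum.symm.trans (Finset.sum_subset_zero_on_sdiff (fun d hd => ?_) (fun d hd => ?_) fun d _ => rfl).symm
    · exact Nat.mem_divisors.2 ⟨hc.div _ (hb.mem_key (List.mem_toFinset.1 hd)), hc.pos.ne'⟩
    · by_contra hd0
      exact (Finset.mem_sdiff.1 hd).2 (List.mem_toFinset.2 (hb' d hd0))
  · cases hf : b.find? fun p => p.1 == d with
    | some p =>
      have h1 := List.find?_some hf
      rw [beq_iff_eq] at h1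
      rw [← h1]
      exact (hb.val p (List.mem_of_find?_eq_some hf)).1.symm
    | none =>
      by_contra hd0
      obtain ⟨p, hp, hpd⟩ := List.mem_map.1 (hb' d hd0)
      have := List.find?_eq_none.1 hf p hp
      simp [hpd] at this

/-- The elements of order `m` fall into sets of size `φ(m)`. -/
theorem phi_dvd_cnt (G : Type u) [Group G] [Finite G] (m : ℕ) : Nat.totient m ∣ cnt G m := by
  classical
  haveI := Fintype.ofFinite G
  have hcnt : cnt G m = (Finset.univ.filter fun g : G => orderOf g = m).card := by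
    rw [cnt, Nat.card_eq_fintype_card, Fintype.card_subtype]
  rw [hcnt, Finset.card_eq_sum_card_image Subgroup.zpowers]
  refine Finset.dvd_sum fun Z hZ => dvd_of_eq ?_
  obtain ⟨g, hg, rfl⟩ := Finset.mem_image.1 hZ
  obtain ⟨-, hg⟩ := Finset.mem_filter.1 hg
  rw [← IsCyclic.card_orderOf_eq_totient (α := Subgroup.zpowers g) (d := m) (by rw [Fintype.card_zpowers, hg])]
  refine Finset.card_bij' (fun a _ => (a : G)) (fun b hb => ⟨b, ?_⟩) (fun a ha => ?_) (fun b hb => ?_)
    (fun a _ => rfl) (fun b _ => rfl)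
  · rw [Finset.mem_filter] at hb
    exact hb.2 ▸ Subgroup.mem_zpowers b
  · simp only [Finset.mem_filter, Finset.mem_univ, true_and] at ha ⊢
    rw [← Subgroup.orderOf_coe] at ha
    refine ⟨ha, Subgroup.eq_of_le_of_card_ge (Subgroup.zpowers_le.2 a.2) ?_⟩
    rw [Nat.card_zpowers, Nat.card_zpowers, ha, hg]
  · simp only [Finset.mem_filter, Finset.mem_univ, true_and] at hb ⊢
    rw [← Subgroup.orderOf_coe]
    exact hb.1

/-- The counts of a finite group. -/
theorem counts_of_group {G : Type u} [Group G] [Finite G] (T : List ℕ) (hT : ∀ t ∈ T, t ≠ 0)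
    (h : ((fun m : ℕ => cnt G m) '' Set.range (orderOf : G → ℕ)) = {t | t ∈ T}) :
    Counts T (Nat.card G) (cnt G) := by
  classical
  haveI := Fintype.ofFinite G
  have hex : ∀ m, cnt G m ≠ 0 → ∃ g : G, orderOf g = m := fun m hm => by
    obtain ⟨⟨g, hg⟩⟩ := (Nat.card_ne_zero.1 hm).1
    exact ⟨g, hg⟩
  have hne : ∀ g : G, cnt G (orderOf g) ≠ 0 := fun g => by
    haveI : Nonempty {a : G // orderOf a = orderOf g} := ⟨⟨g, rfl⟩⟩
    exact Nat.card_pos.ne'
  have hcnt : ∀ m, cnt G m = (Finset.univ.filter fun g : G => orderOf g = m).card := fun m => by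
    rw [cnt, Nat.card_eq_fintype_card, Fintype.card_subtype]
  have hpow : ∀ n, n ≠ 0 → ∑ d ∈ n.divisors, cnt G d = Nat.card {g : G // g ^ n = 1} := fun n hn => by
    simp only [hcnt]
    rw [Nat.card_eq_fintype_card, Fintype.card_subtype]
    refine Eq.symm ((Finset.card_eq_sum_card_fiberwise (s := Finset.univ.filter fun g : G => g ^ n = 1) (f := orderOf)
        (t := n.divisors) (fun g hg => Nat.mem_divisors.2 ⟨orderOf_dvd_of_pow_eq_one (Finset.mem_filter.1 hg).2, hn⟩)).trans ?_)
    refine Finset.sum_congr rfl fun d hd => congrArg Finset.card ?_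
    ext g
    simp only [Finset.mem_filter, Finset.mem_univ, true_and]
    refine ⟨fun hg => hg.2, fun hg => ⟨?_, hg⟩⟩
    rw [← orderOf_dvd_iff_pow_eq_one, hg]
    exact (Nat.mem_divisors.1 hd).1
  refine ⟨?_, fun m hm => ?_, fun m hm => ?_, fun m hm => ?_, fun m d hm hd => ?_, fun n hn => ?_, ?_, fun t ht => ?_,
    Nat.card_pos, hT⟩
  · rw [hcnt]
    exact Finset.card_eq_one.2 ⟨1, by ext g; simp [orderOf_eq_one_iff]⟩
  · obtain ⟨g, rfl⟩ := hex m hm
    exact h.le ⟨_, ⟨g, rfl⟩, rfl⟩
  · exact phi_dvd_cnt G m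
  · obtain ⟨g, rfl⟩ := hex m hm
    exact orderOf_dvd_natCard g
  · obtain ⟨g, rfl⟩ := hex m hm
    rw [← orderOf_pow_orderOf_div (orderOf_pos g).ne' hd]
    exact hne _
  · rw [hpow n (Nat.pos_of_dvd_of_pos hn Nat.card_pos).ne']
    exact FGB.frobenius_dvd n hn
  · rw [hpow _ Nat.card_pos.ne']
    exact Nat.card_congr (Equiv.subtypeUnivEquiv fun g => pow_card_eq_one')
  · obtain ⟨m, -, hm⟩ := h.ge ht
    exact ⟨m, hm⟩

/-- The orders are bounded by `M`. -/
theorem order_bound {G : Type u} [Group G] [Finite G] {T : List ℕ} (hc : Counts T (Nat.card G) (cnt G)) {M : ℕ}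
    (P : List (ℕ × ℕ)) (hP : ∀ p, p.Prime → (∃ t ∈ T, t ≠ 0 ∧ p - 1 ∣ t ∧ p ∣ 1 + t) → ∃ e, (p, e) ∈ P)
    (he : ∀ q ∈ P, q.1 ^ q.2 ∣ M ∧ ∀ t ∈ T, ¬ Nat.totient (q.1 ^ (q.2 + 1)) ∣ t) :
    ∀ m, cnt G m ≠ 0 → m ∣ M := by
  intro m hm
  rw [Nat.dvd_iff_prime_pow_dvd_dvd]
  intro p k hp hk
  rcases Nat.eq_zero_or_pos k with rfl | hkpos
  · simp
  have hp1 : cnt G p ≠ 0 := hc.down _ _ hm ((dvd_pow_self p hkpos.ne').trans hk)
  obtain ⟨e, hpe⟩ := hP p hp ⟨cnt G p, hc.mem _ hp1, hp1, Nat.totient_prime hp ▸ hc.phi _ hp1, by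
    have h := hc.frob p (hc.div _ hp1)
    rwa [hp.sum_divisors, hc.one, add_comm] at h⟩
  obtain ⟨h1, h2⟩ := he _ hpe
  refine (pow_dvd_pow p ?_).trans h1
  by_contra hlt
  have h3 := hc.down _ _ hm ((pow_dvd_pow p (show e + 1 ≤ k by omega)).trans hk)
  exact h2 _ (hc.mem _ h3) (hc.phi _ h3)

end Cfsg.Agent.SmallSimple.OrderType
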