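import Cfsg.Agent.Lib.SmallSimple.BlockSearch
import Cfsg.Agent.Lib.Blocks.DihedralOrder
import Cfsg.Agent.Lib.Blocks.FrobNormalizerThree

/-!
# Pairs of involutions with a product of order `p`

For `C(P) = P`, `|N(P)| = e p` and an exceptional character of degree `p - e`, the principal block
gives an equation between the degrees and the values at an involution.
-/

set_option autoImplicit false

namespace Cfsg.Agent.SmallSimple.PairEquation

open Cfsg

universe u

variable {G : Type u} [Group G] [Fintype G] [IsSimpleGroup G]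

/-- In a group with a self-centralizing `P` of order `p` the number of ways to write a `p`-singular element
as a product of two involutions of a given class is `0` or `p`, and does not depend on the element. -/
theorem exists_count {p : ℕ} [hp : Fact p.Prime] (hp2 : p ≠ 2)
    (P : Sylow p G) (hP : Nat.card P = p)
    (hC : Nat.card (Subgroup.centralizer ((P : Subgroup G) : Set G)) = p)
    {z : G} (hz : orderOf z = 2) (L : Finset G) (hL : ∀ v, v ∈ L ↔ IsConj z v) :
    ∃ m : ℕ, (m = 0 ∨ m = p) ∧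
      ∀ w : G, p ∣ orderOf w → Nat.card {u : G // u ∈ L ∧ u * w ∈ L} = m := by
  classical
  have hPC : (P : Subgroup G) = Subgroup.centralizer ((P : Subgroup G) : Set G) := by
    haveI : IsCyclic (P : Subgroup G) := isCyclic_of_prime_card hP
    exact Subgroup.eq_of_le_of_card_ge (Subgroup.le_centralizer _) (by rw [hC, hP])
  have hzp : ∀ c ∈ (P : Subgroup G), c ≠ 1 → Subgroup.zpowers c = (P : Subgroup G) := fun c hc hc1 =>
    Subgroup.eq_of_le_of_card_ge (Subgroup.zpowers_le.2 hc) (by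
      rw [Nat.card_zpowers]
      have hd := Subgroup.orderOf_dvd_natCard _ hc
      rw [hP] at hd
      rw [hP, ((Nat.dvd_prime hp.out).1 hd).resolve_left (fun h => hc1 (orderOf_eq_one_iff.1 h))])
  have hgen : ∀ c ∈ (P : Subgroup G), c ≠ 1 → ∀ g : G, g * c = c * g → g ∈ (P : Subgroup G) := by
    intro c hc hc1 g hg
    rw [hPC, ← hzp c hc hc1]
    refine Subgroup.mem_centralizer_iff.2 fun y hy => ?_
    obtain ⟨i, rfl⟩ := hy
    exact ((show Commute g c from hg).zpow_right i).eq.symm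
  have hsing : ∀ w : G, p ∣ orderOf w → ∃ g : G, ∃ c ∈ (P : Subgroup G), c ≠ 1 ∧ w = g * c * g⁻¹ := by
    intro w hw
    obtain ⟨k, hk⟩ := hw
    have hk0 : k ≠ 0 := fun h => (orderOf_pos w).ne' (by rw [hk, h, mul_zero])
    have hwk : orderOf (w ^ k) = p := by
      rw [orderOf_pow' w hk0, hk, Nat.gcd_mul_left_left, Nat.mul_div_cancel _ (Nat.pos_of_ne_zero hk0)]
    have hpg : IsPGroup p (Subgroup.zpowers (w ^ k)) :=
      IsPGroup.of_card (n := 1) (by rw [Nat.card_zpowers, hwk, pow_one])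
    obtain ⟨Q, hQ⟩ := hpg.exists_le_sylow
    obtain ⟨g, hg⟩ := MulAction.exists_smul_eq G P Q
    have hmem : (g⁻¹ * w * g) ^ k ∈ (P : Subgroup G) := by
      have h := hQ (Subgroup.mem_zpowers (w ^ k))
      rw [← hg] at h
      simpa [Sylow.coe_subgroup_smul, Subgroup.mem_pointwise_smul_iff_inv_smul_mem, MulAut.smul_def] using h
    have hne : (g⁻¹ * w * g) ^ k ≠ 1 := fun h => by
      have e : (g⁻¹ * w * g) ^ k = g⁻¹ * w ^ k * g := by simpa using conj_pow (i := k) (a := g⁻¹) (b := w)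
      rw [e] at h
      have h1 : w ^ k = 1 := by
        calc w ^ k = g * (g⁻¹ * w ^ k * g) * g⁻¹ := by group
          _ = 1 := by rw [h]; group
      rw [h1, orderOf_one] at hwk
      exact hp.out.one_lt.ne hwk
    refine ⟨g, _, hgen _ hmem hne _ (Commute.self_pow (g⁻¹ * w * g) k).eq, fun h => hne ?_, by group⟩
    rw [h, one_pow]
  have hLinv : ∀ v ∈ L, v * v = 1 := by
    intro v hv
    obtain ⟨g, rfl⟩ := isConj_iff.1 ((hL v).1 hv)
    calc g * z * g⁻¹ * (g * z * g⁻¹) = g * z ^ 2 * g⁻¹ := by rw [pow_two]; group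
      _ = 1 := by rw [← hz, pow_orderOf_eq_one]; group
  -- the members of the class inverting `P`
  have hinvall : ∀ c ∈ (P : Subgroup G), c ≠ 1 → ∀ u : G, u * u = 1 → u * c * u = c⁻¹ →
      ∀ d ∈ (P : Subgroup G), u * d * u = d⁻¹ := by
    intro c hc hc1 u huu hu d hd
    rw [← hzp c hc hc1] at hd
    obtain ⟨i, rfl⟩ := hd
    have hui : u⁻¹ = u := inv_eq_of_mul_eq_one_right huu
    have h := conj_zpow (i := i) (a := u) (b := c)
    rw [hui, hu, inv_zpow] at h
    exact h.symm
  set T : Set G := {v | v ∈ L ∧ ∀ d ∈ (P : Subgroup G), v * d * v = d⁻¹} with hT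
  -- a product with a member of `P`
  have hmove : ∀ v ∈ T, ∀ c ∈ (P : Subgroup G), v * c ∈ T := by
    intro v hv c hc
    have hvv := hLinv v hv.1
    have hcop : (2 : ℕ).Coprime (orderOf c) := by
      have hd := Subgroup.orderOf_dvd_natCard _ hc
      rw [hP] at hd
      exact Nat.Coprime.coprime_dvd_right hd ((Nat.coprime_primes Nat.prime_two hp.out).2 hp2.symm)
    obtain ⟨k, hk⟩ := exists_pow_eq_self_of_coprime hcop
    set b := c ^ k with hb
    have hbP : b ∈ (P : Subgroup G) := pow_mem hc k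
    have hb2 : b * b = c := by
      rw [← hk, ← pow_two, hb, ← pow_mul, ← pow_mul, mul_comm]
    have hconj : v * c = b⁻¹ * v * b⁻¹⁻¹ := by
      rw [← hv.2 b hbP, ← hb2]
      rw [show v * b * v * v * (v * b * v)⁻¹ = v * b * (v * v) * (v⁻¹ * b⁻¹ * v⁻¹) by group, hvv,
        inv_eq_of_mul_eq_one_right hvv]
      calc v * (b * b) = v * b * b := by group
        _ = v * b * 1 * (v * b⁻¹ * v) := by rw [hv.2 b⁻¹ (inv_mem hbP), inv_inv, mul_one]
    refine ⟨(hL _).2 (((hL v).1 hv.1).trans (isConj_iff.2 ⟨b⁻¹, hconj.symm⟩)), fun d hd => ?_⟩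
    have hcd : c * d * c⁻¹ = d := by
      rw [hPC] at hc
      rw [← Subgroup.mem_centralizer_iff.1 hc d hd, mul_assoc, mul_inv_cancel, mul_one]
    calc v * c * d * (v * c) = v * (c * d * c⁻¹) * v * (v * c * v) * c := by
          rw [show v * (c * d * c⁻¹) * v * (v * c * v) * c = v * (c * d * c⁻¹) * (v * v) * c * v * c by group, hvv]
          group
      _ = v * d * v * c⁻¹ * c := by rw [hcd, hv.2 c hc]
      _ = d⁻¹ := by rw [hv.2 d hd]; group
  refine ⟨Nat.card T, ?_, fun w hw => ?_⟩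
  · rcases T.eq_empty_or_nonempty with h | ⟨v₀, hv₀⟩
    · left
      rw [h, Nat.card_coe_set_eq, Set.ncard_empty]
    · right
      rw [← hP]
      symm
      refine Nat.card_congr (Equiv.ofBijective (fun c : (P : Subgroup G) => (⟨v₀ * c, hmove v₀ hv₀ c c.2⟩ : T)) ⟨?_, ?_⟩)
      · intro a b h
        exact Subtype.ext (mul_left_cancel (congrArg Subtype.val h))
      · rintro ⟨v, hv⟩
        have hvv := hLinv v hv.1
        have hv0v := hLinv v₀ hv₀.1
        obtain ⟨c, hc, hc1⟩ : ∃ c ∈ (P : Subgroup G), c ≠ 1 := by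
          refine (P : Subgroup G).bot_or_exists_ne_one.resolve_left fun hb => ?_
          have h1 : Nat.card (P : Subgroup G) = 1 := by rw [hb, Subgroup.card_bot]
          exact hp.out.one_lt.ne' (hP.symm.trans h1)
        have hmem : v₀ * v ∈ (P : Subgroup G) := by
          refine hgen c hc hc1 _ ?_
          calc v₀ * v * c = v₀ * (v * c * v) * v := by
                rw [show v₀ * (v * c * v) * v = v₀ * v * c * (v * v) by group, hvv, mul_one]
            _ = v₀ * c⁻¹ * v₀ * (v₀ * v) := by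
                rw [hv.2 c hc, show v₀ * c⁻¹ * v₀ * (v₀ * v) = v₀ * c⁻¹ * (v₀ * v₀) * v by group, hv0v, mul_one]
            _ = c * (v₀ * v) := by rw [hv₀.2 _ (inv_mem hc), inv_inv]
        refine ⟨⟨v₀ * v, hmem⟩, Subtype.ext ?_⟩
        show v₀ * (v₀ * v) = v
        rw [← mul_assoc, hv0v, one_mul]
  · obtain ⟨g, c, hc, hc1, rfl⟩ := hsing w hw
    have hconjL : ∀ v : G, v ∈ L ↔ g⁻¹ * v * g ∈ L := fun v => by
      rw [hL, hL]
      have e : IsConj v (g⁻¹ * v * g) := isConj_iff.2 ⟨g⁻¹, by group⟩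
      exact ⟨fun h => h.trans e, fun h => h.trans e.symm⟩
    refine Nat.card_congr (Equiv.ofBijective (fun v => (⟨g⁻¹ * v.1 * g, ?_, ?_⟩ : T)) ⟨?_, ?_⟩)
    · exact (hconjL _).1 v.2.1
    · have h1 := hLinv _ ((hconjL _).1 v.2.1)
      have h2 := hLinv _ ((hconjL _).1 v.2.2)
      rw [show g⁻¹ * (v.1 * (g * c * g⁻¹)) * g = g⁻¹ * v.1 * g * c by group] at h2
      refine hinvall c hc hc1 _ h1 (eq_inv_of_mul_eq_one_left ?_)
      rw [← h2]; group
    · intro a b h
      exact Subtype.ext (mul_left_cancel (mul_right_cancel (congrArg Subtype.val h)))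
    · rintro ⟨v, hv⟩
      refine ⟨⟨g * v * g⁻¹, ?_, ?_⟩, Subtype.ext (show g⁻¹ * (g * v * g⁻¹) * g = v by group)⟩
      · rw [hconjL, show g⁻¹ * (g * v * g⁻¹) * g = v by group]
        exact hv.1
      · rw [hconjL, show g⁻¹ * (g * v * g⁻¹ * (g * c * g⁻¹)) * g = v * c by group]
        exact (hmove v hv c hc).1

/-- The equations of the principal block. -/
theorem block_equations (hnc : ¬ IsMulCommutative G) {p e : ℕ} [hp : Fact p.Prime] (he2 : 2 ≤ e)
    (hep : 2 * e < p) (P : Sylow p G) (hP : Nat.card P = p)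
    (hC : Nat.card (Subgroup.centralizer ((P : Subgroup G) : Set G)) = p)
    (hN : Nat.card (Subgroup.normalizer ((P : Subgroup G) : Set G)) = e * p)
    {M : Ideal AlgInt} [M.IsPrime] (hM : IsPModular p M)
    {ψ : IrrCharacter G} (hψB : ψ ∈ principalBlock M G) (hψ : charDegree (ψ : G → ℂ) + e = p) :
    ∃ (X : Finset (IrrCharacter G)) (εX : IrrCharacter G → ℤ),
      X.card + 1 = e ∧
      (∀ χ ∈ X, χ ≠ CT.trivIrr G ∧ (εX χ = 1 ∨ εX χ = -1) ∧
        (charDegree (χ : G → ℂ) : ℤ) ≡ εX χ [ZMOD p]) ∧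
      (∀ g : G, ¬ p ∣ orderOf g →
        1 + ∑ χ ∈ X, (εX χ : ℂ) * (χ : G → ℂ) g + (ψ : G → ℂ) g = 0) ∧
      ∀ z : G, orderOf z = 2 → ∃ m : ℕ, (m = 0 ∨ m = p) ∧
        ((Subgroup.centralizer ({z} : Set G)).index : ℂ) ^ 2 *
          (1 + ∑ χ ∈ X, (εX χ : ℂ) * ((χ : G → ℂ) z ^ 2 / (χ : G → ℂ) 1) +
            (ψ : G → ℂ) z ^ 2 / (ψ : G → ℂ) 1) = (m : ℂ) * (Nat.card G : ℂ) := by
  classical
  have hrel : (Blocks.D1.cC P).relIndex (Blocks.D1.cN P) = e := by
    have hle : Subgroup.centralizer ((P : Subgroup G) : Set G) ≤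
        Subgroup.normalizer ((P : Subgroup G) : Set G) := Subgroup.centralizer_le_normalizer _
    have h := Subgroup.card_mul_index ((Subgroup.centralizer ((P : Subgroup G) : Set G)).subgroupOf
      (Subgroup.normalizer ((P : Subgroup G) : Set G)))
    rw [Nat.card_congr (Subgroup.subgroupOfEquivOfLe hle).toEquiv, hC, hN] at h
    exact Nat.eq_of_mul_eq_mul_left hp.out.pos (h.trans (mul_comm e p))
  obtain ⟨X, Y, εX, ε, hdvd, hXY, hdis, hXc, hYc, hX, hε, hY, hag, hrel'⟩ :=
    Blocks.D1.exists_principal_structure hM P hP hrel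
  set triv := CT.trivIrr G with htriv
  have hdeg1 : charDegree (triv : G → ℂ) = 1 := by simp [charDegree, htriv, CT.trivIrr_apply]
  have hsmall : ∀ k : ℤ, (p : ℤ) ∣ k → k ≠ 0 → (p : ℤ) ≤ |k| := fun k h h0 => Int.le_of_dvd (abs_pos.2 h0) ((dvd_abs _ _).2 h)
  have hψY : ψ ∈ Y := by
    refine (hXY ▸ hψB : ψ ∈ X ∪ Y).resolve_left fun hx => ?_
    obtain ⟨hs, hm, -⟩ := hX ψ hx
    have hd := Int.modEq_iff_dvd.1 hm
    have e1 : (charDegree (ψ : G → ℂ) : ℤ) = p - e := by omega
    rw [e1] at hd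
    have := hsmall (εX ψ - (p - e) + p) (dvd_add hd (dvd_refl _)) (by rcases hs with h | h <;> rw [h] <;> omega)
    rcases hs with h | h <;> rw [h] at this <;> rw [abs_of_pos (by omega)] at this <;> omega
  have hεneg : ε = -1 := by
    refine hε.resolve_left fun h => ?_
    have hd := Int.modEq_iff_dvd.1 (hY ψ hψY)
    rw [h, one_mul, show (charDegree (ψ : G → ℂ) : ℤ) = p - e by omega] at hd
    have := hsmall ((e : ℤ) - (p - e) + p) (dvd_add hd (dvd_refl _)) (by omega)
    rw [abs_of_pos (by omega)] at this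
    omega
  have htX : triv ∈ X := by
    refine (hXY ▸ Blocks.trivIrr_mem_principalBlock : triv ∈ X ∪ Y).resolve_right fun hy => ?_
    have hd := Int.modEq_iff_dvd.1 (hY triv hy)
    rw [hεneg, hdeg1, Nat.cast_one, show (-1 : ℤ) * e - 1 = -((e : ℤ) + 1) by ring, dvd_neg] at hd
    have := hsmall _ hd (by omega)
    rw [abs_of_pos (by omega)] at this
    omega
  obtain ⟨x, hxP, hx1⟩ : ∃ x ∈ (P : Subgroup G), x ≠ 1 := by
    refine (P : Subgroup G).bot_or_exists_ne_one.resolve_left fun hb => ?_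
    have h1 : Nat.card (P : Subgroup G) = 1 := by rw [hb, Subgroup.card_bot]
    exact hp.out.one_lt.ne' (hP.symm.trans h1)
  have hεt : εX triv = 1 := by
    have h := (hX triv htX).2.2 x hxP hx1 1 (one_mem _) (by rw [orderOf_one]; exact hp.out.not_dvd_one)
    rw [htriv, CT.trivIrr_apply] at h
    exact_mod_cast h.symm
  have hψt : ψ ≠ triv := fun h => Set.disjoint_left.1 hdis htX (h ▸ hψY)
  set X' := X.toFinset.erase triv with hX'
  have hrelation : ∀ g : G, ¬ p ∣ orderOf g →
      1 + ∑ χ ∈ X', (εX χ : ℂ) * (χ : G → ℂ) g + (ψ : G → ℂ) g = 0 := by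
    intro g hg
    have h := hrel' ψ hψY g hg
    rw [finsum_mem_eq_toFinset_sum, ← Finset.add_sum_erase _ _ (Set.mem_toFinset.2 htX),
      hεt, hεneg, htriv, CT.trivIrr_apply] at h
    push_cast at h
    rw [one_mul] at h
    linear_combination -h
  refine ⟨X', εX, ?_, fun χ hχ => ?_, hrelation, fun z hz => ?_⟩
  · rw [hX', Finset.card_erase_of_mem (Set.mem_toFinset.2 htX), ← Set.ncard_eq_toFinset_card',
      ← Nat.card_coe_set_eq, hXc]
    omega
  · obtain ⟨hne, hmem⟩ := Finset.mem_erase.1 hχ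
    obtain ⟨hs, hm, -⟩ := hX χ (Set.mem_toFinset.1 hmem)
    exact ⟨hne, hs, hm⟩
  set L : Finset G := Finset.univ.filter (fun v => IsConj z v) with hLdef
  have hL : ∀ v, v ∈ L ↔ IsConj z v := fun v => by simp [hLdef]
  obtain ⟨m, hm01, hm⟩ := exists_count (by omega) P hP hC hz L hL
  refine ⟨m, hm01, ?_⟩
  have hLcard : (Subgroup.centralizer ({z} : Set G)).index = L.card := by
    have hset : (L : Set G) = {v | IsConj z v} := Set.ext fun v => hL v
    rw [← Set.ncard_coe_finset, hset, show {v : G | IsConj z v} = (ConjClasses.mk z).carrier from Set.ext fun v => by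
        rw [ConjClasses.mem_carrier_iff_mk_eq, ConjClasses.mk_eq_mk_iff_isConj, Set.mem_setOf_eq]
        exact isConj_comm,
      ← ConjAct.orbit_eq_carrier_conjClasses, ← MulAction.index_stabilizer,
      ConjAct.stabilizer_eq_centralizer]
    rfl
  have hLinv : ∀ v ∈ L, v * v = 1 := by
    intro v hv
    obtain ⟨g, rfl⟩ := isConj_iff.1 ((hL v).1 hv)
    calc g * z * g⁻¹ * (g * z * g⁻¹) = g * z ^ 2 * g⁻¹ := by rw [pow_two]; group
      _ = 1 := by rw [← hz, pow_orderOf_eq_one]; group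
  set Φ : G → ℂ := fun g => 1 + ∑ χ ∈ X', (εX χ : ℂ) * (χ : G → ℂ) g + (ψ : G → ℂ) g with hΦ
  have hΦreg : ∀ g : G, ¬ p ∣ orderOf g → Φ g = 0 := hrelation
  have hs0 : ∀ χ : IrrCharacter G, χ ≠ triv → ∑ g, (χ : G → ℂ) g = 0 := by
    intro χ hχ
    have h := CT.irr_inner_subtype χ triv
    rw [if_neg hχ, classInner, mul_eq_zero] at h
    have h' := h.resolve_left (inv_ne_zero (Nat.cast_ne_zero.2 Nat.card_pos.ne'))
    simpa [htriv, CT.trivIrr_apply] using h'
  have hΦsum : ∑ g, Φ g = (Nat.card G : ℂ) := by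
    simp only [hΦ, Finset.sum_add_distrib]
    rw [Finset.sum_comm, Finset.sum_eq_zero (s := X') fun χ hχ => by
      rw [← Finset.mul_sum, hs0 χ (Finset.mem_erase.1 hχ).1, mul_zero]]
    simp [hs0 ψ hψt, Nat.card_eq_fintype_card]
  have hLHS : ∑ w ∈ L ×ˢ L, Φ (w.1 * w.2) = (m : ℂ) * (Nat.card G : ℂ) := by
    rw [Finset.sum_product]
    have hstep : ∀ u ∈ L, ∑ v ∈ L, Φ (u * v) = ∑ w, if u * w ∈ L then Φ w else 0 := by
      intro u hu
      rw [← Finset.sum_filter]
      refine Finset.sum_nbij' (fun v => u * v) (fun w => u * w) (fun v hv => ?_) (fun w hw => ?_)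
        (fun v _ => ?_) (fun w _ => ?_) (fun v _ => rfl)
      · simpa [← mul_assoc, hLinv u hu] using hv
      · simpa using hw
      · simp [← mul_assoc, hLinv u hu]
      · simp [← mul_assoc, hLinv u hu]
    rw [Finset.sum_congr rfl hstep, Finset.sum_comm, ← hΦsum, Finset.mul_sum]
    refine Finset.sum_congr rfl fun w _ => ?_
    by_cases hw : p ∣ orderOf w
    · rw [← Finset.sum_filter, Finset.sum_const, nsmul_eq_mul, ← hm w hw,
        Nat.subtype_card (L.filter fun u => u * w ∈ L) (fun u => by simp)]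
    · simp [hΦreg w hw]
  rw [← hLHS, hLcard]
  simp only [hΦ, Finset.sum_add_distrib]
  rw [Finset.sum_comm (t := X')]
  simp only [← Finset.mul_sum, Blocks.sum_pairs_class _ L hL, Finset.sum_const, Finset.card_product,
    nsmul_eq_mul, mul_one]
  push_cast
  rw [mul_add, mul_add, Finset.mul_sum]
  simp only [pow_two]
  congr 1
  · congr 1
    · ring
    · refine Finset.sum_congr rfl fun χ _ => ?_
      ring
  · ring

end Cfsg.Agent.SmallSimple.PairEquation
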