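import Cfsg.Agent.Lib.SmallSimple.ThreePrimes
import Cfsg.Agent.Lib.SmallSimple.PrimePairEquation
import Cfsg.Agent.Lib.SmallSimple.BlockCongr
import Cfsg.Agent.Lib.SmallSimple.BlockFrobenius
import Cfsg.Agent.Lib.SmallSimple.Alternating
import Cfsg.Agent.Lib.SmallSimple.RecognizePrime
import Cfsg.Agent.S4503
import Cfsg.Agent.S4504
import Cfsg.Agent.S0253

/-!
# Simple groups of order `p * r * q ^ b`
-/

set_option autoImplicit false

namespace Cfsg.Agent.SmallSimple.PrimePrimePow

open Cfsg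
open scoped ComplexConjugate

universe u

/-- `2 ^ j + 1` and `2 ^ (j + 1) + 1` are not both primes above three. -/
theorem not_fermat_pair {j : ℕ} (hj : 2 ≤ j) (h1 : (2 ^ j + 1).Prime) (h2 : (2 ^ (j + 1) + 1).Prime) : False := by
  have h4 : 4 ≤ 2 ^ j := le_trans (by norm_num) (Nat.pow_le_pow_right two_pos hj)
  have key : 2 ^ j % 3 = 1 ∨ 2 ^ j % 3 = 2 := by
    have := Nat.pow_mod 2 j 3
    have h3 : ¬ 3 ∣ 2 ^ j := fun h => by
      have := (Nat.prime_dvd_prime_iff_eq Nat.prime_three Nat.prime_two).1 (Nat.prime_three.dvd_of_dvd_pow h)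
      omega
    omega
  rcases key with h | h
  · have := (Nat.prime_dvd_prime_iff_eq Nat.prime_three h2).1 (by rw [pow_succ]; omega)
    rw [pow_succ] at this
    omega
  · have := (Nat.prime_dvd_prime_iff_eq Nat.prime_three h1).1 (by omega)
    omega

/-- An integer that is divided by `d` up to an algebraic integer is divisible by `d`. -/
theorem int_dvd_of_isIntegral {d : ℕ} {n : ℤ} (hd : d ≠ 0) (h : IsIntegral ℤ ((n : ℂ) / (d : ℂ))) :
    (d : ℤ) ∣ n := by
  rw [Int.natCast_dvd]
  refine CT.dvd_of_isIntegral_div hd ?_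
  rcases Int.natAbs_eq n with e | e
  · rw [e, Int.cast_natCast] at h; exact h
  · rw [e, Int.cast_neg, Int.cast_natCast, neg_div] at h
    simpa using h.neg

variable {G : Type u} [Group G] [Finite G] [IsSimpleGroup G]

theorem faithful (hnc : ¬ IsMulCommutative G) (χ : IrrCharacter G) (hχ : χ ≠ CT.trivIrr G) {g : G}
    (hg : (χ : G → ℂ) g = (χ : G → ℂ) 1) : g = 1 := by
  classical
  haveI := Fintype.ofFinite G
  obtain ⟨n, ρ, hρ, hρc⟩ := χ.2
  rw [← hρc] at hg
  have h1 : ρ g = 1 := (CT.rep_eq_one_iff ρ g).2 hg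
  rcases (MonoidHom.normal_ker ρ).eq_bot_or_eq_top with h | h
  · exact Subgroup.mem_bot.1 (h ▸ MonoidHom.mem_ker.2 h1)
  · exfalso
    have hconst : ∀ x : G, (χ : G → ℂ) x = (χ : G → ℂ) 1 := fun x => by
      rw [← hρc]
      refine (CT.rep_eq_one_iff ρ x).1 (MonoidHom.mem_ker.1 ?_)
      rw [h]; exact Subgroup.mem_top x
    have h0 := CT.irr_inner_subtype χ (CT.trivIrr G)
    rw [if_neg hχ, classInner] at h0
    simp only [hconst, CT.trivIrr_apply, map_one, mul_one, Finset.sum_const, Finset.card_univ, nsmul_eq_mul,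
      mul_eq_zero, inv_eq_zero, Nat.cast_eq_zero, Fintype.card_ne_zero, Nat.card_pos.ne', false_or] at h0
    exact CT.irr_one_ne_zero χ.2 h0

/-- The case `e = p - r`. -/
theorem case_minus [Fintype G] (hnc : ¬ IsMulCommutative G) {p r b j : ℕ} [hp : Fact p.Prime] (hr : r.Prime)
    (hp2 : p ≠ 2) (hr2 : r ≠ 2) (hcard : Nat.card G = p * r * 2 ^ b) (hj : 1 ≤ j) (hjb : j ≤ b)
    (hpr : r + 2 ^ j = p) (hej : 2 ^ j ∣ p - 1) (hlt : 2 * 2 ^ j < p) (P : Sylow p G)
    (hP : Nat.card P = p) (hC : Nat.card (Subgroup.centralizer ((P : Subgroup G) : Set G)) = p)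
    (hN : Nat.card (Subgroup.normalizer ((P : Subgroup G) : Set G)) = 2 ^ j * p)
    {M : Ideal AlgInt} [M.IsPrime] (hM : IsPModular p M)
    {ψ : IrrCharacter G} (hψB : ψ ∈ principalBlock M G) (hψ : charDegree (ψ : G → ℂ) = r) :
    Nat.card G = 60 := by
  classical
  have h2j : 2 ≤ 2 ^ j := Nat.le_self_pow (by omega) 2
  have hr3 : 3 ≤ r := by have := hr.two_le; omega
  have hp3 : 3 < p := by omega
  obtain ⟨X, εX, hXc, hX, hrel, heq⟩ := PairEquation.block_equations hnc h2j hlt P hP hC hN hM hψB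
    (by rw [hψ, hpr])
  -- the central involution
  haveI : Fact (Nat.Prime 2) := ⟨Nat.prime_two⟩
  obtain ⟨Q⟩ := (inferInstance : Nonempty (Sylow 2 G))
  have h2G : 2 ∣ Nat.card G := hcard ▸ Dvd.dvd.mul_left (dvd_pow_self 2 (by omega)) _
  haveI : Nontrivial (Q : Subgroup G) := by
    refine (Subgroup.nontrivial_iff_ne_bot _).mpr fun e => ?_
    have := Q.dvd_card_of_dvd_card h2G
    rw [e, Subgroup.card_bot] at this
    omega
  haveI : Nontrivial (Subgroup.center (Q : Subgroup G)) := Q.2.center_nontrivial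
  obtain ⟨z₀, hz₀⟩ : ∃ z₀ : Subgroup.center (Q : Subgroup G), orderOf z₀ = 2 := by
    refine exists_prime_orderOf_dvd_card' 2 ?_
    obtain ⟨n, hn⟩ := IsPGroup.iff_card.mp (Q.2.to_subgroup (Subgroup.center (Q : Subgroup G)))
    rw [hn]
    refine dvd_pow_self 2 fun h0 => ?_
    rw [h0, pow_zero] at hn
    exact (Finite.one_lt_card (α := Subgroup.center (Q : Subgroup G))).ne' hn
  set z : G := ((z₀ : (Q : Subgroup G)) : G) with hzdef
  have hz : orderOf z = 2 := by rw [hzdef, Subgroup.orderOf_coe, Subgroup.orderOf_coe, hz₀]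
  have hcard' : Nat.card G = 2 ^ b * r ^ 1 * p := by rw [hcard]; ring
  have hcard'' : Nat.card G = 2 ^ b * p ^ 1 * r := by rw [hcard]; ring
  have hpr' : p ≠ r := by omega
  have hQ : Nat.card Q = 2 ^ b := by
    rw [Q.card_eq_multiplicity, hcard, Nat.factorization_mul (mul_ne_zero hp.out.ne_zero hr.ne_zero)
      (pow_ne_zero b two_ne_zero), Nat.factorization_mul hp.out.ne_zero hr.ne_zero]
    simp [Nat.prime_two.factorization_pow, hp.out.factorization, hr.factorization, hp2, hr2]
  set C := Subgroup.centralizer ({z} : Set G) with hCz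
  have hQC : (Q : Subgroup G) ≤ C := fun w hw => by
    rw [hCz, Subgroup.mem_centralizer_singleton_iff]
    exact congrArg Subtype.val (Subgroup.mem_center_iff.mp z₀.2 ⟨w, hw⟩)
  have hCcard : Nat.card C = 2 ^ b := by
    have hnd : ∀ ℓ : ℕ, ℓ.Prime → ℓ ∣ Nat.card C → ℓ = 2 := by
      intro ℓ hl hld
      haveI : Fact ℓ.Prime := ⟨hl⟩
      obtain ⟨x₀, hx₀⟩ := exists_prime_orderOf_dvd_card' (G := C) ℓ hld
      have hx : orderOf (x₀ : G) = ℓ := by rw [Subgroup.orderOf_coe, hx₀]
      have hcomm : Commute (x₀ : G) z := Subgroup.mem_centralizer_singleton_iff.mp x₀.2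
      have hd : ℓ ∣ Nat.card G := hld.trans (Subgroup.card_subgroup_dvd_card _)
      rw [hcard] at hd
      rcases hl.dvd_mul.mp hd with h | h
      · rcases hl.dvd_mul.mp h with h | h
        · exact absurd hcomm (ThreePrimes.not_commute hnc Nat.prime_two hr hp.out hr2.symm hp2.symm
            hpr'.symm hcard' (hx.trans ((Nat.prime_dvd_prime_iff_eq hl hp.out).1 h)) hz)
        · exact absurd hcomm (ThreePrimes.not_commute hnc Nat.prime_two hp.out hr hp2.symm hr2.symm
            hpr' hcard'' (hx.trans ((Nat.prime_dvd_prime_iff_eq hl hr).1 h)) hz)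
      · exact (Nat.prime_dvd_prime_iff_eq hl Nat.prime_two).1 (hl.dvd_of_dvd_pow h)
    have hpow := Nat.eq_prime_pow_of_unique_prime_dvd (n := Nat.card C) Nat.card_pos.ne'
      fun {d} hd hdd => hnd d hd hdd
    obtain ⟨S, hS⟩ := (IsPGroup.of_card hpow).exists_le_sylow
    refine le_antisymm ?_ (hQ ▸ Nat.le_of_dvd Nat.card_pos (Subgroup.card_dvd_of_le hQC))
    calc Nat.card C ≤ Nat.card S := Nat.le_of_dvd Nat.card_pos (Subgroup.card_dvd_of_le hS)
      _ = 2 ^ b := by rw [S.card_eq_multiplicity, ← Q.card_eq_multiplicity, hQ]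
  have hidx : C.index = p * r := by
    have h := C.card_mul_index
    rw [hCcard, hcard, mul_comm (2 ^ b)] at h
    exact Nat.eq_of_mul_eq_mul_right (pow_pos two_pos b) h
  obtain ⟨m, hm, hmain⟩ := heq z hz
  have hzp : ¬ p ∣ orderOf z := by rw [hz]; intro h; have := Nat.le_of_dvd two_pos h; omega
  have hrelz := hrel z hzp
  have hrel1 := hrel 1 (by rw [orderOf_one]; exact hp.out.not_dvd_one)
  obtain ⟨a, ha, haabs, ha4⟩ := value_involution_modEq hnc ψ hz
  rw [hψ] at haabs ha4
  rw [ha, hidx, hcard] at hmain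
  rw [Blocks.charDegree_cast ψ, hψ] at hmain
  rcases hj.eq_or_lt with hj1 | hj2
  · -- `e = 2`
    subst hj1
    rw [pow_one] at hpr hXc
    obtain ⟨χ, hχeq⟩ := Finset.card_eq_one.1 (show X.card = 1 by omega)
    have hχ : χ ∈ X := hχeq ▸ Finset.mem_singleton_self χ
    obtain ⟨hne, hsign, hmod⟩ := hX χ hχ
    rw [hχeq, Finset.sum_singleton] at hmain hrelz hrel1
    set x := charDegree (χ : G → ℂ) with hx
    rw [Blocks.charDegree_cast ψ, hψ, Blocks.charDegree_cast χ, ← hx] at hrel1
    have hε : εX χ = -1 := by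
      refine hsign.resolve_left fun h => ?_
      rw [h, Int.cast_one, one_mul] at hrel1
      norm_cast at hrel1
      omega
    rw [hε] at hrel1 hmain hrelz
    have hxr : x = r + 1 := by
      have h : ((x : ℕ) : ℂ) = ((r + 1 : ℕ) : ℂ) := by push_cast at hrel1 ⊢; linear_combination -hrel1
      exact_mod_cast h
    -- `r + 1` is a power of two
    have hxdvd : x ∣ Nat.card G := Blocks.charDegree_dvd_card χ
    have hco : Nat.Coprime x (p * r) := by
      refine Nat.Coprime.mul_right ?_ ?_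
      · exact ((hp.out.coprime_iff_not_dvd).2 fun h => by have := Nat.le_of_dvd (by omega) h; omega).symm
      · exact ((hr.coprime_iff_not_dvd).2 fun h => by
          rw [hxr, Nat.dvd_add_right (dvd_refl r)] at h
          exact hr.not_dvd_one h).symm
    obtain ⟨i, -, hi⟩ := (Nat.dvd_prime_pow Nat.prime_two).1 (hco.dvd_of_dvd_mul_left (hcard ▸ hxdvd))
    have hr5 : r = 3 := by
      have h3 : r % 3 = 0 ∨ p % 3 = 0 := by
        have : ¬ 3 ∣ 2 ^ i := fun h => by
          have := (Nat.prime_dvd_prime_iff_eq Nat.prime_three Nat.prime_two).1 (Nat.prime_three.dvd_of_dvd_pow h)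
          omega
        omega
      rcases h3 with h | h
      · exact ((Nat.prime_dvd_prime_iff_eq Nat.prime_three hr).1 (Nat.dvd_of_mod_eq_zero h)).symm
      · have := ((Nat.prime_dvd_prime_iff_eq Nat.prime_three hp.out).1 (Nat.dvd_of_mod_eq_zero h))
        omega
    obtain ⟨A, hA, hAabs, hA4⟩ := value_involution_modEq hnc χ hz
    rw [← hx] at hAabs hA4
    rw [hA, ha] at hrelz
    rw [hA, Blocks.charDegree_cast χ, ← hx] at hmain
    have hp5 : p = 5 := by omega
    have hx4 : x = 4 := by omega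
    subst hr5 hp5
    rw [hx4] at hmain hAabs hA4
    have haA : 1 - A + a = 0 := by
      have h : ((1 - A + a : ℤ) : ℂ) = ((0 : ℤ) : ℂ) := by push_cast at hrelz ⊢; linear_combination hrelz
      exact_mod_cast h
    have hane : a ≠ 3 := fun h => by
      have h1 : z = 1 := faithful hnc ψ (fun e => by
        rw [e] at hψ
        simp [charDegree, CT.trivIrr_apply] at hψ) (by rw [ha, Blocks.charDegree_cast ψ, hψ, h]; norm_num)
      rw [h1, orderOf_one] at hz
      omega
    have hA0 : A = 0 := by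
      have hd := Int.modEq_iff_dvd.1 hA4
      omega
    have ha1 : a = -1 := by omega
    rw [hA0, ha1] at hmain
    have hm2 : m * 2 ^ b = 20 := by
      have h : ((m * 2 ^ b : ℕ) : ℂ) = ((20 : ℕ) : ℂ) := by
        push_cast at hmain ⊢
        linear_combination (-(1 : ℂ) / 15) * hmain
      exact_mod_cast h
    rcases hm with rfl | rfl
    · omega
    · omega
  · -- `e` divisible by four
    exfalso
    have h4j : 4 ∣ 2 ^ j := ⟨2 ^ (j - 2), by rw [show (4 : ℕ) = 2 ^ 2 by norm_num, ← pow_add]; congr 1; omega⟩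
    have hp4 : 4 ∣ p - 1 := h4j.trans hej
    have hr4 : (r : ℤ) % 4 = 1 := by
      obtain ⟨c, hc⟩ := h4j
      obtain ⟨d, hd⟩ := hp4
      omega
    have hterm : ∀ χ ∈ X, ∃ K : ℤ, (r : ℂ) * ((εX χ : ℂ) * ((χ : G → ℂ) z ^ 2 / (χ : G → ℂ) 1)) = ((4 * K : ℤ) : ℂ) := by
      intro χ hχ
      obtain ⟨hne, hsign, hmod⟩ := hX χ hχ
      obtain ⟨A, hA, -, -⟩ := value_involution_modEq hnc χ hz
      set x := charDegree (χ : G → ℂ) with hx
      have hx2 := two_le_charDegree hnc hne
      rw [← hx] at hx2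
      have hmx : x % p = 1 ∨ x % p = p - 1 := by
        have hd := Int.modEq_iff_dvd.1 hmod
        rcases hsign with h | h
        · left
          rw [h] at hd
          obtain ⟨k, hk⟩ := hd
          have h' : ((x % p : ℕ) : ℤ) = 1 := by
            push_cast
            rw [show (x : ℤ) = 1 + (p : ℤ) * (-k) by linarith, Int.add_mul_emod_self_left,
              Int.emod_eq_of_lt (by norm_num) (by omega)]
          exact_mod_cast h'
        · right
          rw [h] at hd
          obtain ⟨k, hk⟩ := hd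
          have h' : ((x % p : ℕ) : ℤ) = (p : ℤ) - 1 := by
            push_cast
            rw [show (x : ℤ) = ((p : ℤ) - 1) + (p : ℤ) * (-k - 1) by linarith, Int.add_mul_emod_self_left,
              Int.emod_eq_of_lt (by omega) (by omega)]
          omega
      have hxp : Nat.Coprime x p := ((hp.out.coprime_iff_not_dvd).2 fun h => by
        have := Nat.mod_eq_zero_of_dvd h; omega).symm
      have hxd : x ∣ r * 2 ^ b := hxp.dvd_of_dvd_mul_left (by
        have h := Blocks.charDegree_dvd_card χ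
        rw [hcard, mul_assoc] at h
        exact h)
      obtain ⟨x₁, x₂, hx₁, hx₂, hxx⟩ := Nat.dvd_mul.1 hxd
      obtain ⟨i, -, rfl⟩ := (Nat.dvd_prime_pow Nat.prime_two).1 hx₂
      have hi : 2 ≤ i := by
        by_contra hi
        push Not at hi
        rcases (Nat.dvd_prime hr).1 hx₁ with rfl | rfl <;> interval_cases i
        · simp only [pow_zero, mul_one] at hxx; omega
        · simp only [pow_one, one_mul] at hxx
          rw [← hxx, Nat.mod_eq_of_lt (by omega)] at hmx
          omega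
        · simp only [pow_zero, mul_one] at hxx
          rw [← hxx, Nat.mod_eq_of_lt (by omega)] at hmx
          omega
        · simp only [pow_one] at hxx
          have h2r : x₁ * 2 % p = x₁ * 2 ∨ x₁ * 2 % p = x₁ * 2 - p := by
            rcases lt_or_ge (x₁ * 2) p with h | h
            · exact Or.inl (Nat.mod_eq_of_lt h)
            · right
              rw [Nat.mod_eq_sub_mod h, Nat.mod_eq_of_lt (by omega)]
          rw [← hxx] at hmx
          have hpcase : p = 2 * 2 ^ j + 1 ∨ p + 1 = 2 * 2 ^ j := by omega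
          rcases hpcase with h | h
          · refine not_fermat_pair (j := j) hj2 (?_ : (2 ^ j + 1).Prime) ?_
            · have : x₁ = 2 ^ j + 1 := by omega
              rwa [← this]
            · have : p = 2 ^ (j + 1) + 1 := by rw [pow_succ]; omega
              rw [← this]; exact hp.out
          · omega
      have hint : IsIntegral ℤ (centralChar (χ : G → ℂ) z) := Blocks.isIntegral_centralChar χ.2 z
      rw [centralChar, ← hCz, hidx, hA, Blocks.charDegree_cast χ, ← hx] at hint
      have hdvd : (x : ℤ) ∣ (p : ℤ) * r * A := int_dvd_of_isIntegral (by omega) (by push_cast at hint ⊢; exact hint)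
      have h2A : ((2 ^ i : ℕ) : ℤ) ∣ A := by
        have hco : IsCoprime ((2 ^ i : ℕ) : ℤ) ((p : ℤ) * r) := by
          rw [← Nat.cast_mul, Int.isCoprime_iff_nat_coprime]
          simp only [Int.natAbs_natCast]
          refine Nat.Coprime.pow_left i (Nat.Coprime.mul_right ?_ ?_)
          · exact (Nat.coprime_primes Nat.prime_two hp.out).2 hp2.symm
          · exact (Nat.coprime_primes Nat.prime_two hr).2 hr2.symm
        refine hco.dvd_of_dvd_mul_left (dvd_trans ?_ hdvd)
        exact Int.natCast_dvd_natCast.2 ⟨x₁, by rw [← hxx, mul_comm]⟩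
      obtain ⟨w, hw⟩ := h2A
      obtain ⟨k, hk⟩ : ∃ k, 2 ^ i = 4 * k := ⟨2 ^ (i - 2), by rw [show (4 : ℕ) = 2 ^ 2 by norm_num, ← pow_add]; congr 1; omega⟩
      obtain ⟨r', hr'⟩ : ∃ r', r = x₁ * r' := hx₁
      refine ⟨εX χ * (r' : ℤ) * k * w ^ 2, ?_⟩
      rw [hA, Blocks.charDegree_cast χ, ← hx, ← hxx, hw, hk, hr']
      have hk0 : (k : ℂ) ≠ 0 := Nat.cast_ne_zero.2 fun h => by rw [h, mul_zero] at hk; exact (pow_pos two_pos i).ne' hk
      have hx₁0 : (x₁ : ℂ) ≠ 0 := Nat.cast_ne_zero.2 fun h => by rw [h, zero_mul] at hr'; omega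
      push_cast
      field_simp
    choose! K hK using hterm
    set T : ℤ := ∑ χ ∈ X, K χ with hT
    have hsum : (r : ℂ) * ∑ χ ∈ X, (εX χ : ℂ) * ((χ : G → ℂ) z ^ 2 / (χ : G → ℂ) 1) = ((4 * T : ℤ) : ℂ) := by
      rw [Finset.mul_sum, Finset.sum_congr rfl hK, hT, Finset.mul_sum]
      push_cast
      rfl
    have hpC : (p : ℂ) ≠ 0 := Nat.cast_ne_zero.2 hp.out.ne_zero
    have hrC : (r : ℂ) ≠ 0 := Nat.cast_ne_zero.2 hr.ne_zero
    have hkey : (p : ℤ) * ((r : ℤ) + 4 * T + a ^ 2) = (m : ℤ) * 2 ^ b := by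
      apply Int.cast_injective (α := ℂ)
      push_cast at hsum hmain ⊢
      refine mul_left_cancel₀ (mul_ne_zero hpC hrC) ?_
      calc (p : ℂ) * r * ((p : ℂ) * ((r : ℂ) + 4 * (T : ℂ) + (a : ℂ) ^ 2))
          = ((p : ℂ) * r) ^ 2 * (1 + ∑ χ ∈ X, (εX χ : ℂ) * ((χ : G → ℂ) z ^ 2 / (χ : G → ℂ) 1) +
              (a : ℂ) ^ 2 / (r : ℂ)) := by
            revert hsum
            generalize (∑ χ ∈ X, (εX χ : ℂ) * ((χ : G → ℂ) z ^ 2 / (χ : G → ℂ) 1)) = S
            intro hsum
            field_simp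
            linear_combination -hsum
        _ = _ := by rw [hmain]; ring
    have ha' : a ^ 2 % 4 = 1 := by
      have h : a % 4 = 1 := by rw [ha4]; exact hr4
      rw [pow_two, Int.mul_emod, h]; norm_num
    have hb : (4 : ℤ) ∣ 2 ^ b := ⟨2 ^ (b - 2), by rw [show (4 : ℤ) = 2 ^ 2 by norm_num, ← pow_add]; congr 1; omega⟩
    rcases hm with rfl | rfl
    · rw [Nat.cast_zero, zero_mul, mul_eq_zero] at hkey
      have := hkey.resolve_left (by exact_mod_cast hp.out.ne_zero)
      omega
    · have h := mul_left_cancel₀ (by exact_mod_cast hp.out.ne_zero) hkey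
      rw [← h] at hb
      omega

/-- The classification when `r < p`. -/
theorem classify_lt (hnc : ¬ IsMulCommutative G) {p q r b : ℕ} (hp : p.Prime) (hq : q.Prime) (hr : r.Prime)
    (hpq : p ≠ q) (hqr : q ≠ r) (hrp : r < p) (hcard : Nat.card G = p * r * q ^ b) :
    Nat.card G = 60 ∨ (p = 7 ∧ Nonempty (G ≃* Matrix.ProjectiveSpecialLinearGroup (Fin 2) (ZMod p))) := by
  classical
  haveI := Fintype.ofFinite G
  haveI : Fact p.Prime := ⟨hp⟩
  haveI : Fact r.Prime := ⟨hr⟩
  have hpr : p ≠ r := by omega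
  have hfac : ∀ {s t : ℕ}, s.Prime → t.Prime → s ≠ t → s ≠ q → Nat.card G = s * t * q ^ b →
      ∀ S : Sylow s G, Nat.card S = s := by
    intro s t hs ht hst hsq hc S
    haveI : Fact s.Prime := ⟨hs⟩
    rw [S.card_eq_multiplicity, hc, Nat.factorization_mul (mul_ne_zero hs.ne_zero ht.ne_zero)
      (pow_ne_zero b hq.ne_zero), Nat.factorization_mul hs.ne_zero ht.ne_zero]
    simp [hq.factorization_pow, hs.factorization, ht.factorization, hst.symm, hsq.symm]
  obtain ⟨P⟩ := (inferInstance : Nonempty (Sylow p G))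
  obtain ⟨R⟩ := (inferInstance : Nonempty (Sylow r G))
  have hP := hfac hp hr hpr hpq hcard P
  have hR := hfac hr hp hpr.symm hqr.symm (by rw [hcard]; ring) R
  have hC : Nat.card (Subgroup.centralizer ((P : Subgroup G) : Set G)) = p := by
    have h : Subgroup.centralizer ((P : Subgroup G) : Set G) = (P : Subgroup G) :=
      ThreePrimes.centralizer_sylow (a := 1) (b := b) (p := r) (q := q) hr hq hqr.symm hpr.symm hpq.symm
        (by rw [hcard]; ring) P
    rw [h, hP]
  obtain ⟨e, he, he1, hen⟩ := sylow_relIndex hnc P hP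
  obtain ⟨e', he', he1', hen'⟩ := sylow_relIndex hnc R hR
  rw [hC] at hen
  have hr2 : r ≠ 2 := by
    rintro rfl
    exact he1' (Nat.dvd_one.1 he')
  have hr3 : 3 ≤ r := by have := hr.two_le; omega
  have hp2 : p ≠ 2 := by omega
  have hodd : p % 2 = 1 ∧ r % 2 = 1 := ⟨hp.eq_two_or_odd.resolve_left hp2, hr.eq_two_or_odd.resolve_left hr2⟩
  have he0 : e ≠ 0 := fun h => by rw [h, zero_dvd_iff] at he; omega
  -- a character of degree `r` in the principal block
  obtain ⟨M, hM⟩ := Blocks.exists_isPModular hp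
  haveI := hM.2.1.isPrime
  obtain ⟨x, hx⟩ := exists_prime_orderOf_dvd_card' (G := G) p (hcard ▸ Dvd.dvd.mul_right (dvd_mul_right p r) _)
  have horth := Blocks.weak_orthogonality' hM (Blocks.blockCoeff_mem_loc (Blocks.isPBlock_principalBlock (M := M) (G := G)))
    (g := x) (h := 1) (by rw [hx]) (by rw [orderOf_one]; exact hp.not_dvd_one)
  obtain ⟨ψ, hψB, hψt, hψq, hψp⟩ : ∃ ψ : IrrCharacter G, ψ ∈ principalBlock M G ∧ ψ ≠ CT.trivIrr G ∧
      ¬ q ∣ charDegree (ψ : G → ℂ) ∧ ¬ p ∣ charDegree (ψ : G → ℂ) := by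
    by_contra hno
    push Not at hno
    rw [Blocks.finsum_mem_irr, ← Finset.add_sum_erase _ _ (Finset.mem_univ (CT.trivIrr G)),
      if_pos Blocks.trivIrr_mem_principalBlock] at horth
    simp only [CT.trivIrr_apply, map_one, mul_one] at horth
    refine hq.one_lt.ne' (Nat.dvd_one.mp (CT.dvd_of_isIntegral_div hq.ne_zero ?_))
    rw [Nat.cast_one, eq_neg_of_add_eq_zero_left horth, neg_div, Finset.sum_div]
    refine IsIntegral.neg (IsIntegral.sum _ fun χ hχ => ?_)
    split_ifs with hB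
    · by_cases hqd : q ∣ charDegree (χ : G → ℂ)
      · obtain ⟨k, hk⟩ := hqd
        rw [Blocks.charDegree_cast, map_natCast, hk, Nat.cast_mul,
          show (χ : G → ℂ) x * ((q : ℂ) * (k : ℂ)) / (q : ℂ) = (χ : G → ℂ) x * k by
            have : (q : ℂ) ≠ 0 := Nat.cast_ne_zero.mpr hq.ne_zero
            field_simp]
        exact (Blocks.isIntegral_irr χ.2 _).mul (CT.isIntegral_natCast k)
      · obtain ⟨k, hk⟩ := Blocks.charDegree_dvd_card χ
        have hpk : ¬ p ∣ k := by
          rintro ⟨j, hj⟩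
          obtain ⟨i, hi⟩ := hno χ hB (Finset.mem_erase.1 hχ).1 hqd
          have h2 : p ∣ r * q ^ b := by
            refine ⟨i * j, Nat.eq_of_mul_eq_mul_left hp.pos ?_⟩
            rw [← mul_assoc, ← hcard, hk, hi, hj]; ring
          rcases hp.dvd_mul.mp h2 with h | h
          · exact hpr ((Nat.prime_dvd_prime_iff_eq hp hr).1 h)
          · exact hpq ((Nat.prime_dvd_prime_iff_eq hp hq).1 (hp.dvd_of_dvd_pow h))
        rw [ThreePrimes.vanish_of_defect_zero χ hk hpk (by rw [hx]), zero_mul, zero_div]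
        exact isIntegral_zero
    · rw [zero_div]; exact isIntegral_zero
  have hψr : charDegree (ψ : G → ℂ) = r := by
    have h := Blocks.charDegree_dvd_card ψ
    rw [hcard, mul_assoc] at h
    have h1 := ((hp.coprime_iff_not_dvd.2 hψp).symm).dvd_of_dvd_mul_left h
    have h2 := (Nat.Coprime.pow_right b (hq.coprime_iff_not_dvd.2 hψq).symm).dvd_of_dvd_mul_right h1
    refine ((Nat.dvd_prime hr).1 h2).resolve_left fun h3 => hψt (eq_trivIrr_of_charDegree_one hnc h3)
  have hmodcases := deg_mod_cases_general hnc P hP hC hen.symm ψ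
  have hep : e < p := by have := Nat.le_of_dvd (by omega) he; omega
  rw [hψr, Nat.mod_eq_of_lt hrp, Nat.mod_eq_of_lt hep] at hmodcases
  have hproper : r ≠ p - 1 := by omega
  rcases hmodcases with h | h | h | h | h
  · omega
  · omega
  · omega
  · -- `e = r`
    subst h
    have hfaith : ∀ g : G, (ψ : G → ℂ) g = (ψ : G → ℂ) 1 → g = 1 := fun g hg => faithful hnc ψ hψt hg
    have hdvd : p ∣ Nat.card G := hcard ▸ Dvd.dvd.mul_right (dvd_mul_right p r) _
    have hsq : ¬ p ^ 2 ∣ Nat.card G := fun hd => by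
      have h1 : p ^ 2 ∣ Nat.card P := by
        rw [P.card_eq_multiplicity]
        exact pow_dvd_pow p ((Nat.Prime.pow_dvd_iff_le_factorization hp Nat.card_pos.ne').1 hd)
      rw [hP] at h1
      have := Nat.le_of_dvd hp.pos h1
      nlinarith [hp.two_le]
    have hnn : ∀ H : Subgroup G, H.Normal → Nat.card H ≠ p := fun H hH hc => by
      rcases hH.eq_bot_or_eq_top with hb | hb <;> rw [hb] at hc
      · rw [Subgroup.card_bot] at hc; omega
      · rw [Subgroup.card_top, hcard, mul_assoc] at hc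
        have : r * q ^ b = 1 := Nat.eq_of_mul_eq_mul_left hp.pos (by rw [hc, mul_one])
        have := Nat.eq_one_of_mul_eq_one_right this
        omega
    have hbound := S4503.result p hp hdvd hsq hnn (ψ : G → ℂ) (CT.isCharacter_of_isIrr ψ.2) hfaith
    rw [hψr] at hbound
    have h2r : 2 * r + 1 ≤ p := by
      obtain ⟨c, hc⟩ := he
      rcases c with _ | _ | c
      · omega
      · omega
      · have : r * 2 ≤ p - 1 := hc ▸ Nat.mul_le_mul_left r (by omega)
        omega
    have hp' : 2 * r + 1 = p := by omega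
    obtain ⟨φ⟩ := S4504.result p hp hdvd hsq hnn (ψ : G → ℂ) (CT.isCharacter_of_isIrr ψ.2) hfaith (by rw [hψr]; exact hp')
    have hcen : Subgroup.center G = ⊥ := center_eq_bot hnc
    let ψ' : G ≃* Matrix.ProjectiveSpecialLinearGroup (Fin 2) (ZMod p) :=
      (((QuotientGroup.quotientMulEquivOfEq hcen).trans QuotientGroup.quotientBot).symm).trans φ
    have hcardPSL : Nat.card G * 2 = p * (p - 1) * (p + 1) := by
      rw [Nat.card_congr ψ'.toEquiv]
      have h := RecognizePSL.natCard_PSL2 (F := ZMod p) (by rw [ZMod.card]; exact hodd.1)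
      rwa [ZMod.card] at h
    rw [hcard, show p - 1 = 2 * r by omega] at hcardPSL
    have hqb : q ^ b = p + 1 := by
      refine Nat.eq_of_mul_eq_mul_left (show 0 < 2 * (p * r) from Nat.mul_pos two_pos (Nat.mul_pos hp.pos hr.pos)) ?_
      linarith
    have hq2 : q = 2 := ((Nat.prime_dvd_prime_iff_eq Nat.prime_two hq).1
      (Nat.prime_two.dvd_of_dvd_pow (by rw [hqb]; omega))).symm
    subst hq2
    have h3 : ¬ 3 ∣ 2 ^ b := fun h => by
      have := (Nat.prime_dvd_prime_iff_eq Nat.prime_three Nat.prime_two).1 (Nat.prime_three.dvd_of_dvd_pow h)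
      omega
    have hr3' : r = 3 := by
      have : r % 3 = 0 ∨ p % 3 = 0 := by
        rcases (show r % 3 = 0 ∨ r % 3 = 1 ∨ r % 3 = 2 by omega) with h | h | h <;> omega
      rcases this with h | h
      · exact ((Nat.prime_dvd_prime_iff_eq Nat.prime_three hr).1 (Nat.dvd_of_mod_eq_zero h)).symm
      · have := (Nat.prime_dvd_prime_iff_eq Nat.prime_three hp).1 (Nat.dvd_of_mod_eq_zero h)
        omega
    exact Or.inr ⟨by omega, ⟨ψ'⟩⟩
  · -- `e = p - r`
    left
    have her : e + r = p := by omega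
    have hed : e ∣ Nat.card G :=
      (dvd_mul_right e p).trans (hen ▸ Subgroup.card_subgroup_dvd_card _)
    rw [hcard] at hed
    have hco : Nat.Coprime e (p * r) := by
      refine Nat.Coprime.mul_right ?_ ?_
      · exact ((hp.coprime_iff_not_dvd).2 fun h => by have := Nat.le_of_dvd (by omega) h; omega).symm
      · exact ((hr.coprime_iff_not_dvd).2 fun h => hpr ((Nat.prime_dvd_prime_iff_eq hr hp).1
          (her ▸ dvd_add h (dvd_refl r))).symm).symm
    obtain ⟨j, hjb, rfl⟩ := (Nat.dvd_prime_pow hq).1 (hco.dvd_of_dvd_mul_left hed)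
    have hq2 : q = 2 := ((Nat.prime_dvd_prime_iff_eq Nat.prime_two hq).1
      (Nat.prime_two.dvd_of_dvd_pow (show 2 ∣ q ^ j by omega))).symm
    subst hq2
    have hj : 1 ≤ j := Nat.pos_of_ne_zero fun h => he1 (by rw [h, pow_zero])
    have hlt : 2 * 2 ^ j < p := by
      obtain ⟨c, hc⟩ := he
      rcases c with _ | _ | c
      · omega
      · omega
      · have : 2 ^ j * 2 ≤ p - 1 := hc ▸ Nat.mul_le_mul_left (2 ^ j) (by omega)
        omega
    exact case_minus hnc hr hp2 hr2 hcard hj hjb (by omega) he hlt P hP hC hen.symm hM hψB hψr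

/-- The classification. -/
theorem classify (hnc : ¬ IsMulCommutative G) {p q r b : ℕ} (hp : p.Prime) (hq : q.Prime) (hr : r.Prime)
    (hpq : p ≠ q) (hpr : p ≠ r) (hqr : q ≠ r) (hcard : Nat.card G = p * r * q ^ b) :
    (∃ (F : Type) (_ : Field F) (_ : Fintype F), Fintype.card F = 5 ∧
      Nonempty (G ≃* Matrix.ProjectiveSpecialLinearGroup (Fin 2) F)) ∨
    (∃ (F : Type) (_ : Field F) (_ : Fintype F), Fintype.card F = 7 ∧
      Nonempty (G ≃* Matrix.ProjectiveSpecialLinearGroup (Fin 2) F)) := by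
  have key : ∀ {s t : ℕ}, s.Prime → t.Prime → s ≠ q → q ≠ t → t < s → Nat.card G = s * t * q ^ b →
      (∃ (F : Type) (_ : Field F) (_ : Fintype F), Fintype.card F = 5 ∧
        Nonempty (G ≃* Matrix.ProjectiveSpecialLinearGroup (Fin 2) F)) ∨
      (∃ (F : Type) (_ : Field F) (_ : Fintype F), Fintype.card F = 7 ∧
        Nonempty (G ≃* Matrix.ProjectiveSpecialLinearGroup (Fin 2) F)) := by
    intro s t hs ht hsq hqt hlt hc
    rcases classify_lt hnc hs hq ht hsq hqt hlt hc with h | ⟨rfl, h⟩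
    · haveI : Fact (Nat.Prime 5) := ⟨by norm_num⟩
      obtain ⟨f⟩ := mulEquiv_alternating_five h
      obtain ⟨g⟩ := S0253.result (F := ZMod 5) (ZMod.card 5)
      exact Or.inl ⟨ZMod 5, inferInstance, inferInstance, ZMod.card 5, ⟨f.trans g.symm⟩⟩
    · haveI : Fact (Nat.Prime 7) := ⟨hs⟩
      exact Or.inr ⟨ZMod 7, inferInstance, inferInstance, ZMod.card 7, h⟩
  rcases lt_or_gt_of_ne hpr with h | h
  · exact key hr hp hqr.symm hpq.symm h (by rw [hcard]; ring)
  · exact key hp hr hpq hqr h hcard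

end Cfsg.Agent.SmallSimple.PrimePrimePow
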