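import Cfsg.Agent.Lib.SmallSimple.RangeExtraLow
import Cfsg.Agent.Lib.SmallSimple.BlockCongr
import Cfsg.Agent.Lib.SmallSimple.Order5040
import Cfsg.Agent.S0985

/-!
# The remaining orders between 3641 and 6232
-/

set_option autoImplicit false

namespace Cfsg.Agent.SmallSimple

open Subgroup

section
variable {G : Type*} [Group G] [Finite G]

/-- An element of order `p` normalizing a subgroup fixes a number of its elements congruent to the
order modulo `p`. -/
theorem card_inf_centralizer_modEq {p : ℕ} [Fact p.Prime] (Q : Subgroup G) {x : G} (hx : orderOf x = p)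
    (hxN : x ∈ normalizer (Q : Set G)) :
    Nat.card ↥(Q ⊓ centralizer ({x} : Set G)) ≡ Nat.card Q [MOD p] := by
  have hle : zpowers x ≤ normalizer (Q : Set G) := zpowers_le.2 hxN
  let f : zpowers x →* MulAut Q := Q.normalizerMonoidHom.comp (Subgroup.inclusion hle)
  letI : MulAction (zpowers x) Q := MulAction.compHom Q f
  have hval : ∀ (g : zpowers x) (q : Q), ((g • q : Q) : G) = (g : G) * q * (g : G)⁻¹ := fun g q => rfl
  have hp : IsPGroup p (zpowers x) := IsPGroup.of_card (n := 1) (by rw [Nat.card_zpowers, hx, pow_one])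
  refine (Nat.ModEq.trans ?_ (hp.card_modEq_card_fixedPoints Q).symm)
  suffices h : Nonempty (↥(Q ⊓ centralizer ({x} : Set G)) ≃ MulAction.fixedPoints (zpowers x) Q) by
    obtain ⟨e⟩ := h
    exact congrArg (· % p) (Nat.card_congr e)
  refine ⟨
    { toFun := fun a => ⟨⟨a.1, a.2.1⟩, fun g => Subtype.ext ?_⟩
      invFun := fun q => ⟨q.1.1, q.1.2, ?_⟩
      left_inv := fun a => rfl
      right_inv := fun q => rfl }⟩
  · rw [hval]
    obtain ⟨i, hi⟩ := g.2
    have hc : Commute (a.1 : G) x := mem_centralizer_singleton_iff.1 a.2.2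
    have hi' : x ^ i = (g : G) := hi
    rw [← hi']
    show x ^ i * a.1 * (x ^ i)⁻¹ = a.1
    rw [(hc.zpow_right i).eq.symm, mul_inv_cancel_right]
  · have h := congrArg Subtype.val (q.2 ⟨x, mem_zpowers x⟩)
    rw [hval] at h
    show ((q.1 : Q) : G) ∈ centralizer ({x} : Set G)
    rw [mem_centralizer_singleton_iff]
    exact (mul_inv_eq_iff_eq_mul.1 h).symm

end

variable {G : Type*} [Group G] [Finite G] [IsSimpleGroup G]

theorem index_le_six_false {N : ℕ} (hN : Nat.card G = N) (hN' : ¬ N ∣ Nat.factorial 6) {H : Subgroup G}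
    (hH : H ≠ ⊤) (h : H.index ≤ 6) : False := by
  have hd := card_dvd_factorial_index hH
  rw [hN] at hd
  exact hN' (hd.trans (Nat.factorial_dvd_factorial h))

theorem ne_top_of_normalizes (hnc : ¬ IsMulCommutative G) {D : Subgroup G} (hD : D ≠ ⊥) (hDc : IsMulCommutative D) :
    normalizer (D : Set G) ≠ ⊤ := by
  intro h
  rcases (normalizer_eq_top_iff.1 h).eq_bot_or_eq_top with h' | h'
  · exact hD h'
  · exact hnc ⟨⟨fun a b => congrArg Subtype.val (hDc.is_comm.comm (⟨a, h' ▸ mem_top a⟩ : D) ⟨b, h' ▸ mem_top b⟩)⟩⟩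

/-- Two Sylow subgroups meeting in a subgroup of index `p`. -/
theorem exists_big_intersection {p : ℕ} [hp : Fact p.Prime] {a : ℕ} (ha : ∀ P : Sylow p G, Nat.card P = p ^ (a + 1))
    (hn : ¬ Nat.card (Sylow p G) ≡ 1 [MOD p ^ 2]) :
    ∃ (P R : Sylow p G), P ≠ R ∧ Nat.card ↥((P : Subgroup G) ⊓ (R : Subgroup G)) = p ^ a ∧
      (P : Subgroup G) ≤ normalizer (((P : Subgroup G) ⊓ (R : Subgroup G) : Subgroup G) : Set G) ∧
      (R : Subgroup G) ≤ normalizer (((P : Subgroup G) ⊓ (R : Subgroup G) : Subgroup G) : Set G) := by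
  obtain ⟨P, R, hne, hidx⟩ := S0985.result p 2 hn
  rw [show (2 : ℕ) - 1 = 1 from rfl, pow_one] at hidx
  set D := (P : Subgroup G) ⊓ (R : Subgroup G) with hD
  have hidx' : (D.subgroupOf (P : Subgroup G)).index ≤ p := by
    rwa [hD, inf_comm, inf_subgroupOf_right]
  have hcard := card_mul_index (D.subgroupOf (P : Subgroup G))
  rw [Nat.card_congr (subgroupOfEquivOfLe (inf_le_left : D ≤ P)).toEquiv, ha] at hcard
  obtain ⟨i, hi⟩ := (P.2.to_le (inf_le_left : D ≤ P)).exists_card_eq
  have hlt : Nat.card D < p ^ (a + 1) := by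
    refine lt_of_le_of_ne ((card_le_of_le (inf_le_left : D ≤ P)).trans_eq (ha P)) fun h => hne ?_
    have h1 : D = (P : Subgroup G) := eq_of_le_of_card_ge inf_le_left (by rw [h, ha])
    have h2 : D = (R : Subgroup G) := eq_of_le_of_card_ge inf_le_right (by rw [h, ha])
    exact Sylow.ext (h1.symm.trans h2)
  have hDc : Nat.card D = p ^ a := by
    rw [hi] at hlt hcard ⊢
    have h1 := (Nat.pow_lt_pow_iff_right hp.out.one_lt).1 hlt
    have h2 : p ^ (a + 1) ≤ p ^ i * p := by rw [← hcard]; exact Nat.mul_le_mul_left _ hidx'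
    rw [← pow_succ] at h2
    have h3 := (Nat.pow_le_pow_iff_right hp.out.one_lt).1 h2
    congr 1
    omega
  have hnorm : ∀ S : Sylow p G, D ≤ S → (S : Subgroup G) ≤ normalizer (D : Set G) := by
    intro S hS
    have h1 := card_mul_index (D.subgroupOf (S : Subgroup G))
    rw [Nat.card_congr (subgroupOfEquivOfLe hS).toEquiv, ha, hDc, pow_succ] at h1
    have h2 : (D.subgroupOf (S : Subgroup G)).index = (Nat.card (S : Subgroup G)).minFac := by
      rw [ha, Nat.Prime.pow_minFac hp.out (by omega)]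
      exact Nat.eq_of_mul_eq_mul_left (pow_pos hp.out.pos a) h1
    haveI := Subgroup.normal_of_index_eq_minFac_card h2
    exact le_normalizer_of_normal_subgroupOf hS
  exact ⟨P, R, hne, hDc, hnorm P inf_le_left, hnorm R inf_le_right⟩

theorem two_le_sylow_of_le {p : ℕ} [Fact p.Prime] {M : Subgroup G} {P R : Sylow p G} (hne : P ≠ R)
    (hP : (P : Subgroup G) ≤ M) (hR : (R : Subgroup G) ≤ M) : Nat.card (Sylow p M) ≠ 1 := by
  intro h
  haveI := (Nat.card_eq_one_iff_unique.1 h).1
  have h1 := congrArg (fun S : Sylow p M => (S : Subgroup M).map M.subtype) (Subsingleton.elim (P.subtype hP) (R.subtype hR))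
  simp only [Sylow.coe_subtype, subgroupOf_map_subtype] at h1
  rw [inf_eq_left.2 hP, inf_eq_left.2 hR] at h1
  exact hne (Sylow.ext h1)

theorem not_card_4500 (hnc : ¬ IsMulCommutative G) : Nat.card G ≠ 4500 := by
  intro hN
  haveI : Fact (Nat.Prime 5) := ⟨by norm_num⟩
  have hne := card_sylow_ne_one (p := 5) hnc (by rw [hN]; norm_num)
  obtain ⟨P⟩ : Nonempty (Sylow 5 G) := inferInstance
  obtain ⟨hd, hmod, hf, hmul, hP⟩ := sylow_number_cases hnc (a := 3) (m := 36) hN (by norm_num) (by norm_num) (by norm_num) P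
  have key : ∀ n ∈ Nat.divisors 36, n % 5 = 1 → n ≠ 1 → Range.factOK 4500 n = true → n = 36 := by decide +kernel
  have h36 := key _ (Nat.mem_divisors.2 ⟨hd, by norm_num⟩) hmod hne hf
  obtain ⟨P, R, hPR, hD, hPn, hRn⟩ := exists_big_intersection (p := 5) (a := 2)
    (fun S => card_sylow_of_eq (k := 3) (m := 36) S (by rw [hN]; norm_num) (by norm_num)) (by rw [h36]; decide)
  set D := (P : Subgroup G) ⊓ (R : Subgroup G)
  set M := normalizer (D : Set G) with hM
  have hMne := two_le_sylow_of_le hPR hPn hRn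
  have h := card_sylow_subgroup_mul P M hPn
  have hMd : Nat.card M ∣ 4500 := hN ▸ card_subgroup_dvd_card M
  have h125 : 125 ∣ Nat.card ↥(normalizer ((P : Subgroup G) : Set G) ⊓ M) := by
    rw [show (125 : ℕ) = 5 ^ 3 by norm_num, ← card_sylow_of_eq (k := 3) (m := 36) P (by rw [hN]; norm_num) (by norm_num)]
    exact card_dvd_of_le (le_inf le_normalizer hPn)
  have hn' : Nat.card (Sylow 5 M) ∣ 36 := by
    have h1 : Nat.card (Sylow 5 M) * 125 ∣ 36 * 125 := (mul_dvd_mul_left _ h125).trans (by rw [h]; exact hMd)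
    exact Nat.dvd_of_mul_dvd_mul_right (by norm_num) h1
  have key2 : ∀ n ∈ Nat.divisors 36, n % 5 = 1 → n ≠ 1 → 6 ≤ n := by decide
  have h6 := key2 _ (Nat.mem_divisors.2 ⟨hn', by norm_num⟩) (card_sylow_modEq_one 5 _) hMne
  haveI := IsPGroup.isMulCommutative_of_card_eq_prime_sq (p := 5) hD
  refine index_le_six_false hN (by decide) (ne_top_of_normalizes hnc (D := D) (fun h => by
    rw [h, card_bot] at hD; norm_num at hD) inferInstance) ?_
  have hi := card_mul_index M
  rw [hN] at hi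
  have h750 : 750 ≤ Nat.card M := by
    rw [← h]
    exact le_trans (by norm_num : 750 ≤ 6 * 125) (Nat.mul_le_mul h6 (Nat.le_of_dvd Nat.card_pos h125))
  change M.index ≤ 6
  by_contra hlt
  have : 750 * 7 ≤ Nat.card M * M.index := Nat.mul_le_mul h750 (by omega)
  omega

theorem not_card_4900 (hnc : ¬ IsMulCommutative G) : Nat.card G ≠ 4900 := by
  intro hN
  haveI : Fact (Nat.Prime 5) := ⟨by norm_num⟩
  have hne := card_sylow_ne_one (p := 5) hnc (by rw [hN]; norm_num)
  obtain ⟨P⟩ : Nonempty (Sylow 5 G) := inferInstance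
  obtain ⟨hd, hmod, hf, hmul, hP⟩ := sylow_number_cases hnc (a := 2) (m := 196) hN (by norm_num) (by norm_num) (by norm_num) P
  have key : ∀ n ∈ Nat.divisors 196, n % 5 = 1 → n ≠ 1 → n = 196 := by decide +kernel
  rw [key _ (Nat.mem_divisors.2 ⟨hd, by norm_num⟩) hmod hne] at hmul
  exact false_of_self_normalizing hnc (by rw [hN]; norm_num) P hP (by omega)

theorem not_card_5292 (hnc : ¬ IsMulCommutative G) : Nat.card G ≠ 5292 := by
  intro hN
  haveI : Fact (Nat.Prime 7) := ⟨by norm_num⟩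
  have hne := card_sylow_ne_one (p := 7) hnc (by rw [hN]; norm_num)
  obtain ⟨P⟩ : Nonempty (Sylow 7 G) := inferInstance
  obtain ⟨hd, hmod, hf, hmul, hP⟩ := sylow_number_cases hnc (a := 2) (m := 108) hN (by norm_num) (by norm_num) (by norm_num) P
  have key : ∀ n ∈ Nat.divisors 108, n % 7 = 1 → n ≠ 1 → n = 36 := by decide +kernel
  have h36 := key _ (Nat.mem_divisors.2 ⟨hd, by norm_num⟩) hmod hne
  have hall : ∀ S : Sylow 7 G, Nat.card S = 7 ^ 2 := fun S =>
    card_sylow_of_eq (k := 2) (m := 108) S (by rw [hN]; norm_num) (by norm_num)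
  obtain ⟨P, R, hPR, hD, hPn, hRn⟩ := exists_big_intersection (p := 7) (a := 1) hall (by rw [h36]; decide)
  set D := (P : Subgroup G) ⊓ (R : Subgroup G)
  set M := normalizer (D : Set G) with hM
  have hMne := two_le_sylow_of_le hPR hPn hRn
  have h := card_sylow_subgroup_mul P M hPn
  have hMd : Nat.card M ∣ 5292 := hN ▸ card_subgroup_dvd_card M
  have h49 : 49 ∣ Nat.card ↥(normalizer ((P : Subgroup G) : Set G) ⊓ M) := by
    rw [show (49 : ℕ) = 7 ^ 2 by norm_num, ← hall P]
    exact card_dvd_of_le (le_inf le_normalizer hPn)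
  have hn' : Nat.card (Sylow 7 M) ∣ 108 := by
    have h1 : Nat.card (Sylow 7 M) * 49 ∣ 108 * 49 := (mul_dvd_mul_left _ h49).trans (by rw [h]; exact hMd)
    exact Nat.dvd_of_mul_dvd_mul_right (by norm_num) h1
  have key2 : ∀ n ∈ Nat.divisors 108, n % 7 = 1 → n ≠ 1 → 36 ≤ n := by decide
  have h6 := key2 _ (Nat.mem_divisors.2 ⟨hn', by norm_num⟩) (card_sylow_modEq_one 7 _) hMne
  haveI : IsCyclic D := isCyclic_of_prime_card (hD.trans (pow_one 7))
  refine index_le_six_false hN (by decide) (ne_top_of_normalizes hnc (D := D) (fun h => by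
    rw [h, card_bot] at hD; norm_num at hD) IsCyclic.isMulCommutative) ?_
  have hi := card_mul_index M
  rw [hN] at hi
  have h750 : 1764 ≤ Nat.card M := by
    rw [← h]
    exact le_trans (by norm_num : 1764 ≤ 36 * 49) (Nat.mul_le_mul h6 (Nat.le_of_dvd Nat.card_pos h49))
  change M.index ≤ 6
  by_contra hlt
  have : 1764 * 7 ≤ Nat.card M * M.index := Nat.mul_le_mul h750 (by omega)
  omega

theorem not_card_6000 (hnc : ¬ IsMulCommutative G) : Nat.card G ≠ 6000 := by
  intro hN
  haveI : Fact (Nat.Prime 5) := ⟨by norm_num⟩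
  haveI : Fact (Nat.Prime 3) := ⟨Nat.prime_three⟩
  obtain ⟨n, e, c, hn, hnm, hn1, he, he1, hnec, hs, Q, hcard, hNc, hCc⟩ :=
    block_data 3 (m := 2000) (B := 77) hN (by norm_num) (by norm_num) (by norm_num) (by norm_num)
  have hf : Range.factOK 6000 n = true := hcard ▸ Range.factOK_sylow hnc hN (by norm_num)
  have hn0 : 0 < n := Nat.pos_of_ne_zero fun h => by simp [h] at hnm
  have key : ∀ n ∈ Nat.divisors 2000, n % 3 = 1 → n ≠ 1 → Range.factOK 6000 n = true →
      ∀ e ∈ Nat.divisors (3 - 1), e ≠ 1 → e ∣ 2000 / n → search 6000 3 77 e (e - 1) 1 1 = true →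
      2000 / n / e ≠ 1 → searchL (bigCands 6000 3 77) (2 * 3) 6000 3 e (e - 1) 1 1 = false := by decide +kernel
  have he0 : 0 < e := Nat.pos_of_ne_zero fun h => by simp [h] at he
  have hQ : Nat.card Q = 3 := by
    simpa using card_sylow_of_eq (k := 1) (m := 2000) Q (by rw [hN]; norm_num) (by norm_num)
  have hk := key n (Nat.mem_divisors.2 ⟨hn, by norm_num⟩) hnm hn1 hf e
    (Nat.mem_divisors.2 ⟨he, by norm_num⟩) he1 ⟨c, by rw [← hnec, Nat.mul_div_cancel_left _ hn0]⟩ hs
  rw [← hnec, Nat.mul_div_cancel_left _ hn0, Nat.mul_div_cancel_left _ he0] at hk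
  have hc : c = 1 := by
    by_contra hc
    exact Bool.false_ne_true ((hk hc).symm.trans (search_big hnc hN (by norm_num) Q hQ he1 hNc hCc hc))
  subst hc
  have hne := card_sylow_ne_one (p := 5) hnc (by rw [hN]; norm_num)
  obtain ⟨P⟩ : Nonempty (Sylow 5 G) := inferInstance
  obtain ⟨hd5, hmod5, hf5, hmul5, hP⟩ := sylow_number_cases hnc (a := 3) (m := 48) hN (by norm_num) (by norm_num) (by norm_num) P
  have key5 : ∀ n ∈ Nat.divisors 48, n % 5 = 1 → n ≠ 1 → Range.factOK 6000 n = true → n = 16 := by decide +kernel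
  rw [key5 _ (Nat.mem_divisors.2 ⟨hd5, by norm_num⟩) hmod5 hne hf5] at hmul5
  obtain ⟨y, hy⟩ := exists_prime_orderOf_dvd_card' (G := normalizer ((P : Subgroup G) : Set G)) 3
    (by rw [show Nat.card (normalizer ((P : Subgroup G) : Set G)) = 375 by omega]; norm_num)
  have hyo : orderOf (y : G) = 3 := by rw [orderOf_coe, hy]
  have h := card_inf_centralizer_modEq (p := 3) (P : Subgroup G) hyo y.2
  have hCy : Nat.card (centralizer ({(y : G)} : Set G)) = 3 := by
    rw [SmallSimple5040.card_centralizer_of_order Q hQ hyo, hCc]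
  set T := (P : Subgroup G) ⊓ centralizer ({(y : G)} : Set G)
  have h1 : Nat.card T ∣ 1 := by
    have h2 : Nat.card T ∣ Nat.gcd (5 ^ 3) 3 := by
      rw [← hP, ← hCy]
      exact Nat.dvd_gcd (card_dvd_of_le inf_le_left) (card_dvd_of_le inf_le_right)
    rwa [show Nat.gcd (5 ^ 3) 3 = 1 by norm_num] at h2
  rw [Nat.dvd_one.1 h1, hP] at h
  exact absurd h (by decide)

/-- The degrees allowed by a self-centralizing Sylow subgroup of prime order. -/
def degB (p e : ℕ) (d : ℕ) : Bool :=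
  decide (d % p = 0 ∨ d % p = 1 ∨ d % p = p - 1 ∨ d % p = e % p ∨ d % p = p - e)

theorem not_card_two_primes (hnc : ¬ IsMulCommutative G) {N p q m mq B : ℕ} [Fact p.Prime] [Fact q.Prime]
    (hN : Nat.card G = N) (hm : N = p * m) (hpm : ¬ p ∣ m) (hmq : N = q * mq) (hqm : ¬ q ∣ mq)
    (hB : N < (B + 1) * (B + 1)) (hnp : ¬ N.Prime) (eq : ℕ)
    (keyq : ∀ n ∈ Nat.divisors mq, n % q = 1 → n ≠ 1 → Range.factOK N n = true → ∀ e ∈ Nat.divisors (q - 1),
      e ≠ 1 → e ∣ mq / n → search N q B e (e - 1) 1 1 = true →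
      (mq / n / e ≠ 1 → searchL (bigCands N q B) (2 * q) N q e (e - 1) 1 1 = false) ∧
      (mq / n / e = 1 → e = eq))
    (key : ∀ n ∈ Nat.divisors m, n % p = 1 → n ≠ 1 → Range.factOK N n = true → ∀ e ∈ Nat.divisors (p - 1),
      e ≠ 1 → e ∣ m / n → search N p B e (e - 1) 1 1 = true →
      searchQ (degB q eq) ((cands N p B).filter fun s =>
          decide ((if m / n / e = 1 then 2 else 2 * p) ≤ s.natAbs) && degB q eq s.natAbs)
        (if m / n / e = 1 then 2 else 2 * p) N p e (e - 1) 1 1 = false) :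
    False := by
  classical
  obtain ⟨n', e', c', hn', hnm', hn1', he', he1', hnec', hs', Q, hcard', hNc', hCc'⟩ :=
    block_data q (m := mq) (B := B) hN hmq hqm hB hnp
  obtain ⟨n, e, c, hn, hnm, hn1, he, he1, hnec, hs, P, hcard, hNc, hCc⟩ :=
    block_data p (m := m) (B := B) hN hm hpm hB hnp
  have hfq : Range.factOK N n' = true := hcard' ▸ Range.factOK_sylow hnc hN (hmq ▸ dvd_mul_right q mq)
  have hfp : Range.factOK N n = true := hcard ▸ Range.factOK_sylow hnc hN (hm ▸ dvd_mul_right p m)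
  have hn0' : 0 < n' := Nat.pos_of_ne_zero fun h => by simp [h] at hnm'
  have hn0 : 0 < n := Nat.pos_of_ne_zero fun h => by simp [h] at hnm
  have hq2 := (Fact.out : q.Prime).two_le
  have hp2 := (Fact.out : p.Prime).two_le
  have he0' : 0 < e' := Nat.pos_of_dvd_of_pos he' (by omega)
  have hm0 : m ≠ 0 := fun h => hpm (h ▸ dvd_zero p)
  have hmq0 : mq ≠ 0 := fun h => hqm (h ▸ dvd_zero q)
  obtain ⟨k1, k2⟩ := keyq n' (Nat.mem_divisors.2 ⟨hn', hmq0⟩) hnm' hn1' hfq e'
    (Nat.mem_divisors.2 ⟨he', by omega⟩) he1' ⟨c', by rw [← hnec', Nat.mul_div_cancel_left _ hn0']⟩ hs'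
  rw [← hnec', Nat.mul_div_cancel_left _ hn0', Nat.mul_div_cancel_left _ he0'] at k1 k2
  have hQ : Nat.card Q = q := by
    simpa using card_sylow_of_eq (k := 1) (m := mq) Q (by rw [hN, hmq, pow_one]) hqm
  have hP : Nat.card P = p := by
    simpa using card_sylow_of_eq (k := 1) (m := m) P (by rw [hN, hm, pow_one]) hpm
  by_cases hc : c' = 1
  swap
  · exact Bool.false_ne_true ((k1 hc).symm.trans (search_big hnc hN hB Q hQ he1' hNc' hCc' hc))
  obtain rfl := k2 hc
  subst hc
  have hdeg : ∀ χ : IrrCharacter G, degB q e' (charDegree (χ : G → ℂ)) = true := fun χ =>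
    decide_eq_true (deg_mod_cases_general hnc Q hQ (by rw [hCc', mul_one]) (by rw [hNc', mul_one]) χ)
  have he0 : 0 < e := Nat.pos_of_dvd_of_pos he (by omega)
  have hme : m / n / e = c := by rw [← hnec, Nat.mul_div_cancel_left _ hn0, Nat.mul_div_cancel_left _ he0]
  have hk := key n (Nat.mem_divisors.2 ⟨hn, hm0⟩) hnm hn1 hfp e (Nat.mem_divisors.2 ⟨he, by omega⟩) he1
    ⟨c, by rw [← hnec, Nat.mul_div_cancel_left _ hn0]⟩ hs
  rw [hme] at hk
  refine Bool.false_ne_true (hk.symm.trans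
    (search_filter hnc hN hB P hP he1 hNc hCc _ (by split_ifs <;> omega) ?_ (degB q e') hdeg))
  intro M _ hM χ hχ hχt
  split_ifs with hc1
  · exact two_le_charDegree hnc hχt
  · by_contra hlt
    have h := card_centralizer_of_small hnc P hP hM hχ hχt (not_le.1 hlt)
    rw [hCc] at h
    exact hc1 ((mul_right_eq_self₀.1 h).resolve_right (Fact.out : p.Prime).ne_zero)

theorem not_card_4620 (hnc : ¬ IsMulCommutative G) : Nat.card G ≠ 4620 := by
  intro hN
  haveI : Fact (Nat.Prime 7) := ⟨by norm_num⟩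
  haveI : Fact (Nat.Prime 11) := ⟨by norm_num⟩
  exact not_card_two_primes hnc (p := 7) (q := 11) (m := 660) (mq := 420) (B := 67) hN (by norm_num) (by norm_num)
    (by norm_num) (by norm_num) (by norm_num) (by norm_num) 2 (by decide +kernel) (by decide +kernel)

theorem not_card_5460 (hnc : ¬ IsMulCommutative G) : Nat.card G ≠ 5460 := by
  intro hN
  haveI : Fact (Nat.Prime 7) := ⟨by norm_num⟩
  haveI : Fact (Nat.Prime 13) := ⟨by norm_num⟩
  exact not_card_two_primes hnc (p := 13) (q := 7) (m := 420) (mq := 780) (B := 73) hN (by norm_num) (by norm_num)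
    (by norm_num) (by norm_num) (by norm_num) (by norm_num) 3 (by decide +kernel) (by decide +kernel)

end Cfsg.Agent.SmallSimple
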